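import Cfsg.Agent.Lib.Lie.Suzuki.Basic

/-!
# The action of the Suzuki group on the ovoid

For `Cfsg.Sz F m`, the stabiliser of the ovoid in `SL₄(F)`:

* `uS`, `tS`, `wS`: generators; `pt`: the points
* `exists_move`: double transitivity
* `stab_two`, `stab_inf`: one and two point stabilisers
* `nat_card`: the order
* `equivLie`: the isomorphism with `Cfsg.Lie.Sz F (2 ^ (m + 1))`
-/

set_option autoImplicit false

namespace CfsgLib.Lie.Suzuki

open CfsgLib.Recog.SuzukiFix
open scoped Matrix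

variable {F : Type*} [Field F]

theorem charTwo_of_card [Fintype F] {m : ℕ} (hF : Fintype.card F = 2 ^ (2 * m + 1)) : CharP F 2 :=
  haveI := Fact.mk Nat.prime_two
  charP_of_card_eq_prime_pow hF

theorem exists_ne [Fintype F] {m : ℕ} (hm : 1 ≤ m) (hF : Fintype.card F = 2 ^ (2 * m + 1)) :
    ∃ c : F, c ≠ 0 ∧ c ≠ 1 := by
  have h2 : 2 < Fintype.card F := by
    rw [hF]
    calc 2 = 2 ^ 1 := rfl
      _ < 2 ^ (2 * m + 1) := Nat.pow_lt_pow_right (by norm_num) (by omega)
  classical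
  obtain ⟨c, -, hc⟩ := Finset.exists_mem_notMem_of_card_lt_card (s := {0, 1}) (t := Finset.univ)
    (lt_of_le_of_lt ((Finset.card_insert_le _ _).trans (by simp)) h2)
  simp at hc
  exact ⟨c, hc.1, hc.2⟩

variable [CharP F 2]

/-- The Tits endomorphism. -/
def th (F : Type*) [Field F] [CharP F 2] (m : ℕ) : F →+* F := iterateFrobenius F 2 (m + 1)

theorem th_apply (m : ℕ) (x : F) : th F m x = x ^ 2 ^ (m + 1) := iterateFrobenius_def 2 (m + 1) x

variable [Fintype F] {m : ℕ} (hF : Fintype.card F = 2 ^ (2 * m + 1))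

include hF in
theorem th_tits : IsTitsEndo (th F m) := fun x => by
  rw [th_apply, th_apply, ← pow_mul, show 2 ^ (m + 1) * 2 ^ (m + 1) = Fintype.card F * 2 by
    rw [hF]; ring, pow_mul, FiniteField.pow_card]

omit [Fintype F] in
theorem th_bij [Finite F] : Function.Bijective (th F m) :=
  ⟨(th F m).injective, Finite.surjective_of_injective (th F m).injective⟩

omit [Fintype F] in
theorem sl_smul_mk (g : Matrix.SpecialLinearGroup (Fin 4) F) {v : Fin 4 → F} (hv : v ≠ 0) :
    ∃ h : (g : Matrix (Fin 4) (Fin 4) F) *ᵥ v ≠ 0,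
      g • Projectivization.mk F v hv = Projectivization.mk F _ h := by
  refine ⟨fun h => hv ?_, rfl⟩
  have := congrArg ((g⁻¹ : Matrix.SpecialLinearGroup (Fin 4) F) : Matrix (Fin 4) (Fin 4) F).mulVec h
  rwa [Matrix.mulVec_mulVec, ← Matrix.SpecialLinearGroup.coe_mul, inv_mul_cancel,
    Matrix.SpecialLinearGroup.coe_one, Matrix.one_mulVec, Matrix.mulVec_zero] at this

/-- The point with given parameters. -/
def qpt (m : ℕ) (o : Option (F × F)) : Projectivization F (Fin 4 → F) :=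
  Projectivization.mk F (pvec (th F m) o) (pvec_ne_zero o)

omit [Fintype F] in
theorem qpt_inj : Function.Injective (qpt (F := F) m) := fun o o' h => by
  obtain ⟨c, hc⟩ := (Projectivization.mk_eq_mk_iff' F _ _ (pvec_ne_zero o) (pvec_ne_zero o')).1 h
  exact (pvec_inj hc).symm

omit [Fintype F] in
theorem ovoid_eq : Cfsg.suzukiOvoid F m = Set.range (qpt (F := F) m) := by
  have hf : ∀ x y : F, fQ (th F m) x y = x * y + x ^ (2 ^ (m + 1) + 2) + y ^ 2 ^ (m + 1) := fun x y => by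
    simp only [fQ, th_apply, pow_add]
  ext p
  constructor
  · rintro ⟨v, hv, rfl, rfl | ⟨x, y, rfl⟩⟩
    · exact ⟨none, rfl⟩
    · exact ⟨some (x, y), by simp only [qpt, pvec, hf]⟩
  · rintro ⟨_ | ⟨x, y⟩, rfl⟩
    · exact ⟨_, pvec_ne_zero (θ := th F m) none, rfl, Or.inl rfl⟩
    · exact ⟨_, pvec_ne_zero (θ := th F m) (some (x, y)), rfl, Or.inr ⟨x, y, by simp [pvec, hf]⟩⟩

omit [Fintype F] in
theorem smul_qpt (g : Matrix.SpecialLinearGroup (Fin 4) F) {o o' : Option (F × F)} {c : F}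
    (h : (g : Matrix (Fin 4) (Fin 4) F) *ᵥ pvec (th F m) o = c • pvec (th F m) o') :
    g • qpt m o = qpt m o' := by
  obtain ⟨hne, he⟩ := sl_smul_mk g (pvec_ne_zero (θ := th F m) o)
  rw [qpt, he]
  exact (Projectivization.mk_eq_mk_iff' F _ _ _ _).2 ⟨c, h.symm⟩

omit [Fintype F] in
theorem of_smul_qpt (g : Matrix.SpecialLinearGroup (Fin 4) F) {o o' : Option (F × F)}
    (h : g • qpt m o = qpt m o') :
    ∃ c : F, (g : Matrix (Fin 4) (Fin 4) F) *ᵥ pvec (th F m) o = c • pvec (th F m) o' := by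
  obtain ⟨hne, he⟩ := sl_smul_mk g (pvec_ne_zero (θ := th F m) o)
  rw [qpt, he] at h
  obtain ⟨c, hc⟩ := (Projectivization.mk_eq_mk_iff' F _ _ _ _).1 h
  exact ⟨c, hc.symm⟩

theorem mem_sz_of {g : Matrix.SpecialLinearGroup (Fin 4) F}
    (h : ∀ o, ∃ (o' : Option (F × F)) (c : F),
      (g : Matrix (Fin 4) (Fin 4) F) *ᵥ pvec (th F m) o = c • pvec (th F m) o') :
    g ∈ Cfsg.Sz F m := by
  rw [MulAction.mem_stabilizer_set' (ovoid_eq (F := F) (m := m) ▸ Set.finite_range _)]
  rw [ovoid_eq]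
  rintro _ ⟨o, rfl⟩
  obtain ⟨o', c, hc⟩ := h o
  exact ⟨o', (smul_qpt g hc).symm⟩

/-- The unitriangular generators. -/
def uS (hF : Fintype.card F = 2 ^ (2 * m + 1)) (a b : F) : Cfsg.Sz F m :=
  ⟨⟨uM (th F m) a b, det_uM a b⟩, mem_sz_of fun o => by
    rcases o with _ | ⟨x, y⟩
    · exact ⟨none, 1, by rw [one_smul]; exact uM_none a b⟩
    · exact ⟨_, 1, by rw [one_smul]; exact uM_some (th_tits hF) a b x y⟩⟩

/-- The torus. -/
def tS (hF : Fintype.card F = 2 ^ (2 * m + 1)) : Fˣ →* Cfsg.Sz F m where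
  toFun t := ⟨⟨tM (th F m) t, det_tM t.ne_zero⟩, mem_sz_of fun o => by
    rcases o with _ | ⟨x, y⟩
    · exact ⟨none, _, tM_none⟩
    · exact ⟨_, _, tM_some (th_tits hF) t.ne_zero x y⟩⟩
  map_one' := Subtype.ext (Subtype.ext (by
    ext i j
    fin_cases i <;> fin_cases j <;> simp [tM]))
  map_mul' s t := Subtype.ext (Subtype.ext (tM_mul (s : F) t).symm)

/-- The reversing element. -/
def wS (hF : Fintype.card F = 2 ^ (2 * m + 1)) : Cfsg.Sz F m :=
  ⟨⟨wM, det_wM⟩, mem_sz_of fun o => by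
    rcases o with _ | ⟨x, y⟩
    · exact ⟨some ((0 : F), (0 : F)), 1, by rw [one_smul]; exact wM_none⟩
    · by_cases h : x = 0 ∧ y = 0
      · obtain ⟨rfl, rfl⟩ := h
        exact ⟨none, 1, by rw [one_smul]; exact wM_zero⟩
      · exact ⟨_, _, wM_some (th_tits hF) (by tauto)⟩⟩

/-- The points as elements of the ovoid. -/
noncomputable def pt (F : Type*) [Field F] [CharP F 2] (m : ℕ) : Option (F × F) ≃ Cfsg.suzukiOvoid F m :=
  (Equiv.ofInjective (qpt m) qpt_inj).trans (Equiv.setCongr ovoid_eq.symm)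

omit [Fintype F] in
theorem pt_val (o : Option (F × F)) : (pt F m o : Projectivization F (Fin 4 → F)) = qpt m o := rfl

omit [Fintype F] in
theorem smul_pt (g : Cfsg.Sz F m) {o o' : Option (F × F)} {c : F}
    (h : ((g : Matrix.SpecialLinearGroup (Fin 4) F) : Matrix (Fin 4) (Fin 4) F) *ᵥ pvec (th F m) o =
      c • pvec (th F m) o') :
    g • pt F m o = pt F m o' :=
  Subtype.ext (smul_qpt _ h)

omit [Fintype F] in
theorem of_smul_pt (g : Cfsg.Sz F m) {o o' : Option (F × F)} (h : g • pt F m o = pt F m o') :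
    ∃ c : F, ((g : Matrix.SpecialLinearGroup (Fin 4) F) : Matrix (Fin 4) (Fin 4) F) *ᵥ
      pvec (th F m) o = c • pvec (th F m) o' :=
  of_smul_qpt _ (congrArg Subtype.val h)

theorem uS_none (a b : F) : uS hF a b • pt F m none = pt F m none :=
  smul_pt _ (c := 1) (by rw [one_smul]; exact uM_none a b)

theorem uS_some (a b x y : F) :
    uS hF a b • pt F m (some (x, y)) = pt F m (some (x + a, y + th F m a * x + b)) :=
  smul_pt _ (c := 1) (by rw [one_smul]; exact uM_some (th_tits hF) a b x y)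

theorem uS_zero (a b : F) : uS hF a b • pt F m (some ((0 : F), (0 : F))) = pt F m (some (a, b)) := by
  rw [uS_some, mul_zero, zero_add, zero_add, zero_add]

theorem tS_none (t : Fˣ) : tS hF t • pt F m none = pt F m none :=
  smul_pt _ (tM_none (t := (t : F)))

theorem tS_some (t : Fˣ) (x y : F) :
    tS hF t • pt F m (some (x, y)) = pt F m (some ((t : F) ^ 2 / th F m t * x, th F m t * y)) :=
  smul_pt _ (tM_some (th_tits hF) t.ne_zero x y)

theorem tS_zero (t : Fˣ) : tS hF t • pt F m (some ((0 : F), (0 : F))) = pt F m (some ((0 : F), (0 : F))) := by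
  rw [tS_some, mul_zero, mul_zero]

theorem wS_none : wS hF • pt F m none = pt F m (some ((0 : F), (0 : F))) :=
  smul_pt _ (c := 1) (by rw [one_smul]; exact wM_none)

theorem wS_zero : wS hF • pt F m (some ((0 : F), (0 : F))) = pt F m none :=
  smul_pt _ (c := 1) (by rw [one_smul]; exact wM_zero)

theorem wS_mul_self : wS hF * wS hF = 1 := Subtype.ext (Subtype.ext wM_mul_self)

include hF in
theorem exists_move {x y : Cfsg.suzukiOvoid F m} (hxy : x ≠ y) :
    ∃ g : Cfsg.Sz F m, g • pt F m none = x ∧ g • pt F m (some ((0 : F), (0 : F))) = y := by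
  obtain ⟨g, hg⟩ : ∃ g : Cfsg.Sz F m, g • pt F m none = x := by
    obtain ⟨_ | ⟨a, b⟩, rfl⟩ := (pt F m).surjective x
    · exact ⟨1, one_smul _ _⟩
    · exact ⟨uS hF a b * wS hF, by rw [mul_smul, wS_none, uS_zero]⟩
  obtain ⟨_ | ⟨a, b⟩, ho⟩ := (pt F m).surjective (g⁻¹ • y)
  · exact absurd (by rw [← hg, ho, smul_inv_smul]) hxy
  · exact ⟨g * uS hF a b, by rw [mul_smul, uS_none, hg], by rw [mul_smul, uS_zero, ho, smul_inv_smul]⟩

omit [Fintype F] in
/-- Fixing the point at infinity forces two zeros in the last row. -/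
theorem row_three {g : Cfsg.Sz F m} (h0 : g • pt F m none = pt F m none)
    (h1 : g • pt F m (some ((0 : F), (0 : F))) = pt F m (some ((0 : F), (0 : F)))) :
    let M := ((g : Matrix.SpecialLinearGroup (Fin 4) F) : Matrix (Fin 4) (Fin 4) F)
    M 1 0 = 0 ∧ M 2 0 = 0 ∧ M 3 0 = 0 ∧ M 3 1 = 0 ∧ M 3 2 = 0 := by
  intro M
  obtain ⟨α, hα⟩ := of_smul_pt g h0
  obtain ⟨δ, hδ⟩ := of_smul_pt g h1
  have a1 := congrFun hα 1
  have a2 := congrFun hα 2
  have a3 := congrFun hα 3
  simp [pvec, Matrix.mulVec, dotProduct, Fin.sum_univ_four] at a1 a2 a3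
  have hrow : ∀ x y : F, M 3 1 * y + M 3 2 * x + M 3 3 ≠ 0 := by
    intro x y h
    obtain ⟨o, ho⟩ := (pt F m).surjective (g • pt F m (some (x, y)))
    obtain ⟨c, hc⟩ := of_smul_pt g ho.symm
    rcases o with _ | p
    · exact Option.some_ne_none (x, y)
        ((pt F m).injective (MulAction.injective g (ho.symm.trans h0.symm)))
    · have c3 := congrFun hc 3
      simp [pvec, Matrix.mulVec, dotProduct, Fin.sum_univ_four, a3] at c3
      rw [h] at c3
      have hne := (sl_smul_mk (g : Matrix.SpecialLinearGroup (Fin 4) F)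
        (pvec_ne_zero (θ := th F m) (some (x, y)))).1
      exact hne (by rw [hc, ← c3, zero_smul])
  refine ⟨a1, a2, a3, ?_, ?_⟩
  · by_contra hne
    exact hrow 0 (-M 3 3 / M 3 1) (by field_simp; ring)
  · by_contra hne
    exact hrow (-M 3 3 / M 3 2) 0 (by field_simp; ring)

include hF in
/-- The stabiliser of two points. -/
theorem stab_two (hm : 1 ≤ m) {g : Cfsg.Sz F m} (h0 : g • pt F m none = pt F m none)
    (h1 : g • pt F m (some ((0 : F), (0 : F))) = pt F m (some ((0 : F), (0 : F)))) : ∃ t : Fˣ, g = tS hF t := by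
  have hθ := th_tits hF
  obtain ⟨M, hM⟩ : ∃ M, M = ((g : Matrix.SpecialLinearGroup (Fin 4) F) : Matrix (Fin 4) (Fin 4) F) :=
    ⟨_, rfl⟩
  obtain ⟨z10, z20, z30, z31, z32⟩ := row_three h0 h1
  obtain ⟨z13, z23, z03, z02, z01⟩ : M 1 3 = 0 ∧ M 2 3 = 0 ∧ M 0 3 = 0 ∧ M 0 2 = 0 ∧ M 0 1 = 0 := by
    have hr := row_three (g := wS hF * g * wS hF)
      (by rw [mul_smul, mul_smul, wS_none, h1, wS_zero])
      (by rw [mul_smul, mul_smul, wS_zero, h0, wS_none])
    have e : (((wS hF * g * wS hF : Cfsg.Sz F m) : Matrix.SpecialLinearGroup (Fin 4) F) :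
        Matrix (Fin 4) (Fin 4) F) =
        wM * ((g : Matrix.SpecialLinearGroup (Fin 4) F) : Matrix (Fin 4) (Fin 4) F) * wM := rfl
    simp only [e] at hr
    simp [wM, Matrix.mul_apply, Matrix.vecMul, dotProduct, Fin.sum_univ_four] at hr
    rw [hM]
    obtain ⟨r1, r2, r3, r4, r5⟩ := hr
    exact ⟨r2, r1, r3, r4, r5⟩
  rw [← hM] at z10 z20 z30 z31 z32
  have key : ∀ x y : F, M 3 3 ≠ 0 ∧ M 0 0 * fQ (th F m) x y = M 3 3 * fQ (th F m)
      ((M 2 2 / M 3 3) * x + (M 2 1 / M 3 3) * y) ((M 1 2 / M 3 3) * x + (M 1 1 / M 3 3) * y) := by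
    intro x y
    obtain ⟨o, ho⟩ := (pt F m).surjective (g • pt F m (some (x, y)))
    obtain ⟨c, hc⟩ := of_smul_pt g ho.symm
    rw [← hM] at hc
    have h3 := congrFun hc 3
    have hne := (sl_smul_mk (g : Matrix.SpecialLinearGroup (Fin 4) F)
      (pvec_ne_zero (θ := th F m) (some (x, y)))).1
    rw [← hM, hc] at hne
    rcases o with _ | ⟨x', y'⟩
    · exact absurd ((pt F m).injective (MulAction.injective g (ho.symm.trans h0.symm)))
        (Option.some_ne_none (x, y))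
    have e0 := congrFun hc 0
    have e1 := congrFun hc 1
    have e2 := congrFun hc 2
    simp [pvec, Matrix.mulVec, dotProduct, Fin.sum_univ_four, z10, z20, z30, z31, z32, z13, z23,
      z03, z02, z01] at e0 e1 e2 h3
    have hc0 : c ≠ 0 := fun h => hne (by rw [h, zero_smul])
    rw [← h3] at hc0 e0 e1 e2
    refine ⟨hc0, ?_⟩
    have hx : x' = M 2 2 / M 3 3 * x + M 2 1 / M 3 3 * y := by field_simp; linear_combination -e2
    have hy : y' = M 1 2 / M 3 3 * x + M 1 1 / M 3 3 * y := by field_simp; linear_combination -e1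
    rw [e0, hx, hy]
  have hδ : M 3 3 ≠ 0 := (key 0 0).1
  have hdet : M.det = 1 := hM ▸ (g : Matrix.SpecialLinearGroup (Fin 4) F).2
  have hα : M 0 0 ≠ 0 := by
    intro h
    refine one_ne_zero (α := F) (hdet.symm.trans (Matrix.det_eq_zero_of_row_eq_zero 0 fun j => ?_))
    fin_cases j <;> simp [h, z01, z02, z03]
  obtain ⟨hs, hr, hp, hu, hc⟩ := diag_of_form hθ (exists_ne hm hF) (div_ne_zero hα hδ)
    (p := M 1 1 / M 3 3) (r := M 1 2 / M 3 3) (s := M 2 1 / M 3 3) (u := M 2 2 / M 3 3)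
    (c := M 0 0 / M 3 3) fun x y => by
      exact ((div_mul_eq_mul_div _ _ _).trans (by rw [(key x y).2, mul_div_cancel_left₀ _ hδ])).symm
  have z21 : M 2 1 = 0 := by simpa [hδ] using hs
  have z12 : M 1 2 = 0 := by simpa [hδ] using hr
  obtain ⟨k, hk⟩ : ∃ k, k = M 2 2 / M 3 3 := ⟨_, rfl⟩
  obtain ⟨t, ht⟩ : ∃ t, t = (M 3 3)⁻¹ := ⟨_, rfl⟩
  rw [← hk] at hp hu hc
  have m22 : M 2 2 = k / t := by rw [hk, ht]; field_simp
  have m11 : M 1 1 = k * th F m k / t := by rw [← hp, ht]; field_simp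
  have m00 : M 0 0 = th F m k * k ^ 2 / t := by rw [← hc, ht]; field_simp
  have m33 : M 3 3 = t⁻¹ := by rw [ht, inv_inv]
  have ht0 : t ≠ 0 := by rw [ht]; exact inv_ne_zero hδ
  have ht2 : t ^ 2 = th F m k * k ^ 2 := by
    have hd : M.det = M 0 0 * M 1 1 * M 2 2 * M 3 3 := by
      rw [Matrix.det_of_isUpperTriangular (fun i j (hij : j < i) => by
        fin_cases i <;> fin_cases j <;> simp at hij <;>
          simp [z10, z20, z30, z21, z31, z32])]
      simp [Fin.prod_univ_four]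
    rw [hdet, m00, m11, m22, m33] at hd
    refine frobenius_inj F 2 ?_
    simp only [frobenius_def]
    field_simp at hd
    linear_combination hd
  have hθt : th F m t = k * th F m k := frobenius_inj F 2 (by
    simp only [frobenius_def]
    rw [← map_pow, ht2, map_mul, map_pow, hθ k]
    ring)
  have hk' : k = t ^ 2 / th F m t := by
    rw [hθt, ht2]
    have := θ_ne_zero (θ := th F m) hu
    field_simp
  refine ⟨Units.mk0 t ht0, Subtype.ext (Subtype.ext ?_)⟩
  show ((g : Matrix.SpecialLinearGroup (Fin 4) F) : Matrix (Fin 4) (Fin 4) F) = tM (th F m) t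
  rw [← hM]
  ext i j
  fin_cases i <;> fin_cases j <;>
    simp [tM, z10, z20, z30, z31, z32, z13, z23, z03, z02, z01, z21, z12, m33]
  · rw [m00, ← ht2]; field_simp
  · rw [m11, hθt]
  · rw [m22, hk']
    have := θ_ne_zero (θ := th F m) ht0
    field_simp

include hF in
/-- The stabiliser of the point at infinity. -/
theorem stab_inf (hm : 1 ≤ m) {g : Cfsg.Sz F m} (h0 : g • pt F m none = pt F m none) :
    ∃ (a b : F) (t : Fˣ), g = uS hF a b * tS hF t := by
  obtain ⟨_ | ⟨a, b⟩, ho⟩ := (pt F m).surjective (g • pt F m (some ((0 : F), (0 : F))))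
  · exact absurd ((pt F m).injective (MulAction.injective g (ho.symm.trans h0.symm)))
      (Option.some_ne_none _)
  obtain ⟨t, ht⟩ := stab_two hF hm (g := (uS hF a b)⁻¹ * g)
    (by rw [mul_smul, h0, inv_smul_eq_iff, uS_none])
    (by rw [mul_smul, ← ho, inv_smul_eq_iff, uS_zero])
  exact ⟨a, b, t, by rw [← ht, mul_inv_cancel_left]⟩

theorem uS_tS_inj {a b a' b' : F} {t t' : Fˣ}
    (h : uS hF a b * tS hF t = uS hF a' b' * tS hF t') : a = a' ∧ b = b' ∧ t = t' := by
  have h1 := congrArg (fun g => g • pt F m (some ((0 : F), (0 : F)))) h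
  simp only [mul_smul, tS_zero, uS_zero, EmbeddingLike.apply_eq_iff_eq, Option.some.injEq,
    Prod.mk.injEq] at h1
  obtain ⟨rfl, rfl⟩ := h1
  have h2 := congrArg (fun g : Cfsg.Sz F m =>
    ((g : Matrix.SpecialLinearGroup (Fin 4) F) : Matrix (Fin 4) (Fin 4) F) 0 0) (mul_left_cancel h)
  exact ⟨rfl, rfl, Units.ext (by simpa [tS, tM] using h2)⟩

include hF in
theorem card_stab_inf (hm : 1 ≤ m) :
    Nat.card (MulAction.stabilizer (Cfsg.Sz F m) (pt F m none)) =
      Fintype.card F ^ 2 * (Fintype.card F - 1) := by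
  let φ : F × F × Fˣ → MulAction.stabilizer (Cfsg.Sz F m) (pt F m none) := fun p =>
    ⟨uS hF p.1 p.2.1 * tS hF p.2.2, by
      rw [MulAction.mem_stabilizer_iff, mul_smul, tS_none, uS_none]⟩
  have hφ : Function.Bijective φ := by
    refine ⟨fun p p' h => ?_, fun g => ?_⟩
    · obtain ⟨e1, e2, e3⟩ := uS_tS_inj hF (congrArg Subtype.val h)
      exact Prod.ext e1 (Prod.ext e2 e3)
    · obtain ⟨a, b, t, h⟩ := stab_inf hF hm g.2
      exact ⟨(a, b, t), Subtype.ext h.symm⟩
  rw [← Nat.card_eq_of_bijective φ hφ, Nat.card_prod, Nat.card_prod, Nat.card_units,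
    Nat.card_eq_fintype_card, sq, mul_assoc]

include hF in
theorem pretransitive : MulAction.IsPretransitive (Cfsg.Sz F m) (Cfsg.suzukiOvoid F m) := by
  refine ⟨fun x y => ?_⟩
  have h : ∀ z, ∃ g : Cfsg.Sz F m, g • pt F m none = z := fun z => by
    obtain ⟨_ | ⟨a, b⟩, rfl⟩ := (pt F m).surjective z
    · exact ⟨1, one_smul _ _⟩
    · exact ⟨uS hF a b * wS hF, by rw [mul_smul, wS_none, uS_zero]⟩
  obtain ⟨g, rfl⟩ := h x
  obtain ⟨g', rfl⟩ := h y
  exact ⟨g' * g⁻¹, by rw [mul_smul, inv_smul_smul]⟩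

include hF in
/-- The order of the group. -/
theorem nat_card (hm : 1 ≤ m) :
    Nat.card (Cfsg.Sz F m) =
      Fintype.card F ^ 2 * (Fintype.card F ^ 2 + 1) * (Fintype.card F - 1) := by
  haveI := pretransitive hF
  have h := (MulAction.stabilizer (Cfsg.Sz F m) (pt F m none)).index_mul_card
  rw [MulAction.index_stabilizer_of_transitive, card_stab_inf hF hm,
    ← Nat.card_congr (pt F m), Finite.card_option, Nat.card_prod,
    Nat.card_eq_fintype_card] at h
  rw [← h]
  ring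

include hF in
theorem two_pretransitive :
    MulAction.IsMultiplyPretransitive (Cfsg.Sz F m) (Cfsg.suzukiOvoid F m) 2 := by
  rw [MulAction.is_two_pretransitive_iff]
  intro a b c d hab hcd
  obtain ⟨g, rfl, rfl⟩ := exists_move hF hab
  obtain ⟨g', rfl, rfl⟩ := exists_move hF hcd
  exact ⟨g' * g⁻¹, by rw [mul_smul, inv_smul_smul], by rw [mul_smul, inv_smul_smul]⟩

include hF in
/-- Only the identity fixes three points. -/
theorem eq_one_of_fix (hm : 1 ≤ m) {g : Cfsg.Sz F m} {a b c : Cfsg.suzukiOvoid F m}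
    (hab : a ≠ b) (hbc : b ≠ c) (hac : a ≠ c) (ha : g • a = a) (hb : g • b = b) (hc : g • c = c) :
    g = 1 := by
  obtain ⟨h, rfl, rfl⟩ := exists_move hF hab
  obtain ⟨t, ht⟩ := stab_two hF hm (g := h⁻¹ * g * h)
    (by rw [mul_smul, mul_smul, ha, inv_smul_smul]) (by rw [mul_smul, mul_smul, hb, inv_smul_smul])
  suffices t = 1 by
    rw [this, map_one] at ht
    calc g = h * (h⁻¹ * g * h) * h⁻¹ := by group
      _ = 1 := by rw [ht]; group
  obtain ⟨_ | ⟨x, y⟩, ho⟩ := (pt F m).surjective (h⁻¹ • c)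
  · exact absurd (by rw [ho, smul_inv_smul]) hac
  have hfix : tS hF t • pt F m (some (x, y)) = pt F m (some (x, y)) := by
    rw [ho, ← ht, mul_smul, mul_smul, smul_inv_smul, hc]
  rw [tS_some, EmbeddingLike.apply_eq_iff_eq, Option.some.injEq, Prod.mk.injEq] at hfix
  have hne : th F m (t : F) ≠ 0 := θ_ne_zero t.ne_zero
  by_cases hx : x = 0
  · have hy : y ≠ 0 := by
      rintro rfl
      subst hx
      exact hbc (by rw [ho, smul_inv_smul])
    have h1 : th F m (t : F) = 1 := by simpa [hy] using hfix.2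
    exact Units.ext ((th F m).injective (h1.trans (map_one _).symm))
  · have h1 : (t : F) ^ 2 / th F m t = 1 := by simpa [hx] using hfix.1
    rw [div_eq_one_iff_eq hne] at h1
    have h2 := congrArg (th F m) h1
    rw [map_pow, th_tits hF, ← h1] at h2
    have h3 : (t : F) ^ 2 = 1 := mul_left_cancel₀ (pow_ne_zero 2 t.ne_zero) (by rw [mul_one, ← sq, h2])
    exact Units.ext (frobenius_inj F 2 (by simp [frobenius_def, h3]))

include hF in
theorem faithful (hm : 1 ≤ m) : FaithfulSMul (Cfsg.Sz F m) (Cfsg.suzukiOvoid F m) := by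
  refine ⟨fun {g g'} h => ?_⟩
  refine (inv_mul_eq_one.mp (eq_one_of_fix hF hm (g := g⁻¹ * g') (a := pt F m none)
    (b := pt F m (some ((0 : F), (0 : F)))) (c := pt F m (some ((0 : F), (1 : F)))) (by simp) (by simp) (by simp) ?_ ?_ ?_))
  all_goals rw [mul_smul, ← h, inv_smul_smul]

include hF in
/-- Every element of the stabiliser of the ovoid lies in any subgroup with the generators. -/
theorem eq_top_of_gens (hm : 1 ≤ m) {S : Subgroup (Cfsg.Sz F m)} (hu : ∀ a b, uS hF a b ∈ S)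
    (ht : ∀ t, tS hF t ∈ S) (hw : wS hF ∈ S) : S = ⊤ := by
  refine (Subgroup.eq_top_iff' S).2 fun g => ?_
  obtain ⟨_ | ⟨a, b⟩, ho⟩ := (pt F m).surjective (g • pt F m none)
  · obtain ⟨a, b, t, rfl⟩ := stab_inf hF hm ho.symm
    exact mul_mem (hu _ _) (ht _)
  · obtain ⟨a', b', t, h⟩ := stab_inf hF hm (g := wS hF * (uS hF a b)⁻¹ * g) (by
      rw [mul_smul, mul_smul, ← ho]
      conv_lhs => rw [← uS_zero hF a b, inv_smul_smul, wS_zero])
    have : g = uS hF a b * wS hF * (uS hF a' b' * tS hF t) := by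
      rw [← h, ← mul_assoc, ← mul_assoc, mul_assoc (uS hF a b), wS_mul_self, mul_one,
        mul_inv_cancel, one_mul]
    rw [this]
    exact mul_mem (mul_mem (hu _ _) hw) (mul_mem (hu _ _) (ht _))

include hF in
theorem lie_mem_of (hm : 1 ≤ m) (g : Cfsg.Sz F m) :
    Matrix.SpecialLinearGroup.toGL (g : Matrix.SpecialLinearGroup (Fin 4) F) ∈
      Cfsg.Lie.Sz F (2 ^ (m + 1)) := by
  have hst : ∀ {h : Cfsg.Sz F m} {M : Matrix (Fin 4) (Fin 4) F},
      ((h : Matrix.SpecialLinearGroup (Fin 4) F) : Matrix (Fin 4) (Fin 4) F) = M → IsSymp M →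
      Cfsg.Lie.star4 M = (th F m).mapMatrix M →
      Matrix.SpecialLinearGroup.toGL (h : Matrix.SpecialLinearGroup (Fin 4) F) ∈
        Cfsg.Lie.Sz F (2 ^ (m + 1)) := by
    rintro h _ rfl hs hM
    refine Subgroup.subset_closure ⟨hs, hM.trans ?_⟩
    ext i j
    simp [th_apply]
  have := eq_top_of_gens hF hm
    (S := (Cfsg.Lie.Sz F (2 ^ (m + 1))).comap
      (Matrix.SpecialLinearGroup.toGL.comp (Cfsg.Sz F m).subtype))
    (fun a b => hst rfl (uM_symp (th_tits hF) a b) (star4_uM (th_tits hF) a b))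
    (fun t => hst rfl (tM_symp t.ne_zero) (star4_tM (th_tits hF) t.ne_zero))
    (hst rfl wM_symp star4_wM)
  have h := Subgroup.mem_top g
  rw [← this] at h
  exact h

include hF in
theorem lie_det {g : GL (Fin 4) F} (hg : g ∈ Cfsg.Lie.Sz F (2 ^ (m + 1))) :
    (g : Matrix (Fin 4) (Fin 4) F).det = 1 :=
  (sz_star4 (th F m) (th_apply m) hg).1.det_eq_one

include hF in
theorem mem_of_lie {g : GL (Fin 4) F} (hg : g ∈ Cfsg.Lie.Sz F (2 ^ (m + 1))) :
    (⟨(g : Matrix (Fin 4) (Fin 4) F), lie_det hF hg⟩ : Matrix.SpecialLinearGroup (Fin 4) F) ∈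
      Cfsg.Sz F m := by
  refine mem_sz_of fun o => ?_
  obtain ⟨hs, hst⟩ := sz_star4 (th F m) (th_apply m) hg
  have hne : (g : Matrix (Fin 4) (Fin 4) F) *ᵥ pvec (th F m) o ≠ 0 :=
    (sl_smul_mk ⟨_, lie_det hF hg⟩ (pvec_ne_zero (θ := th F m) o)).1
  obtain ⟨o', c, -, hc⟩ := IsoPoint.exists_eq (th_tits hF) hne
    (IsoPoint.map hs hst (isoPoint_pvec (th_tits hF) o))
  exact ⟨o', c, hc⟩

/-- The stabiliser of the ovoid is the group defined by `g* = g^θ`. -/
noncomputable def equivLie (hm : 1 ≤ m) (hF : Fintype.card F = 2 ^ (2 * m + 1)) :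
    Cfsg.Sz F m ≃* Cfsg.Lie.Sz F (2 ^ (m + 1)) where
  toFun g := ⟨_, lie_mem_of hF hm g⟩
  invFun g := ⟨_, mem_of_lie hF g.2⟩
  left_inv g := Subtype.ext (Subtype.ext rfl)
  right_inv g := Subtype.ext (Units.ext rfl)
  map_mul' g h := Subtype.ext (map_mul _ _ _)

end CfsgLib.Lie.Suzuki

namespace CfsgLib.Lie.Suzuki

variable {F : Type*} [Field F] [CharP F 2] {m : ℕ}

theorem qpt_inf : Cfsg.suzukiPointInfinity F = qpt (F := F) m none := rfl

theorem qpt_zero : Cfsg.suzukiPointZero F = qpt (F := F) m (some ((0 : F), (0 : F))) := by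
  simp [qpt, Cfsg.suzukiPointZero, pvec, fQ]

theorem stab_qpt (o : Option (F × F)) :
    MulAction.stabilizer (Cfsg.Sz F m) (qpt (F := F) m o) =
      MulAction.stabilizer (Cfsg.Sz F m) (pt F m o) := by
  ext g
  rw [MulAction.mem_stabilizer_iff, MulAction.mem_stabilizer_iff, Subtype.ext_iff]
  rfl

end CfsgLib.Lie.Suzuki
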