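import Cfsg.Agent.Lib.Lie.Suzuki.Borel

/-!
# The Sylow `2`-subgroups of a Suzuki group

* `mem_unip_iff`: the unipotent group inside the Borel subgroup
* `center_unip`, `commutator_unip`, `exponent_unip`
* `not_conj_inv`: elements of order four are not real
* `eq_borel_or_top`: the only proper overgroups of the unipotent group lie in the Borel subgroup
* `two_generated`
-/

set_option autoImplicit false

namespace CfsgLib.Lie.Suzuki

variable {F : Type*} [Field F] [CharP F 2] [Fintype F] {m : ℕ}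
  (hF : Fintype.card F = 2 ^ (2 * m + 1))

include hF in
theorem torusRatio_surjective (c : F) (hc : c ≠ 0) : ∃ t : Fˣ, (t : F) ^ 2 / th F m t = c := by
  let f : Fˣ →* Fˣ := (powMonoidHom 2) / (Units.map (th F m).toMonoidHom)
  have hf : Function.Injective f := (injective_iff_map_eq_one f).2 fun t ht => by
    have h1 : (t : F) ^ 2 / th F m t = 1 := by
      simpa [f, powMonoidHom] using congrArg Units.val ht
    rw [div_eq_one_iff_eq (θ_ne_zero t.ne_zero)] at h1
    have h2 := congrArg (th F m) h1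
    rw [map_pow, th_tits hF, ← h1] at h2
    have h3 : (t : F) ^ 2 = 1 :=
      mul_left_cancel₀ (pow_ne_zero 2 t.ne_zero) (by rw [mul_one, ← sq, h2])
    exact Units.ext (frobenius_inj F 2 (by simp [frobenius_def, h3]))
  obtain ⟨t, ht⟩ := (Finite.surjective_of_injective hf) (Units.mk0 c hc)
  exact ⟨t, by simpa [f, powMonoidHom] using congrArg Units.val ht⟩

theorem th_unit_surjective (c : F) (hc : c ≠ 0) : ∃ t : Fˣ, th F m (t : F) = c := by
  obtain ⟨x, hx⟩ := (th_bij (F := F) (m := m)).2 c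
  exact ⟨Units.mk0 x (fun h => hc (by rw [← hx, h, map_zero])), hx⟩

include hF in
/-- No element of the field satisfies `θ s + s = 1`. -/
theorem th_add_ne_one (s : F) : th F m s + s ≠ 1 := by
  intro h
  have h2 : (2 : F) = 0 := CharTwo.two_eq_zero
  have e : th F m s = s + 1 := by grind
  have e2 := congrArg (th F m) e
  rw [th_tits hF, map_add, map_one, e] at e2
  have hs : s = 0 ∨ s = 1 := by
    have : s * (s - 1) = 0 := by grind
    rcases mul_eq_zero.1 this with h' | h'
    · exact Or.inl h'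
    · exact Or.inr (sub_eq_zero.1 h')
  rcases hs with rfl | rfl <;> simp at e <;> grind

include hF in
theorem exists_bracket (hm : 1 ≤ m) (b : F) : ∃ a c : F, th F m a * c + th F m c * a = b := by
  rcases eq_or_ne b 0 with rfl | hb
  · exact ⟨0, 0, by simp⟩
  obtain ⟨s, hs0, hs1⟩ := exists_ne hm hF
  have hne : th F m s + s ≠ 0 := fun h => by
    have e := CharTwo.add_eq_zero.1 h
    have e2 := congrArg (th F m) e
    rw [th_tits hF, e] at e2
    exact hs1 (mul_left_cancel₀ hs0 (by rw [mul_one, ← sq, e2]))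
  have hinj : ∀ k : F, k ≠ 0 → ∀ l : F, l ≠ 0 → th F m k * k = th F m l * l → k = l := fun k hk l hl e => by
    have hθk := θ_ne_zero (θ := th F m) hk
    have hθl := θ_ne_zero (θ := th F m) hl
    have e2 := congrArg (th F m) e
    rw [map_mul, map_mul, th_tits hF, th_tits hF] at e2
    have : k * (th F m k * k) * (th F m l * l) = l * (th F m l * l) * (th F m k * k) := by grind
    rw [e] at this
    exact mul_right_cancel₀ (mul_ne_zero hθl hl) (mul_right_cancel₀ (mul_ne_zero hθl hl) this)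
  let f : F → F := fun k => th F m k * k
  have hf : Function.Injective f := fun k l e => by
    simp only [f] at e
    rcases eq_or_ne k 0 with rfl | hk
    · rw [map_zero, zero_mul] at e
      by_contra hl
      exact mul_ne_zero (θ_ne_zero (Ne.symm hl)) (Ne.symm hl) e.symm
    · refine hinj k hk l (fun hl => ?_) e
      subst hl
      rw [map_zero, zero_mul] at e
      exact mul_ne_zero (θ_ne_zero hk) hk e
  obtain ⟨k, hk⟩ := (Finite.surjective_of_injective hf) (b / (th F m s + s))
  refine ⟨k, k * s, ?_⟩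
  simp only [f] at hk
  rw [map_mul, show th F m k * (k * s) + th F m k * th F m s * k = th F m k * k * (th F m s + s) by ring, hk,
    div_mul_cancel₀ _ hne]

theorem uS_comm_zero (a b d : F) : uS hF 0 d * uS hF a b = uS hF a b * uS hF 0 d := by
  rw [uS_mul, uS_mul, map_zero, zero_mul, mul_zero, add_zero, add_zero, zero_add, add_zero, add_comm d]

theorem conj_uS_uS (a b c d : F) :
    uS hF a b * uS hF c d * (uS hF a b)⁻¹ = uS hF c (d + (th F m a * c + th F m c * a)) := by
  rw [mul_inv_eq_iff_eq_mul, uS_mul, uS_mul]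
  congr 1
  · exact add_comm a c
  · have h2 : (2 : F) = 0 := CharTwo.two_eq_zero
    grind

theorem center_unip (hm : 1 ≤ m) (g : unip hF) :
    g ∈ Subgroup.center (unip hF) ↔ ∃ b, (g : Cfsg.Sz F m) = uS hF 0 b := by
  obtain ⟨a, b, hg⟩ := g.2
  refine ⟨fun h => ?_, fun ⟨b', hb⟩ => Subgroup.mem_center_iff.2 fun x => Subtype.ext ?_⟩
  · refine ⟨b, ?_⟩
    have key : ∀ c, th F m c * a + th F m a * c = 0 := fun c => by
      have e : uS hF c 0 * uS hF a b = uS hF a b * uS hF c 0 := by
        rw [← hg]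
        exact congrArg Subtype.val (Subgroup.mem_center_iff.1 h ⟨_, uS_mem hF c 0⟩)
      rw [uS_mul, uS_mul] at e
      have e' := (uS_inj hF e).2
      have h2 : (2 : F) = 0 := CharTwo.two_eq_zero
      grind
    obtain ⟨s, hs0, hs1⟩ := exists_ne hm hF
    have ha : a = 0 := by
      by_contra ha
      have e1 : th F m a = a := by
        have := key 1
        rw [map_one, one_mul, mul_one] at this
        exact (CharTwo.add_eq_zero.1 this).symm
      have e2 := key s
      rw [e1, mul_comm a s, ← add_mul, mul_eq_zero, or_iff_left ha] at e2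
      have e3 := congrArg (th F m) (CharTwo.add_eq_zero.1 e2)
      rw [th_tits hF, CharTwo.add_eq_zero.1 e2] at e3
      exact hs1 (mul_left_cancel₀ hs0 (by rw [mul_one, ← sq, e3]))
    rw [hg, ha]
  · obtain ⟨c, d, hx⟩ := x.2
    rw [Subgroup.coe_mul, Subgroup.coe_mul, hb, hx, uS_comm_zero]

open scoped commutatorElement in
theorem commutator_unip (hm : 1 ≤ m) : Subgroup.center (unip hF) = commutator (unip hF) := by
  refine le_antisymm (fun g hg => ?_) ?_
  · obtain ⟨b, hb⟩ := (center_unip hF hm g).1 hg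
    obtain ⟨a, c, hac⟩ := exists_bracket hF hm b
    have : g = ⁅(⟨uS hF a 0, uS_mem hF a 0⟩ : unip hF), ⟨uS hF c 0, uS_mem hF c 0⟩⁆ := by
      refine Subtype.ext ?_
      show (g : Cfsg.Sz F m) = uS hF a 0 * uS hF c 0 * (uS hF a 0)⁻¹ * (uS hF c 0)⁻¹
      rw [hb, conj_uS_uS, uS_inv, uS_mul]
      congr 1
      · rw [CharTwo.add_self_eq_zero]
      · rw [← hac]
        have h2 : (2 : F) = 0 := CharTwo.two_eq_zero
        grind
    rw [this]
    exact Subgroup.commutator_mem_commutator (Subgroup.mem_top _) (Subgroup.mem_top _)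
  · rw [commutator_def, Subgroup.commutator_le]
    intro x _ y _
    refine (center_unip hF hm _).2 ?_
    obtain ⟨a, b, hx⟩ := x.2
    obtain ⟨c, d, hy⟩ := y.2
    refine ⟨d + (th F m a * c + th F m c * a) + (d + th F m c * c) + th F m c * c, ?_⟩
    show (x : Cfsg.Sz F m) * y * (x : Cfsg.Sz F m)⁻¹ * (y : Cfsg.Sz F m)⁻¹ = _
    rw [hx, hy, conj_uS_uS, uS_inv, uS_mul]
    congr 1
    exact CharTwo.add_self_eq_zero c

theorem card_center_unip (hm : 1 ≤ m) : Nat.card (Subgroup.center (unip hF)) = Fintype.card F := by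
  let φ : F → Subgroup.center (unip hF) := fun b =>
    ⟨⟨uS hF 0 b, uS_mem hF 0 b⟩, (center_unip hF hm _).2 ⟨b, rfl⟩⟩
  have hφ : Function.Bijective φ := by
    refine ⟨fun b b' h => (uS_inj hF (congrArg (fun z => ((z.1 : unip hF) : Cfsg.Sz F m)) h)).2, fun g => ?_⟩
    obtain ⟨b, hb⟩ := (center_unip hF hm g.1).1 g.2
    exact ⟨b, Subtype.ext (Subtype.ext hb.symm)⟩
  rw [← Nat.card_eq_of_bijective φ hφ, Nat.card_eq_fintype_card]

theorem exponent_unip : Monoid.exponent (unip hF) = 4 := by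
  haveI := Fact.mk Nat.prime_two
  obtain ⟨n, hn, he⟩ := (Nat.dvd_prime_pow Nat.prime_two).1
    (Monoid.exponent_dvd_of_forall_pow_eq_one (G := unip hF) (n := 2 ^ 2) fun g => Subtype.ext (by
      obtain ⟨a, b, hg⟩ := g.2
      rw [SubmonoidClass.coe_pow, hg]
      exact uS_pow_four hF a b))
  rcases (show n = 2 ∨ n ≤ 1 by omega) with rfl | h1
  · simpa using he
  · exfalso
    have h := Monoid.pow_exponent_eq_one (⟨uS hF 1 0, uS_mem hF 1 0⟩ : unip hF)
    have h2 : uS hF (1 : F) 0 ^ 2 = 1 := by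
      have h' := congrArg Subtype.val h
      simp only [SubmonoidClass.coe_pow, OneMemClass.coe_one] at h'
      rw [he] at h'
      interval_cases n
      · rw [pow_zero, pow_one] at h'; rw [h', one_pow]
      · rwa [pow_one] at h'
    rw [uS_sq, map_one, one_mul, ← uS_one hF] at h2
    exact one_ne_zero (uS_inj hF h2).2

include hF in
/-- An element of order four of the unipotent group is not conjugate to its inverse. -/
theorem not_conj_inv (hm : 1 ≤ m) {a b : F} (ha : a ≠ 0) : ¬IsConj (uS hF a b) (uS hF a b)⁻¹ := by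
  intro h
  obtain ⟨g, hg⟩ := isConj_iff.1 h
  have hfix : ∀ x, uS hF a b • x = x → x = pt F m none := fun x hx => by
    obtain ⟨_ | ⟨x, y⟩, rfl⟩ := (pt F m).surjective x
    · rfl
    · rw [uS_some, EmbeddingLike.apply_eq_iff_eq, Option.some.injEq, Prod.mk.injEq] at hx
      exact absurd (by simpa using hx.1) ha
  have hgB : g • pt F m none = pt F m none := by
    refine hfix _ ?_
    have : (g * uS hF a b * g⁻¹) • (g • pt F m none) = g • pt F m none := by
      rw [mul_smul, mul_smul, inv_smul_smul, uS_none]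
    rw [hg, inv_smul_eq_iff] at this
    exact this.symm
  obtain ⟨c, d, t, rfl⟩ := stab_inf hF hm hgB
  rw [mul_inv_rev, show uS hF c d * tS hF t * uS hF a b * ((tS hF t)⁻¹ * (uS hF c d)⁻¹) =
    uS hF c d * (tS hF t * uS hF a b * (tS hF t)⁻¹) * (uS hF c d)⁻¹ by group, conj_uS, conj_uS_uS,
    uS_inv] at hg
  obtain ⟨h1, h2⟩ := uS_inj hF hg
  have ht : (t : F) ^ 2 / th F m t = 1 := by
    simpa [ha] using h1
  have ht1 : (t : F) = 1 := by
    rw [div_eq_one_iff_eq (θ_ne_zero t.ne_zero)] at ht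
    have e2 := congrArg (th F m) ht
    rw [map_pow, th_tits hF, ← ht] at e2
    exact frobenius_inj F 2 (by
      simp only [frobenius_def, one_pow]
      exact mul_left_cancel₀ (pow_ne_zero 2 t.ne_zero) (by rw [mul_one, ← sq, e2]))
  rw [ht1, map_one, one_mul, one_pow, div_one, one_mul, add_right_inj] at h2
  refine th_add_ne_one hF (c / a) ?_
  rw [map_div₀]
  have := θ_ne_zero (θ := th F m) ha
  field_simp
  linear_combination h2

include hF in
theorem torus_le_of_unip_le (hm : 1 ≤ m) {M : Subgroup (Cfsg.Sz F m)} (hU : unip hF ≤ M) :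
    M ≤ borel F m ∨ M = ⊤ := by
  rw [or_iff_not_imp_left, SetLike.not_le_iff_exists]
  rintro ⟨g, hg, hgB⟩
  obtain ⟨_ | ⟨a, b⟩, ho⟩ := (pt F m).surjective (g • pt F m none)
  · exact absurd ho.symm hgB
  have htr : ∀ x, ∃ k ∈ M, k • pt F m none = x := fun x => by
    obtain ⟨_ | ⟨c, d⟩, rfl⟩ := (pt F m).surjective x
    · exact ⟨1, one_mem M, one_smul _ _⟩
    · exact ⟨uS hF c d * ((uS hF a b)⁻¹ * g),
        mul_mem (hU (uS_mem hF c d)) (mul_mem (inv_mem (hU (uS_mem hF a b))) hg),
        by rw [mul_smul, mul_smul, ← ho, ← uS_zero hF a b, inv_smul_smul, uS_zero]⟩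
  have hnc : Subgroup.normalClosure (unip hF : Set (Cfsg.Sz F m)) ≤ M := by
    rw [Subgroup.normalClosure, Subgroup.closure_le]
    intro x hx
    obtain ⟨u, hu, hconj⟩ := Group.mem_conjugatesOfSet_iff.1 hx
    obtain ⟨z, rfl⟩ := isConj_iff.1 hconj
    obtain ⟨k, hk, hkz⟩ := htr (z • pt F m none)
    have hB : k⁻¹ * z ∈ borel F m := by
      show (k⁻¹ * z) • pt F m none = pt F m none
      rw [mul_smul, ← hkz, inv_smul_smul]
    rw [SetLike.mem_coe, show z * u * z⁻¹ = k * ((k⁻¹ * z) * u * (k⁻¹ * z)⁻¹) * k⁻¹ by group]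
    exact mul_mem (mul_mem hk (hU (conj_mem_unip hF hm hB hu))) (inv_mem hk)
  haveI := isSimple hF hm
  rcases Subgroup.Normal.eq_bot_or_eq_top
    (inferInstance : (Subgroup.normalClosure (unip hF : Set (Cfsg.Sz F m))).Normal) with h | h
  · exact absurd (uS_inj hF ((Subgroup.mem_bot.1 (h ▸ Subgroup.subset_normalClosure (uS_mem hF 0 1))).trans
      (uS_one hF).symm)).2 one_ne_zero
  · exact top_le_iff.1 (h ▸ hnc)

include hF in
theorem borel_ne_top : borel F m ≠ ⊤ := fun h => by
  have := (wS_none hF).symm.trans (show wS hF • pt F m none = pt F m none by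
    have := Subgroup.mem_top (wS hF : Cfsg.Sz F m)
    rw [← h] at this
    exact this)
  simp at this

include hF in
theorem two_generated (hm : 1 ≤ m) :
    ∃ a b : Cfsg.Sz F m, Subgroup.closure ({a, b} : Set (Cfsg.Sz F m)) = ⊤ := by
  obtain ⟨γ, hγ⟩ := IsCyclic.exists_generator (α := Fˣ)
  refine ⟨tS hF γ, uS hF 1 0 * wS hF, ?_⟩
  set S := Subgroup.closure ({tS hF γ, uS hF 1 0 * wS hF} : Set (Cfsg.Sz F m))
  have hT : ∀ t, tS hF t ∈ S := fun t => by
    obtain ⟨k, rfl⟩ := Subgroup.mem_zpowers_iff.1 (hγ t)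
    rw [map_zpow]
    exact zpow_mem (Subgroup.subset_closure (by simp)) k
  have hy : uS hF 1 0 * wS hF ∈ S := Subgroup.subset_closure (by simp)
  obtain ⟨c, hc0, hc1⟩ := exists_ne hm hF
  obtain ⟨t, ht⟩ := torusRatio_surjective hF c hc0
  obtain ⟨a, d, ha, had⟩ : ∃ a d, a ≠ 0 ∧ uS hF a d ∈ S := by
    have h : uS hF 1 0 * wS hF * (tS hF t)⁻¹ * (uS hF 1 0 * wS hF)⁻¹ * (tS hF t)⁻¹ ∈ S :=
      mul_mem (mul_mem (mul_mem hy (inv_mem (hT t))) (inv_mem hy)) (inv_mem (hT t))
    have e1 : wS hF * (tS hF t)⁻¹ * wS hF = tS hF t := by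
      rw [← map_inv, wS_tS, map_inv, inv_inv]
    have e : uS hF 1 0 * wS hF * (tS hF t)⁻¹ * (uS hF 1 0 * wS hF)⁻¹ * (tS hF t)⁻¹ =
        uS hF 1 0 * (tS hF t * (uS hF 1 0)⁻¹ * (tS hF t)⁻¹) := by
      rw [mul_inv_rev, inv_eq_of_mul_eq_one_right (wS_mul_self hF)]
      calc _ = uS hF 1 0 * (wS hF * (tS hF t)⁻¹ * wS hF) * (uS hF 1 0)⁻¹ * (tS hF t)⁻¹ := by group
        _ = _ := by rw [e1]; group
    rw [e, uS_inv, conj_uS, ht, uS_mul] at h
    refine ⟨_, _, fun e0 => hc1 ?_, h⟩
    rw [mul_one] at e0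
    exact (CharTwo.add_eq_zero.1 e0).symm
  have hz : ∀ b, uS hF 0 b ∈ S := fun b => by
    rcases eq_or_ne b 0 with rfl | hb
    · rw [uS_one]; exact one_mem S
    have hq : th F m a * a ≠ 0 := mul_ne_zero (θ_ne_zero ha) ha
    obtain ⟨s, hs⟩ := th_unit_surjective (m := m) (b / (th F m a * a)) (div_ne_zero hb hq)
    have h := mul_mem (mul_mem (hT s) (pow_mem had 2)) (inv_mem (hT s))
    rwa [uS_sq, conj_uS, mul_zero, hs, div_mul_cancel₀ _ hq] at h
  have hu : ∀ x b, uS hF x b ∈ S := fun x b => by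
    rcases eq_or_ne x 0 with rfl | hx
    · exact hz b
    obtain ⟨s, hs⟩ := torusRatio_surjective hF (x / a) (div_ne_zero hx ha)
    have h := mul_mem (mul_mem (hT s) had) (inv_mem (hT s))
    rw [conj_uS, hs, div_mul_cancel₀ _ ha] at h
    have h2 := mul_mem h (hz (b + th F m (s : F) * d))
    rwa [uS_mul, add_zero, mul_zero, add_zero, add_left_comm, CharTwo.add_self_eq_zero, add_zero] at h2
  refine eq_top_of_gens hF hm hu hT ?_
  have := mul_mem (inv_mem (hu 1 0)) hy
  rwa [inv_mul_cancel_left] at this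

end CfsgLib.Lie.Suzuki
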