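import Cfsg.Agent.Lib.Lie.Suzuki.Tori

/-!
# The partition of the Suzuki groups

* `isPGroup_two_of_conj`, `sylow_two_eq`: the Sylow 2-subgroups
* `isCyclic_sylow_odd`, `isNilpotent_centralizer`
* `exists_partition`, `partition_unique`: the partition
-/

set_option autoImplicit false

namespace CfsgLib.Lie.Suzuki

variable {F : Type*} [Field F] [CharP F 2] [Fintype F] {m : ℕ}
  (hF : Fintype.card F = 2 ^ (2 * m + 1))

local notation "P∞" => pt F m none
local notation "C[" g "]" => Subgroup.centralizer ({g} : Set (Cfsg.Sz F m))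

/-- The conjugate of a subgroup. -/
def cj (h : Cfsg.Sz F m) (S : Subgroup (Cfsg.Sz F m)) : Subgroup (Cfsg.Sz F m) :=
  S.map (MulAut.conj h).toMonoidHom

omit [CharP F 2] [Fintype F] in
theorem mem_cj {h g : Cfsg.Sz F m} {S : Subgroup (Cfsg.Sz F m)} :
    g ∈ cj h S ↔ h⁻¹ * g * h ∈ S := by
  constructor
  · rintro ⟨s, hs, rfl⟩
    simpa [mul_assoc] using hs
  · intro hg
    exact ⟨_, hg, by simp [mul_assoc]⟩

omit [CharP F 2] [Fintype F] in
theorem card_cj (h : Cfsg.Sz F m) (S : Subgroup (Cfsg.Sz F m)) : Nat.card (cj h S) = Nat.card S :=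
  Subgroup.card_map_of_injective (MulAut.conj h).injective

omit [CharP F 2] [Fintype F] in
theorem isCyclic_cj (h : Cfsg.Sz F m) {S : Subgroup (Cfsg.Sz F m)} (hS : IsCyclic S) :
    IsCyclic (cj h S) :=
  isCyclic_of_surjective (S.equivMapOfInjective (MulAut.conj h).toMonoidHom
    (MulAut.conj h).injective).toMonoidHom (MulEquiv.surjective _)

omit [CharP F 2] [Fintype F] in
theorem conj_ne_one {g h : Cfsg.Sz F m} (h1 : g ≠ 1) : h⁻¹ * g * h ≠ 1 := fun e => h1 (by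
  calc g = h * (h⁻¹ * g * h) * h⁻¹ := by group
    _ = 1 := by rw [e]; group)

omit [CharP F 2] [Fintype F] in
theorem conj_commute {g y : Cfsg.Sz F m} (h : Commute g y) (k : Cfsg.Sz F m) :
    Commute (k⁻¹ * g * k) (k⁻¹ * y * k) := by
  show k⁻¹ * g * k * (k⁻¹ * y * k) = k⁻¹ * y * k * (k⁻¹ * g * k)
  rw [show k⁻¹ * g * k * (k⁻¹ * y * k) = k⁻¹ * (g * y) * k by group, h.eq]
  group

include hF in
theorem isPGroup_cj_uSub (h : Cfsg.Sz F m) : IsPGroup 2 (cj h (uSub hF)) :=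
  IsPGroup.of_card (n := (2 * m + 1) * 2) (by rw [card_cj, card_uSub, hF, ← pow_mul])

include hF in
/-- The unitriangular subgroup is a Sylow subgroup. -/
theorem card_uSub_eq (hm : 1 ≤ m) :
    Nat.card (uSub hF) = 2 ^ (Nat.card (Cfsg.Sz F m)).factorization 2 := by
  have hqs : Fintype.card F ^ 2 = 2 ^ ((2 * m + 1) * 2) := by rw [hF, ← pow_mul]
  have hodd : ¬ 2 ∣ (Fintype.card F ^ 2 + 1) * (Fintype.card F - 1) := fun h =>
    (Nat.prime_two.dvd_mul.mp h).elim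
      (fun h => (Nat.not_even_iff_odd.mpr (odd_sq_add_one hF)) (even_iff_two_dvd.mpr h))
      (fun h => (Nat.not_even_iff_odd.mpr (odd_card_sub_one hF)) (even_iff_two_dvd.mpr h))
  rw [card_uSub, nat_card hF hm, mul_assoc, Nat.factorization_mul (by simp)
    (fun e => hodd (by rw [e]; exact dvd_zero 2)), Finsupp.add_apply, Nat.factorization_eq_zero_of_not_dvd hodd,
    add_zero, hqs, Nat.Prime.factorization_pow Nat.prime_two, Finsupp.single_eq_same]

include hF in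
theorem sylow_two_eq (hm : 1 ≤ m) (P : Sylow 2 (Cfsg.Sz F m)) :
    ∃ h : Cfsg.Sz F m, (P : Subgroup (Cfsg.Sz F m)) = cj h (uSub hF) := by
  haveI := Fact.mk Nat.prime_two
  obtain ⟨h, hh⟩ := MulAction.exists_smul_eq (Cfsg.Sz F m)
    (Sylow.ofCard (uSub hF) (card_uSub_eq hF hm)) P
  exact ⟨h, by rw [← hh, Sylow.coe_subgroup_smul]; rfl⟩

include hF in
theorem exists_sylow_two (hm : 1 ≤ m) (h : Cfsg.Sz F m) :
    ∃ P : Sylow 2 (Cfsg.Sz F m), (P : Subgroup (Cfsg.Sz F m)) = cj h (uSub hF) :=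
  ⟨Sylow.ofCard (cj h (uSub hF)) (by rw [card_cj]; exact card_uSub_eq hF hm), rfl⟩

include hF in
theorem centralizer_cj_uS (hm : 1 ≤ m) {g h : Cfsg.Sz F m} (hg : g ∈ cj h (uSub hF)) (h1 : g ≠ 1)
    {y : Cfsg.Sz F m} (hy : Commute g y) : y ∈ cj h (uSub hF) :=
  mem_cj.mpr (centralizer_uS hF hm (mem_cj.mp hg) (conj_ne_one h1) (conj_commute hy h))

include hF in
theorem centralizer_cj_tS (hm : 1 ≤ m) {g h : Cfsg.Sz F m} (hg : g ∈ cj h (tSub hF)) (h1 : g ≠ 1)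
    {y : Cfsg.Sz F m} (hy : Commute g y) : y ∈ cj h (tSub hF) :=
  mem_cj.mpr (centralizer_tS hF hm (mem_cj.mp hg) (conj_ne_one h1) (conj_commute hy h))

include hF in
theorem isCyclic_sylow_odd (hm : 1 ≤ m) {p : ℕ} [hp : Fact p.Prime] (hp2 : p ≠ 2)
    (P : Sylow p (Cfsg.Sz F m)) : IsCyclic P := by
  by_cases h1 : p ∣ Fintype.card F - 1
  · obtain ⟨h, hh⟩ := exists_tSub_conj hF hm h1 P.2
    haveI := isCyclic_cj h (isCyclic_tSub hF)
    exact isCyclic_of_injective (Subgroup.inclusion (H := (P : Subgroup (Cfsg.Sz F m)))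
      (K := cj h (tSub hF)) fun g hg => mem_cj.mpr (hh g hg)) (Subgroup.inclusion_injective _)
  by_cases h2 : p ∣ Fintype.card F ^ 2 + 1
  · obtain ⟨z, hz, hle⟩ := sylow_le_centralizer hF hm h2 P
    haveI := (free_centralizer hF hm hz).1
    exact isCyclic_of_injective (Subgroup.inclusion hle) (Subgroup.inclusion_injective _)
  have hbot : (P : Subgroup (Cfsg.Sz F m)) = ⊥ := by
    refine Subgroup.eq_bot_of_card_eq _ ?_
    rw [P.card_eq_multiplicity, Nat.factorization_eq_zero_of_not_dvd, pow_zero]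
    rw [nat_card hF hm, hp.out.dvd_mul, hp.out.dvd_mul]
    rintro ((h | h) | h)
    · exact hp2 ((Nat.prime_dvd_prime_iff_eq hp.out Nat.prime_two).mp
        (hp.out.dvd_of_dvd_pow (hF ▸ hp.out.dvd_of_dvd_pow h)))
    · exact h2 h
    · exact h1 h
  show IsCyclic (P : Subgroup (Cfsg.Sz F m))
  rw [hbot]
  infer_instance

include hF in
theorem cases_of_ne_one (hm : 1 ≤ m) (g : Cfsg.Sz F m) :
    Free g ∨ (∃ h, g ∈ cj h (uSub hF)) ∨ ∃ h, g ∈ cj h (tSub hF) := by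
  rcases trichotomy hF hm g with h | ⟨h, hu | ht⟩
  · exact Or.inl h
  · exact Or.inr (Or.inl ⟨h, mem_cj.mpr hu⟩)
  · exact Or.inr (Or.inr ⟨h, mem_cj.mpr ht⟩)

include hF in
theorem isNilpotent_centralizer (hm : 1 ≤ m) {g : Cfsg.Sz F m} (h1 : g ≠ 1) :
    Group.IsNilpotent C[g] := by
  rcases cases_of_ne_one hF hm g with hg | ⟨h, hu⟩ | ⟨h, ht⟩
  · haveI := (free_centralizer hF hm hg).1
    let _ : CommGroup C[g] := IsCyclic.commGroup
    infer_instance
  · haveI := Fact.mk Nat.prime_two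
    exact ((isPGroup_cj_uSub hF h).to_le fun y hy => centralizer_cj_uS hF hm hu h1
      (Subgroup.mem_centralizer_singleton_iff.mp hy).symm).isNilpotent
  · haveI := isCyclic_cj h (isCyclic_tSub hF)
    haveI : IsCyclic C[g] := isCyclic_of_injective (Subgroup.inclusion (H := C[g])
      (K := cj h (tSub hF)) fun y hy => centralizer_cj_tS hF hm ht h1
      (Subgroup.mem_centralizer_singleton_iff.mp hy).symm) (Subgroup.inclusion_injective _)
    let _ : CommGroup C[g] := IsCyclic.commGroup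
    infer_instance

include hF in
theorem plus_minus (hm : 1 ≤ m) :
    (2 ^ (2 * m + 1) + 2 ^ (m + 1) + 1) * (2 ^ (2 * m + 1) - 2 ^ (m + 1) + 1) =
      Fintype.card F ^ 2 + 1 := by
  have hle : 2 ^ (m + 1) ≤ 2 ^ (2 * m + 1) := Nat.pow_le_pow_right (by norm_num) (by omega)
  rw [← @Nat.cast_inj ℤ, hF]
  push_cast [Nat.cast_sub hle]
  ring

include hF in
theorem free_card_cases (hm : 1 ≤ m) {g : Cfsg.Sz F m} (hg : Free g) :
    Nat.card C[g] = 2 ^ (2 * m + 1) + 2 ^ (m + 1) + 1 ∨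
      Nat.card C[g] = 2 ^ (2 * m + 1) - 2 ^ (m + 1) + 1 := by
  obtain ⟨g₁, g₂, hg₁, hg₂, -, hall, e1, e2, -, -⟩ := tori_structure hF hm
  rcases hall g hg with h | h
  · exact Or.inl (by rw [card_eq_of_cls hF hm hg₁ h, e1])
  · exact Or.inr (by rw [card_eq_of_cls hF hm hg₂ h, e2])

include hF in
theorem free_normalizer_card (hm : 1 ≤ m) {g : Cfsg.Sz F m} (hg : Free g) :
    Nat.card (Subgroup.normalizer (C[g] : Set (Cfsg.Sz F m))) = 4 * Nat.card C[g] := by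
  obtain ⟨g₁, g₂, hg₁, hg₂, -, hall, -, -, n1, n2⟩ := tori_structure hF hm
  have key : ∀ {g₀ : Cfsg.Sz F m}, Free g₀ → g ∈ cls C[g₀] →
      Nat.card (Subgroup.normalizer (C[g₀] : Set (Cfsg.Sz F m))) = 4 * Nat.card C[g₀] →
      Nat.card (Subgroup.normalizer (C[g] : Set (Cfsg.Sz F m))) = 4 * Nat.card C[g] := by
    intro g₀ hg₀ h hn
    obtain ⟨l, hl⟩ := card_centralizer_conj hF hm hg₀ h
    rw [card_eq_of_cls hF hm hg₀ h, ← hn, show C[g] = cj l C[g₀] from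
      Subgroup.ext fun a => (hl a).trans mem_cj.symm, cj]
    rw [← card_cj l (Subgroup.normalizer (C[g₀] : Set (Cfsg.Sz F m)))]
    refine congrArg (fun S : Subgroup (Cfsg.Sz F m) => Nat.card S) ?_
    rw [cj, Subgroup.map_equiv_normalizer_eq]
  rcases hall g hg with h | h
  · exact key hg₁ h n1
  · exact key hg₂ h n2

include hF in
theorem coprime_three (hm : 1 ≤ m) :
    (2 ^ (2 * m + 1) - 1).Coprime (2 ^ (2 * m + 1) + 2 ^ (m + 1) + 1) ∧
    (2 ^ (2 * m + 1) - 1).Coprime (2 ^ (2 * m + 1) - 2 ^ (m + 1) + 1) ∧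
    (2 ^ (2 * m + 1) + 2 ^ (m + 1) + 1).Coprime (2 ^ (2 * m + 1) - 2 ^ (m + 1) + 1) := by
  have hc := (Nat.Coprime.coprime_mul_left (coprime_sub_one hF)).symm
  rw [← plus_minus hF hm, hF] at hc
  refine ⟨hc.coprime_dvd_right (dvd_mul_right _ _), hc.coprime_dvd_right (dvd_mul_left _ _), ?_⟩
  obtain ⟨g₁, g₂, hg₁, hg₂, hn, -, e1, e2, -, -⟩ := tori_structure hF hm
  rw [← e1, ← e2]
  exact coprime_cards hF hm hg₁ hg₂ hn

theorem eq_of_dvd_mem {a b c k d : ℕ} (hk : k = a ∨ k = b ∨ k = c) (hd : d = a ∨ d = b ∨ d = c)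
    (h : k ∣ d) (h1 : 1 < k) (hab : a.Coprime b) (hac : a.Coprime c) (hbc : b.Coprime c) : k = d := by
  rcases hk with rfl | rfl | rfl <;> rcases hd with rfl | rfl | rfl <;> try rfl
  all_goals exfalso
  · exact h1.ne' (Nat.eq_one_of_dvd_coprimes hab dvd_rfl h)
  · exact h1.ne' (Nat.eq_one_of_dvd_coprimes hac dvd_rfl h)
  · exact h1.ne' (Nat.eq_one_of_dvd_coprimes hab h dvd_rfl)
  · exact h1.ne' (Nat.eq_one_of_dvd_coprimes hbc dvd_rfl h)
  · exact h1.ne' (Nat.eq_one_of_dvd_coprimes hac h dvd_rfl)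
  · exact h1.ne' (Nat.eq_one_of_dvd_coprimes hbc h dvd_rfl)

include hF in
theorem exists_unique_part (hm : 1 ≤ m) {g : Cfsg.Sz F m} (h1 : g ≠ 1) :
    ∃! U : Subgroup (Cfsg.Sz F m), ((∃ P : Sylow 2 (Cfsg.Sz F m), U = (P : Subgroup (Cfsg.Sz F m))) ∨
      (IsCyclic U ∧ Nat.card U ∈ ({2 ^ (2 * m + 1) - 1, 2 ^ (2 * m + 1) + 2 ^ (m + 1) + 1,
        2 ^ (2 * m + 1) - 2 ^ (m + 1) + 1} : Set ℕ))) ∧ g ∈ U := by
  obtain ⟨c12, c13, c23⟩ := coprime_three hF hm
  have h8 := two_lt_card hF hm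
  rw [hF] at h8
  have hle : 2 ^ (m + 1) ≤ 2 ^ (2 * m + 1) := Nat.pow_le_pow_right (by norm_num) (by omega)
  have hone : ∀ k : ℕ, k ∈ ({2 ^ (2 * m + 1) - 1, 2 ^ (2 * m + 1) + 2 ^ (m + 1) + 1,
        2 ^ (2 * m + 1) - 2 ^ (m + 1) + 1} : Set ℕ) → 1 < k ∧ Odd k := by
    have hlt : 2 ^ (m + 1) < 2 ^ (2 * m + 1) := Nat.pow_lt_pow_right (by norm_num) (by omega)
    have he : Even (2 ^ (2 * m + 1)) := even_two.pow_of_ne_zero (by omega)
    have he' : Even (2 ^ (m + 1)) := even_two.pow_of_ne_zero (by omega)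
    obtain ⟨a, ha⟩ := he
    obtain ⟨b, hb⟩ := he'
    intro k hk
    simp only [Set.mem_insert_iff, Set.mem_singleton_iff] at hk
    rw [Nat.odd_iff]
    omega
  -- a cyclic part lies in the centraliser
  have hcc : ∀ U : Subgroup (Cfsg.Sz F m), IsCyclic U → g ∈ U → U ≤ C[g] := fun U hU hg y hy => by
    haveI := hU
    exact Subgroup.mem_centralizer_singleton_iff.mpr
      (congrArg Subtype.val (mul_comm' (⟨y, hy⟩ : U) ⟨g, hg⟩))
  -- an element of a Sylow subgroup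
  have hsyl : ∀ P : Sylow 2 (Cfsg.Sz F m), g ∈ (P : Subgroup (Cfsg.Sz F m)) →
      ∃ h, (P : Subgroup (Cfsg.Sz F m)) = cj h (uSub hF) ∧ 2 ∣ orderOf g := by
    intro P hg
    obtain ⟨h, hh⟩ := sylow_two_eq hF hm P
    obtain ⟨i, hi⟩ := IsPGroup.iff_orderOf.mp P.2 ⟨g, hg⟩
    rw [Subgroup.orderOf_mk] at hi
    have hi0 : i ≠ 0 := by
      rintro rfl
      exact h1 (orderOf_eq_one_iff.mp (by rw [hi, pow_zero]))
    exact ⟨h, hh, hi ▸ dvd_pow_self 2 hi0⟩
  have hoddno : ∀ U : Subgroup (Cfsg.Sz F m), Odd (Nat.card U) → g ∈ U → ¬ 2 ∣ orderOf g := by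
    intro U hU hg h
    have h2 : orderOf g ∣ Nat.card U := by
      rw [← Subgroup.orderOf_mk g hg]; exact orderOf_dvd_natCard _
    exact (Nat.not_even_iff_odd.mpr hU) (even_iff_two_dvd.mpr (h.trans h2))
  have huniq : ∀ U : Subgroup (Cfsg.Sz F m), IsCyclic U ∧ Nat.card U ∈ ({2 ^ (2 * m + 1) - 1, 2 ^ (2 * m + 1) + 2 ^ (m + 1) + 1,
        2 ^ (2 * m + 1) - 2 ^ (m + 1) + 1} : Set ℕ) → g ∈ U →
      ∀ D : Subgroup (Cfsg.Sz F m), C[g] ≤ D → IsCyclic D → Nat.card D ∈ ({2 ^ (2 * m + 1) - 1,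
        2 ^ (2 * m + 1) + 2 ^ (m + 1) + 1, 2 ^ (2 * m + 1) - 2 ^ (m + 1) + 1} : Set ℕ) → U = D := by
    rintro U ⟨hU, hUc⟩ hgU D hD hDcy hDc
    refine Subgroup.eq_of_le_of_card_ge ((hcc U hU hgU).trans hD) (le_of_eq ?_)
    have h := Subgroup.card_dvd_of_le ((hcc U hU hgU).trans hD)
    have h1' := (hone _ hUc).1
    simp only [Set.mem_insert_iff, Set.mem_singleton_iff] at hUc hDc
    exact (eq_of_dvd_mem hUc hDc h h1' c12 c13 c23).symm
  rcases cases_of_ne_one hF hm g with hg | ⟨h, hu⟩ | ⟨h, ht⟩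
  · have hmem : Nat.card C[g] ∈ ({2 ^ (2 * m + 1) - 1, 2 ^ (2 * m + 1) + 2 ^ (m + 1) + 1,
        2 ^ (2 * m + 1) - 2 ^ (m + 1) + 1} : Set ℕ) := by
      rcases free_card_cases hF hm hg with e | e <;> simp [e]
    refine ⟨C[g], ⟨Or.inr ⟨(free_centralizer hF hm hg).1, hmem⟩,
      Subgroup.mem_centralizer_singleton_iff.mpr rfl⟩, ?_⟩
    rintro U ⟨⟨P, rfl⟩ | hU, hgU⟩
    · obtain ⟨-, -, h2⟩ := hsyl P hgU
      exact absurd h2 (hoddno C[g] (hone _ hmem).2 (Subgroup.mem_centralizer_singleton_iff.mpr rfl))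
    · exact huniq U hU hgU _ le_rfl (free_centralizer hF hm hg).1 hmem
  · obtain ⟨P, hP⟩ := exists_sylow_two hF hm h
    refine ⟨P, ⟨Or.inl ⟨P, rfl⟩, hP ▸ hu⟩, ?_⟩
    rintro U ⟨⟨Q, rfl⟩ | ⟨hU, hUc⟩, hgU⟩
    · obtain ⟨k, hk, -⟩ := hsyl Q hgU
      rw [hP, hk]
      rw [hk] at hgU
      have hle : ∀ {a b : Cfsg.Sz F m}, g ∈ cj a (uSub hF) → g ∈ cj b (uSub hF) →
          a • P∞ = b • P∞ := by
        intro a b ha hb
        have hfa : g • (a • P∞) = a • P∞ := by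
          have := uSub_smul hF (mem_cj.mp ha)
          rwa [mul_smul, mul_smul, inv_smul_eq_iff] at this
        have := uSub_unique_fix hF (mem_cj.mp hb) (conj_ne_one h1) (x := b⁻¹ • (a • P∞))
          (by rw [mul_smul, mul_smul, smul_inv_smul, hfa])
        rwa [inv_smul_eq_iff] at this
      -- the Sylow subgroup is determined by its fixed point
      have key : ∀ a b : Cfsg.Sz F m, a • P∞ = b • P∞ → cj a (uSub hF) ≤ cj b (uSub hF) := by
        intro a b hab y hy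
        by_cases hy1 : y = 1
        · rw [hy1]; exact one_mem _
        have hfy : y • (b • P∞) = b • P∞ := by
          rw [← hab]
          have := uSub_smul hF (mem_cj.mp hy)
          rwa [mul_smul, mul_smul, inv_smul_eq_iff] at this
        rw [mem_cj] at hy ⊢
        obtain ⟨a', b', t, e⟩ := stab_inf hF hm (g := b⁻¹ * y * b)
          (by rw [mul_smul, mul_smul, hfy, inv_smul_smul])
        by_cases ht : t = 1
        · exact ⟨a', b', by rw [e, ht, map_one, mul_one]⟩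
        exfalso
        obtain ⟨x0, y0, hz⟩ := second_fix hF hm a' b' ht
        rw [← e] at hz
        have hz' : y • (b • pt F m (some (x0, y0))) = b • pt F m (some (x0, y0)) := by
          rwa [mul_smul, mul_smul, inv_smul_eq_iff] at hz
        have := uSub_unique_fix hF hy (conj_ne_one hy1) (x := a⁻¹ • b • pt F m (some (x0, y0)))
          (by rw [mul_smul, mul_smul, smul_inv_smul, hz'])
        rw [inv_smul_eq_iff, hab] at this
        simpa using MulAction.injective b this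
      exact le_antisymm (key k h (hle hgU hu)) (key h k (hle hu hgU))
    · obtain ⟨-, -, h2⟩ := hsyl P (hP ▸ hu)
      exact absurd h2 (hoddno U (hone _ hUc).2 hgU)
  · have hmem : Nat.card (cj h (tSub hF)) ∈ ({2 ^ (2 * m + 1) - 1, 2 ^ (2 * m + 1) + 2 ^ (m + 1) + 1,
        2 ^ (2 * m + 1) - 2 ^ (m + 1) + 1} : Set ℕ) := by
      rw [card_cj, card_tSub, hF]; simp
    refine ⟨cj h (tSub hF), ⟨Or.inr ⟨isCyclic_cj h (isCyclic_tSub hF), hmem⟩, ht⟩, ?_⟩
    rintro U ⟨⟨P, rfl⟩ | hU, hgU⟩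
    · obtain ⟨-, -, h2⟩ := hsyl P hgU
      exact absurd h2 (hoddno _ (hone _ hmem).2 ht)
    · exact huniq U hU hgU _ (fun y hy => centralizer_cj_tS hF hm ht h1
        (Subgroup.mem_centralizer_singleton_iff.mp hy).symm) (isCyclic_cj h (isCyclic_tSub hF)) hmem

end CfsgLib.Lie.Suzuki
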