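import Cfsg.Agent.Lib.Lie.Suzuki.Group

/-!
# The Borel subgroup of a Suzuki group and simplicity

* `unip`: the group of the `uS a b`, a Sylow `2`-subgroup
* `conj_uS`: action of the torus on it
* `perfect`, `isSimple`: the group is perfect and simple
* `normalizer_unip`: its normaliser is the stabiliser of the point at infinity
-/

set_option autoImplicit false

namespace CfsgLib.Lie.Suzuki

variable {F : Type*} [Field F] [CharP F 2] [Fintype F] {m : ℕ}
  (hF : Fintype.card F = 2 ^ (2 * m + 1))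

theorem uS_mul (a b c d : F) :
    uS hF a b * uS hF c d = uS hF (a + c) (b + d + th F m a * c) :=
  Subtype.ext (Subtype.ext (uM_mul (th_tits hF) a b c d))

theorem uS_one : uS hF (0 : F) 0 = 1 := Subtype.ext (Subtype.ext uM_zero)

theorem uS_inv (a b : F) : (uS hF a b)⁻¹ = uS hF a (b + th F m a * a) := by
  refine inv_eq_of_mul_eq_one_right ?_
  rw [uS_mul, ← uS_one hF]
  congr 1
  · exact CharTwo.add_self_eq_zero a
  · rw [← add_assoc b b, CharTwo.add_self_eq_zero, zero_add, CharTwo.add_self_eq_zero]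

theorem uS_inj {a b a' b' : F} (h : uS hF a b = uS hF a' b') : a = a' ∧ b = b' := by
  obtain ⟨h1, h2, -⟩ := uS_tS_inj hF (a := a) (b := b) (a' := a') (b' := b') (t := 1) (t' := 1) (by rw [h])
  exact ⟨h1, h2⟩

theorem conj_uS (t : Fˣ) (a b : F) :
    tS hF t * uS hF a b * (tS hF t)⁻¹ = uS hF ((t : F) ^ 2 / th F m t * a) (th F m t * b) := by
  rw [mul_inv_eq_iff_eq_mul]
  refine Subtype.ext (Subtype.ext ?_)
  show tM (th F m) (t : F) * uM (th F m) a b =
    uM (th F m) ((t : F) ^ 2 / th F m t * a) (th F m t * b) * tM (th F m) (t : F)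
  have ht : (t : F) ≠ 0 := t.ne_zero
  have hθ : th F m (t : F) ≠ 0 := θ_ne_zero ht
  have h3 : th F m (th F m (t : F)) = (t : F) ^ 2 := th_tits hF _
  ext i j
  fin_cases i <;> fin_cases j <;>
    simp [tM, uM, fQ, Matrix.mul_apply, Fin.sum_univ_four, map_mul, map_div₀, map_pow, h3] <;>
    field_simp <;> ring_nf

theorem wS_tS (t : Fˣ) : wS hF * tS hF t * wS hF = (tS hF t)⁻¹ := by
  rw [← map_inv]
  refine Subtype.ext (Subtype.ext ?_)
  show wM * tM (th F m) (t : F) * wM = tM (th F m) ((t⁻¹ : Fˣ) : F)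
  ext i j
  fin_cases i <;> fin_cases j <;>
    simp [tM, wM, Matrix.mul_apply, Matrix.vecMul, dotProduct, Fin.sum_univ_four, div_eq_inv_mul, mul_comm]

/-- The unipotent subgroup. -/
def unip (hF : Fintype.card F = 2 ^ (2 * m + 1)) : Subgroup (Cfsg.Sz F m) where
  carrier := {g | ∃ a b, g = uS hF a b}
  one_mem' := ⟨0, 0, (uS_one hF).symm⟩
  mul_mem' := by
    rintro _ _ ⟨a, b, rfl⟩ ⟨c, d, rfl⟩
    exact ⟨_, _, uS_mul hF a b c d⟩
  inv_mem' := by
    rintro _ ⟨a, b, rfl⟩
    exact ⟨_, _, uS_inv hF a b⟩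

theorem uS_mem (a b : F) : uS hF a b ∈ unip hF := ⟨a, b, rfl⟩

theorem card_unip : Nat.card (unip hF) = Fintype.card F ^ 2 := by
  let φ : F × F → unip hF := fun p => ⟨uS hF p.1 p.2, uS_mem hF _ _⟩
  have hφ : Function.Bijective φ := by
    refine ⟨fun p p' h => ?_, fun g => ?_⟩
    · obtain ⟨e1, e2⟩ := uS_inj hF (congrArg Subtype.val h)
      exact Prod.ext e1 e2
    · obtain ⟨a, b, h⟩ := g.2
      exact ⟨(a, b), Subtype.ext h.symm⟩
  rw [← Nat.card_eq_of_bijective φ hφ, Nat.card_prod, Nat.card_eq_fintype_card, sq]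

theorem uS_sq (a b : F) : uS hF a b ^ 2 = uS hF 0 (th F m a * a) := by
  rw [sq, uS_mul]
  congr 1
  · exact CharTwo.add_self_eq_zero a
  · rw [CharTwo.add_self_eq_zero, zero_add]

theorem uS_pow_four (a b : F) : uS hF a b ^ 4 = 1 := by
  calc uS hF a b ^ 4 = (uS hF a b ^ 2) ^ 2 := pow_mul _ 2 2
    _ = 1 := by rw [uS_sq, uS_sq, map_zero, zero_mul, uS_one]

theorem isPGroup_unip : IsPGroup 2 (unip hF) := fun g => ⟨2, Subtype.ext (by
  obtain ⟨a, b, h⟩ := g.2
  simp [h, uS_pow_four])⟩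

/-- The stabiliser of the point at infinity. -/
noncomputable def borel (F : Type*) [Field F] [CharP F 2] (m : ℕ) : Subgroup (Cfsg.Sz F m) :=
  MulAction.stabilizer (Cfsg.Sz F m) (pt F m none)

theorem uS_mem_borel (a b : F) : uS hF a b ∈ borel F m := uS_none hF a b

theorem tS_mem_borel (t : Fˣ) : tS hF t ∈ borel F m := tS_none hF t

theorem unip_le_borel : unip hF ≤ borel F m := by
  rintro _ ⟨a, b, rfl⟩
  exact uS_mem_borel hF a b

theorem conj_mem_unip (hm : 1 ≤ m) {g u : Cfsg.Sz F m} (hg : g ∈ borel F m) (hu : u ∈ unip hF) :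
    g * u * g⁻¹ ∈ unip hF := by
  obtain ⟨a, b, t, rfl⟩ := stab_inf hF hm hg
  obtain ⟨c, d, rfl⟩ := hu
  rw [mul_inv_rev, show uS hF a b * tS hF t * uS hF c d * ((tS hF t)⁻¹ * (uS hF a b)⁻¹) =
    uS hF a b * (tS hF t * uS hF c d * (tS hF t)⁻¹) * (uS hF a b)⁻¹ by group, conj_uS]
  exact mul_mem (mul_mem (uS_mem hF _ _) (uS_mem hF _ _)) (inv_mem (uS_mem hF _ _))

theorem odd_index_unip (hm : 1 ≤ m) : Odd (unip hF).index := by
  have h := (unip hF).index_mul_card
  rw [card_unip, nat_card hF hm] at h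
  have hq : 0 < Fintype.card F ^ 2 := by positivity
  have hi : (unip hF).index = (Fintype.card F ^ 2 + 1) * (Fintype.card F - 1) :=
    Nat.eq_of_mul_eq_mul_right hq (by rw [h]; ring)
  have he : Even (Fintype.card F) := by
    rw [hF]; exact Nat.even_pow.2 ⟨even_two, by omega⟩
  rw [hi]
  exact Nat.odd_mul.2 ⟨(Nat.even_pow.2 ⟨he, two_ne_zero⟩).add_one,
    Nat.Even.sub_odd Fintype.card_pos he odd_one⟩

/-- The unipotent group as a Sylow subgroup. -/
def sylU (hm : 1 ≤ m) : Sylow 2 (Cfsg.Sz F m) :=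
  haveI := Fact.mk Nat.prime_two
  (isPGroup_unip hF).toSylow (fun h => Nat.not_even_iff_odd.2 (odd_index_unip hF hm) (even_iff_two_dvd.2 h))

theorem coe_sylU (hm : 1 ≤ m) : (sylU hF hm : Subgroup (Cfsg.Sz F m)) = unip hF := rfl

theorem exists_conj_sylow (hm : 1 ≤ m) (P : Sylow 2 (Cfsg.Sz F m)) :
    ∃ g : Cfsg.Sz F m, (P : Subgroup (Cfsg.Sz F m)) = (unip hF).map (MulAut.conj g).toMonoidHom := by
  haveI := Fact.mk Nat.prime_two
  obtain ⟨g, hg⟩ := MulAction.exists_smul_eq (Cfsg.Sz F m) (sylU hF hm) P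
  exact ⟨g, by rw [← hg]; rfl⟩

/-- The only point fixed by the unipotent group. -/
theorem fixed_unip {x : Cfsg.suzukiOvoid F m} (h : ∀ u ∈ unip hF, u • x = x) : x = pt F m none := by
  obtain ⟨_ | ⟨a, b⟩, rfl⟩ := (pt F m).surjective x
  · rfl
  · have h1 := h _ (uS_mem hF 0 1)
    rw [uS_some, EmbeddingLike.apply_eq_iff_eq, Option.some.injEq, Prod.mk.injEq] at h1
    simp at h1

/-- The normaliser of the unipotent group. -/
theorem normalizer_unip (hm : 1 ≤ m) :
    Subgroup.normalizer (unip hF : Set (Cfsg.Sz F m)) = borel F m := by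
  refine le_antisymm (fun g hg => fixed_unip hF fun u hu => ?_) fun g hg => ?_
  · obtain ⟨v, hv, rfl⟩ : ∃ v ∈ unip hF, g * v * g⁻¹ = u :=
      ⟨g⁻¹ * u * g, (Subgroup.mem_normalizer_iff'.1 hg (g⁻¹ * u)).2 (by rwa [mul_inv_cancel_left]), by group⟩
    rw [mul_smul, mul_smul, inv_smul_smul]
    congr 1
    exact unip_le_borel hF hv
  · rw [Subgroup.mem_normalizer_iff]
    exact fun u => ⟨conj_mem_unip hF hm hg, fun h => by
      have := conj_mem_unip hF hm (inv_mem hg) h
      simpa [mul_assoc] using this⟩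

open scoped commutatorElement in
include hF in
/-- The group is perfect. -/
theorem perfect (hm : 1 ≤ m) : commutator (Cfsg.Sz F m) = ⊤ := by
  have hn : ∀ g x : Cfsg.Sz F m, x ∈ commutator (Cfsg.Sz F m) → g * x * g⁻¹ ∈ commutator (Cfsg.Sz F m) :=
    fun g x hx => Subgroup.Normal.conj_mem inferInstance x hx g
  have hc : ∀ g h : Cfsg.Sz F m, g * h * g⁻¹ * h⁻¹ ∈ commutator (Cfsg.Sz F m) := fun g h =>
    Subgroup.commutator_mem_commutator (Subgroup.mem_top g) (Subgroup.mem_top h)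
  obtain ⟨c, hc0, hc1⟩ := exists_ne hm hF
  have hθc : th F m c ≠ 1 := fun e => hc1 ((th F m).injective (e.trans (map_one _).symm))
  -- the centre of the unipotent group
  have hz : ∀ b : F, uS hF 0 b ∈ commutator (Cfsg.Sz F m) := fun b => by
    have h := hc (tS hF (Units.mk0 c hc0)) (uS hF 0 (b / (th F m c + 1)))
    rw [conj_uS, uS_inv, uS_mul, Units.val_mk0] at h
    simp only [mul_zero, add_zero, map_zero] at h
    rwa [show th F m c * (b / (th F m c + 1)) + b / (th F m c + 1) = b by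
      have : th F m c + 1 ≠ 0 := fun e => hθc (CharTwo.add_eq_zero.1 e)
      field_simp] at h
  have hu : ∀ a b : F, uS hF a b ∈ commutator (Cfsg.Sz F m) := fun a b => by
    have hk : c ^ 2 / th F m c + 1 ≠ 0 := fun e => by
      have e' := CharTwo.add_eq_zero.1 e
      rw [div_eq_one_iff_eq (θ_ne_zero hc0)] at e'
      have h2 := congrArg (th F m) e'
      rw [map_pow, th_tits hF, ← e'] at h2
      exact hc1 (frobenius_inj F 2 (by
        simp only [frobenius_def, one_pow]
        exact mul_left_cancel₀ (pow_ne_zero 2 hc0) (by rw [mul_one, ← sq, h2])))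
    have h := hc (tS hF (Units.mk0 c hc0)) (uS hF (a / (c ^ 2 / th F m c + 1)) 0)
    rw [conj_uS, uS_inv, uS_mul, Units.val_mk0] at h
    obtain ⟨d, hd⟩ : ∃ d, uS hF a d ∈ commutator (Cfsg.Sz F m) := ⟨_, by
      rwa [show c ^ 2 / th F m c * (a / (c ^ 2 / th F m c + 1)) + a / (c ^ 2 / th F m c + 1) = a by
        rw [← add_one_mul]; field_simp] at h⟩
    have h2 := mul_mem hd (hz (b + d))
    rwa [uS_mul, add_zero, mul_zero, add_zero, add_left_comm, CharTwo.add_self_eq_zero, add_zero] at h2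
  -- the torus
  have hsq : Function.Surjective fun t : Fˣ => t ^ 2 := Finite.surjective_of_injective fun s t h =>
    Units.ext (frobenius_inj F 2 (by simpa [frobenius_def] using congrArg Units.val h))
  have ht : ∀ t : Fˣ, tS hF t ∈ commutator (Cfsg.Sz F m) := fun t => by
    obtain ⟨s, rfl⟩ := hsq t
    have h := hc (tS hF s) (wS hF)
    rw [inv_eq_of_mul_eq_one_right (wS_mul_self hF)] at h
    rw [show tS hF s * wS hF * (tS hF s)⁻¹ * wS hF = tS hF (s ^ 2) by
      rw [mul_assoc, mul_assoc, ← map_inv, ← mul_assoc (wS hF), wS_tS, map_inv, inv_inv, ← sq, ← map_pow]] at h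
    exact h
  -- the normal subgroup is everything
  refine eq_top_of_gens hF hm hu ht ?_
  have h1 : wS hF • pt F m none = pt F m (some ((0 : F), (0 : F))) := wS_none hF
  have h2 := hn (wS hF) _ (hu 0 1)
  rw [inv_eq_of_mul_eq_one_right (wS_mul_self hF)] at h2
  obtain ⟨_ | ⟨x, y⟩, ho⟩ := (pt F m).surjective ((wS hF * uS hF 0 1 * wS hF) • pt F m none)
  · exfalso
    rw [mul_smul, mul_smul, h1, uS_zero] at ho
    have := congrArg (fun p => wS hF • p) ho
    rw [← mul_smul, wS_mul_self, one_smul, h1, EmbeddingLike.apply_eq_iff_eq, Option.some.injEq,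
      Prod.mk.injEq] at this
    exact zero_ne_one this.2
  · -- an element of the derived group moving infinity
    set k := (uS hF x y)⁻¹ * (wS hF * uS hF 0 1 * wS hF) with hk
    have hk' : k ∈ commutator (Cfsg.Sz F m) := mul_mem (inv_mem (hu x y)) h2
    have hk0 : k • pt F m none = pt F m (some ((0 : F), (0 : F))) := by
      rw [hk, mul_smul, ← ho, inv_smul_eq_iff, uS_zero]
    obtain ⟨a, b, t, h⟩ := stab_inf hF hm (g := wS hF * k) (by rw [mul_smul, hk0, wS_zero])
    have e : k = wS hF * (uS hF a b * tS hF t) := by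
      rw [← h, ← mul_assoc, wS_mul_self, one_mul]
    rw [e] at hk'
    have := mul_mem hk' (inv_mem (mul_mem (hu a b) (ht t)))
    rwa [mul_inv_cancel_right] at this

include hF in
theorem solvable_borel (hm : 1 ≤ m) : Group.IsSolvable (borel F m) := by
  haveI : (unip hF).subgroupOf (borel F m) |>.Normal :=
    ⟨fun u hu g => conj_mem_unip hF hm g.2 hu⟩
  let φ : Fˣ →* borel F m ⧸ (unip hF).subgroupOf (borel F m) :=
    (QuotientGroup.mk' _).comp ((tS hF).codRestrict (borel F m) (tS_mem_borel hF))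
  have hφ : Function.Surjective φ := by
    intro x
    obtain ⟨g, rfl⟩ := QuotientGroup.mk'_surjective _ x
    obtain ⟨a, b, t, h⟩ := stab_inf hF hm g.2
    refine ⟨t, (QuotientGroup.mk'_eq_mk' _).2 ⟨⟨(tS hF t)⁻¹ * uS hF a b * tS hF t, ?_⟩, ?_, ?_⟩⟩
    · exact mul_mem (mul_mem (inv_mem (tS_mem_borel hF t)) (uS_mem_borel hF a b)) (tS_mem_borel hF t)
    · show (tS hF t)⁻¹ * uS hF a b * tS hF t ∈ unip hF
      have := conj_mem_unip hF hm (inv_mem (tS_mem_borel hF t)) (uS_mem hF a b)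
      rwa [inv_inv] at this
    · refine Subtype.ext ?_
      show tS hF t * ((tS hF t)⁻¹ * uS hF a b * tS hF t) = g
      rw [h]; group
  haveI : Group.IsSolvable (borel F m ⧸ (unip hF).subgroupOf (borel F m)) :=
    solvable_of_surjective hφ
  haveI := Fact.mk Nat.prime_two
  haveI : Group.IsNilpotent (unip hF) := (isPGroup_unip hF).isNilpotent
  haveI : Group.IsSolvable ((unip hF).subgroupOf (borel F m)) :=
    (Subgroup.subgroupOfEquivOfLe (unip_le_borel hF)).symm.surjective |>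
      solvable_of_surjective (f := (Subgroup.subgroupOfEquivOfLe (unip_le_borel hF)).symm.toMonoidHom)
  exact (Group.isSolvable_iff_subgroup_quotient ((unip hF).subgroupOf (borel F m))).2 ⟨inferInstance, inferInstance⟩

include hF in
/-- The Suzuki group is simple. -/
theorem isSimple (hm : 1 ≤ m) : IsSimpleGroup (Cfsg.Sz F m) := by
  haveI := faithful hF hm
  haveI := two_pretransitive hF (m := m)
  haveI : Nontrivial (Cfsg.Sz F m) := ⟨⟨uS hF 0 1, 1, fun h => one_ne_zero (α := F)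
    (uS_inj hF (h.trans (uS_one hF).symm)).2⟩⟩
  haveI : MulAction.IsPreprimitive (Cfsg.Sz F m) (Cfsg.suzukiOvoid F m) :=
    MulAction.isPreprimitive_of_is_two_pretransitive inferInstance
  refine IsSimpleGroup.mk fun N hN => or_iff_not_imp_left.2 fun hne => ?_
  haveI := hN
  haveI : MulAction.IsPretransitive N (Cfsg.suzukiOvoid F m) :=
    MulAction.IsQuasiPreprimitive.isPretransitive_of_normal fun hfix => hne (by
      refine (Subgroup.eq_bot_iff_forall _).2 fun g hg => eq_of_smul_eq_smul fun x : Cfsg.suzukiOvoid F m => ?_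
      rw [one_smul]
      have hx : x ∈ MulAction.fixedPoints N (Cfsg.suzukiOvoid F m) := hfix ▸ Set.mem_univ x
      exact hx ⟨g, hg⟩)
  -- the quotient is a solvable perfect group
  let ψ : borel F m →* Cfsg.Sz F m ⧸ N := (QuotientGroup.mk' N).comp (borel F m).subtype
  have hψ : Function.Surjective ψ := by
    intro x
    obtain ⟨g, rfl⟩ := QuotientGroup.mk'_surjective _ x
    obtain ⟨n, hn⟩ := MulAction.exists_smul_eq N (pt F m none) (g • pt F m none)
    exact ⟨⟨(n : Cfsg.Sz F m)⁻¹ * g, show ((n : Cfsg.Sz F m)⁻¹ * g) • pt F m none = _ by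
      rw [mul_smul, ← hn, Subgroup.smul_def, inv_smul_smul]⟩,
      by simp [ψ, (QuotientGroup.eq_one_iff (n : Cfsg.Sz F m)).2 n.2]⟩
  haveI := solvable_borel hF hm
  haveI : Group.IsSolvable (Cfsg.Sz F m ⧸ N) := solvable_of_surjective hψ
  have hperf : commutator (Cfsg.Sz F m ⧸ N) = ⊤ := by
    have := Subgroup.map_commutator (⊤ : Subgroup (Cfsg.Sz F m)) ⊤ (QuotientGroup.mk' N)
    rw [← MonoidHom.range_eq_map, MonoidHom.range_eq_top.2 (QuotientGroup.mk'_surjective N),
      ← commutator_def, perfect hF hm, ← MonoidHom.range_eq_map,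
      MonoidHom.range_eq_top.2 (QuotientGroup.mk'_surjective N)] at this
    rw [commutator_def, ← this]
  by_contra hN'
  haveI : Nontrivial (Cfsg.Sz F m ⧸ N) := QuotientGroup.nontrivial_iff.2 hN'
  exact (Group.IsSolvable.commutator_lt_top_of_nontrivial (Cfsg.Sz F m ⧸ N)).ne hperf

end CfsgLib.Lie.Suzuki
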