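import Cfsg.Agent.Lib.Lie.Suzuki.Count

/-!
# The two elliptic tori of the Suzuki groups

* `card_centralizer_free`: the orders `q + 2 r + 1` and `q - 2 r + 1`, normalisers four times as big
* `exists_free_torus`: both orders occur
* `conj_of_card_eq`: tori of equal order are conjugate
-/

set_option autoImplicit false

namespace CfsgLib.Lie.Suzuki

variable {F : Type*} [Field F] [CharP F 2] [Fintype F] {m : ℕ}
  (hF : Fintype.card F = 2 ^ (2 * m + 1))

local notation "C[" g "]" => Subgroup.centralizer ({g} : Set (Cfsg.Sz F m))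

include hF in
theorem not_three_dvd (hm : 1 ≤ m) : ¬ 3 ∣ Nat.card (Cfsg.Sz F m) := by
  have h := card_mod_three hF
  have h8 := two_lt_card hF hm
  rw [nat_card hF hm, Nat.prime_three.dvd_mul, Nat.prime_three.dvd_mul, Nat.dvd_iff_mod_eq_zero,
    Nat.dvd_iff_mod_eq_zero, Nat.dvd_iff_mod_eq_zero, Nat.add_mod, Nat.pow_mod, h]
  omega

include hF in
theorem five_le_card (hm : 1 ≤ m) {g : Cfsg.Sz F m} (hg : Free g) : 5 ≤ Nat.card C[g] := by
  have hd := free_card_dvd hF hm hg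
  have hne : Nat.card C[g] ≠ 1 := fun e => hg.ne_one hF (by
    have : g ∈ C[g] := Subgroup.mem_centralizer_singleton_iff.mpr rfl
    rw [Subgroup.eq_bot_of_card_eq _ e, Subgroup.mem_bot] at this
    exact this)
  have h0 : Nat.card C[g] ≠ 0 := Nat.card_pos.ne'
  have h2 : ¬ 2 ∣ Nat.card C[g] := fun h =>
    (Nat.not_even_iff_odd.mpr (odd_sq_add_one hF)) (even_iff_two_dvd.mpr (h.trans hd))
  have h3 : ¬ 3 ∣ Nat.card C[g] := fun h => by
    have h3' := h.trans hd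
    rw [Nat.dvd_iff_mod_eq_zero, Nat.add_mod, Nat.pow_mod, card_mod_three hF] at h3'
    omega
  by_contra h5
  interval_cases hk : Nat.card C[g] <;> omega

include hF in
/-- The quotient of the normaliser by the torus has order one, two or four. -/
theorem exists_normalizer_card (hm : 1 ≤ m) {g : Cfsg.Sz F m} (hg : Free g) :
    ∃ w : ℕ, (w = 1 ∨ w = 2 ∨ w = 4) ∧
      Nat.card (Subgroup.normalizer (C[g] : Set (Cfsg.Sz F m))) = Nat.card C[g] * w := by
  set N := Subgroup.normalizer (C[g] : Set (Cfsg.Sz F m)) with hN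
  have hle : C[g] ≤ N := Subgroup.le_normalizer
  refine ⟨(C[g].subgroupOf N).index, ?_, ?_⟩
  · have h4 := (free_centralizer hF hm hg).2
    have h0 : (C[g].subgroupOf N).index ≠ 0 := Subgroup.index_ne_zero_of_finite
    have h3 : (C[g].subgroupOf N).index ≠ 3 := fun e => not_three_dvd hF hm
      ((e ▸ Subgroup.index_dvd_card _).trans N.card_subgroup_dvd_card)
    rw [← hN] at h4
    omega
  · rw [← Nat.card_congr (Subgroup.subgroupOfEquivOfLe hle).toEquiv, Subgroup.card_mul_index]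

include hF in
theorem cls_data (hm : 1 ≤ m) {g : Cfsg.Sz F m} (hg : Free g) :
    ∃ w : ℕ, (w = 1 ∨ w = 2 ∨ w = 4) ∧
      Nat.card (Subgroup.normalizer (C[g] : Set (Cfsg.Sz F m))) = Nat.card C[g] * w ∧
      (Nat.card (cls C[g]) : ℤ) * (Nat.card C[g] * w) =
        Nat.card (Cfsg.Sz F m) * ((Nat.card C[g] : ℤ) - 1) := by
  obtain ⟨w, hw, hn⟩ := exists_normalizer_card hF hm hg
  refine ⟨w, hw, hn, ?_⟩
  have h := card_cls hF hm hg
  rw [hn] at h
  have := congrArg (Nat.cast (R := ℤ)) h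
  push_cast [Nat.cast_sub (Nat.card_pos : 1 ≤ Nat.card C[g])] at this
  exact this

include hF in
theorem conj_centralizer (hm : 1 ≤ m) {g g' : Cfsg.Sz F m} (hg : Free g) (hg' : Free g')
    {x : Cfsg.Sz F m} (hx : x ∈ cls C[g]) (hx' : x ∈ cls C[g']) : g' ∈ cls C[g] := by
  obtain ⟨h1, h, hh⟩ := hx
  obtain ⟨-, k, hk⟩ := hx'
  have hne : k⁻¹ * x * k ≠ 1 := fun e => h1 (by
    calc x = k * (k⁻¹ * x * k) * k⁻¹ := by group
      _ = 1 := by rw [e]; group)
  have hne' : h⁻¹ * x * h ≠ 1 := fun e => h1 (by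
    calc x = h * (h⁻¹ * x * h) * h⁻¹ := by group
      _ = 1 := by rw [e]; group)
  refine ⟨hg'.ne_one hF, k⁻¹ * h, ?_⟩
  obtain ⟨-, e⟩ := centralizer_eq hF hm hg hh hne'
  rw [← e, Subgroup.mem_centralizer_singleton_iff]
  obtain ⟨-, e'⟩ := centralizer_eq hF hm hg' hk hne
  have hgc : g' ∈ C[k⁻¹ * x * k] := e' ▸ Subgroup.mem_centralizer_singleton_iff.mpr rfl
  rw [Subgroup.mem_centralizer_singleton_iff] at hgc
  calc (k⁻¹ * h)⁻¹ * g' * (k⁻¹ * h) * (h⁻¹ * x * h)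
      = h⁻¹ * k * (g' * (k⁻¹ * x * k)) * k⁻¹ * h := by group
    _ = h⁻¹ * x * h * ((k⁻¹ * h)⁻¹ * g' * (k⁻¹ * h)) := by rw [hgc]; group

include hF in
theorem cls_trans (hm : 1 ≤ m) {g g' x : Cfsg.Sz F m} (hg : Free g) (hg' : Free g')
    (h : g' ∈ cls C[g]) (hx : x ∈ cls C[g']) : x ∈ cls C[g] := by
  obtain ⟨h1, k, hk⟩ := hx
  obtain ⟨-, l, hl⟩ := h
  have hne : l⁻¹ * g' * l ≠ 1 := fun e => hg'.ne_one hF (by
    calc g' = l * (l⁻¹ * g' * l) * l⁻¹ := by group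
      _ = 1 := by rw [e]; group)
  obtain ⟨-, e⟩ := centralizer_eq hF hm hg hl hne
  refine ⟨h1, k * l, ?_⟩
  rw [← e, Subgroup.mem_centralizer_singleton_iff]
  rw [Subgroup.mem_centralizer_singleton_iff] at hk
  calc (k * l)⁻¹ * x * (k * l) * (l⁻¹ * g' * l) = l⁻¹ * (k⁻¹ * x * k * g') * l := by group
    _ = l⁻¹ * g' * l * ((k * l)⁻¹ * x * (k * l)) := by rw [hk]; group

include hF in
theorem cls_disjoint (hm : 1 ≤ m) {g g' : Cfsg.Sz F m} (hg : Free g) (hg' : Free g')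
    (h : g' ∉ cls C[g]) : Disjoint (cls C[g]) (cls C[g']) :=
  Set.disjoint_left.mpr fun _ hx hx' => h (conj_centralizer hF hm hg hg' hx hx')

omit [CharP F 2] [Fintype F] in
theorem self_mem_cls {g : Cfsg.Sz F m} (h : g ≠ 1) : g ∈ cls C[g] :=
  ⟨h, 1, by
    rw [inv_one, one_mul, mul_one]
    exact Subgroup.mem_centralizer_singleton_iff.mpr rfl⟩

include hF in
theorem card_centralizer_conj (hm : 1 ≤ m) {g g' : Cfsg.Sz F m} (hg : Free g) (h : g' ∈ cls C[g]) :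
    ∃ l : Cfsg.Sz F m, ∀ a, a ∈ C[g'] ↔ l⁻¹ * a * l ∈ C[g] := by
  obtain ⟨h1, l, hl⟩ := h
  have hne : l⁻¹ * g' * l ≠ 1 := fun e => h1 (by
    calc g' = l * (l⁻¹ * g' * l) * l⁻¹ := by group
      _ = 1 := by rw [e]; group)
  obtain ⟨-, e⟩ := centralizer_eq hF hm hg hl hne
  refine ⟨l, fun a => ?_⟩
  rw [← e, Subgroup.mem_centralizer_singleton_iff, Subgroup.mem_centralizer_singleton_iff]
  constructor
  · intro h
    calc l⁻¹ * a * l * (l⁻¹ * g' * l) = l⁻¹ * (a * g') * l := by group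
      _ = l⁻¹ * g' * l * (l⁻¹ * a * l) := by rw [h]; group
  · intro h
    calc a * g' = l * (l⁻¹ * a * l * (l⁻¹ * g' * l)) * l⁻¹ := by group
      _ = g' * a := by rw [h]; group

include hF in
theorem card_eq_of_cls (hm : 1 ≤ m) {g g' : Cfsg.Sz F m} (hg : Free g) (h : g' ∈ cls C[g]) :
    Nat.card C[g'] = Nat.card C[g] := by
  obtain ⟨l, hl⟩ := card_centralizer_conj hF hm hg h
  refine Nat.card_congr ((MulAut.conj l⁻¹).toEquiv.subtypeEquiv fun a => ?_)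
  show _ ↔ l⁻¹ * a * l⁻¹⁻¹ ∈ C[g]
  rw [inv_inv]
  exact hl a

include hF in
theorem sylow_le_centralizer (hm : 1 ≤ m) {p : ℕ} [hp : Fact p.Prime]
    (hdvd : p ∣ Fintype.card F ^ 2 + 1) (P : Sylow p (Cfsg.Sz F m)) :
    ∃ z : Cfsg.Sz F m, Free z ∧ (P : Subgroup (Cfsg.Sz F m)) ≤ C[z] := by
  have hpT : p ∣ Nat.card (Cfsg.Sz F m) := by
    rw [nat_card hF hm]
    exact (hdvd.mul_left _).mul_right _
  haveI : Nontrivial (P : Subgroup (Cfsg.Sz F m)) :=
    (Subgroup.nontrivial_iff_ne_bot _).mpr (P.ne_bot_of_dvd_card hpT)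
  haveI := P.2.center_nontrivial
  obtain ⟨c, hc1⟩ := _root_.exists_ne (1 : Subgroup.center (P : Subgroup (Cfsg.Sz F m)))
  obtain ⟨i, hi⟩ := IsPGroup.iff_orderOf.mp P.2 (c : (P : Subgroup (Cfsg.Sz F m)))
  have hi0 : i ≠ 0 := by
    rintro rfl
    rw [pow_zero, orderOf_eq_one_iff] at hi
    exact hc1 (Subtype.ext hi)
  set c' : Cfsg.Sz F m := ((c : (P : Subgroup (Cfsg.Sz F m))) : Cfsg.Sz F m) with hc'
  have hord : orderOf (c' ^ (p ^ (i - 1))) = p := by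
    have hoc : orderOf c' = p ^ i := by rw [hc', Subgroup.orderOf_coe, hi]
    rw [orderOf_pow, hoc, Nat.gcd_eq_right (pow_dvd_pow p (Nat.sub_le i 1)),
      Nat.pow_div (Nat.sub_le i 1) hp.out.pos, show i - (i - 1) = 1 by omega, pow_one]
  refine ⟨_, free_of_prime hF hm hdvd hord, fun x hx => Subgroup.mem_centralizer_singleton_iff.mpr ?_⟩
  have hcx : Commute x c' := congrArg Subtype.val (Subgroup.mem_center_iff.mp c.2 ⟨x, hx⟩)
  exact (hcx.pow_right _).eq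

include hF in
theorem dvd_of_covered (hm : 1 ≤ m) (k : ℕ)
    (h : ∀ g : Cfsg.Sz F m, Free g → Nat.card C[g] ∣ k) : Fintype.card F ^ 2 + 1 ∣ k := by
  refine (Nat.dvd_iff_prime_pow_dvd_dvd k _).mpr fun p e hp hpe => ?_
  rcases Nat.eq_zero_or_pos e with rfl | he
  · rw [pow_zero]; exact one_dvd k
  haveI := Fact.mk hp
  let P : Sylow p (Cfsg.Sz F m) := default
  obtain ⟨z, hz, hle⟩ := sylow_le_centralizer hF hm ((dvd_pow_self p he.ne').trans hpe) P
  have hP : p ^ e ∣ Nat.card (P : Subgroup (Cfsg.Sz F m)) :=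
    P.pow_dvd_card_of_pow_dvd_card (by rw [nat_card hF hm]; exact (hpe.mul_left _).mul_right _)
  exact (hP.trans (Subgroup.card_dvd_of_le hle)).trans (h z hz)

include hF in
theorem coprime_cards (hm : 1 ≤ m) {g g' : Cfsg.Sz F m} (hg : Free g) (hg' : Free g')
    (h : g' ∉ cls C[g]) : (Nat.card C[g]).Coprime (Nat.card C[g']) := by
  refine Nat.coprime_of_dvd fun p hp h1 h2 => h ?_
  haveI := Fact.mk hp
  have key : ∀ x : Cfsg.Sz F m, Free x → p ∣ Nat.card C[x] →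
      ∃ (P : Sylow p (Cfsg.Sz F m)) (a : Cfsg.Sz F m), a ∈ C[x] ∧ a ≠ 1 ∧
        (P : Subgroup (Cfsg.Sz F m)) ≤ C[x] := by
    intro x hx hpx
    obtain ⟨a, ha⟩ := exists_prime_orderOf_dvd_card' p hpx
    have ha' : orderOf (a : Cfsg.Sz F m) = p := by rw [Subgroup.orderOf_coe, ha]
    obtain ⟨P, hP⟩ := (IsPGroup.of_card (n := 1) (show Nat.card (Subgroup.zpowers (a : Cfsg.Sz F m)) = p ^ 1
      by rw [Nat.card_zpowers, ha', pow_one])).exists_le_sylow
    obtain ⟨z, hz, hle⟩ := sylow_le_centralizer hF hm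
      (hpx.trans (free_card_dvd hF hm hx)) P
    have ha1 : (a : Cfsg.Sz F m) ≠ 1 := fun e => hp.ne_one (by rw [← ha', e, orderOf_one])
    have haz : (a : Cfsg.Sz F m) ∈ C[z] := hle (hP (Subgroup.mem_zpowers _))
    refine ⟨P, a, a.2, ha1, ?_⟩
    rw [← (centralizer_eq hF hm hx a.2 ha1).2, (centralizer_eq hF hm hz haz ha1).2]
    exact hle
  obtain ⟨P, a, ha, ha1, hP⟩ := key g hg h1
  obtain ⟨P', a', ha', ha1', hP'⟩ := key g' hg' h2
  obtain ⟨t, ht⟩ := MulAction.exists_smul_eq (Cfsg.Sz F m) P P'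
  obtain ⟨b, hb, hb1⟩ := (Subgroup.bot_or_exists_ne_one (P : Subgroup (Cfsg.Sz F m))).resolve_left
    (P.ne_bot_of_dvd_card (by
      rw [nat_card hF hm]
      exact ((h1.trans (free_card_dvd hF hm hg)).mul_left _).mul_right _))
  have hb' : t * b * t⁻¹ ∈ (P' : Subgroup (Cfsg.Sz F m)) := by
    rw [← ht, Sylow.coe_subgroup_smul]
    exact Subgroup.smul_mem_pointwise_smul b (MulAut.conj t) _ hb
  have hne : t * b * t⁻¹ ≠ 1 := fun e => hb1 (by
    calc b = t⁻¹ * (t * b * t⁻¹) * t := by group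
      _ = 1 := by rw [e]; group)
  exact conj_centralizer hF hm hg hg' (x := t * b * t⁻¹)
    ⟨hne, t, by rw [show t⁻¹ * (t * b * t⁻¹) * t = b by group]; exact hP hb⟩
    ⟨hne, 1, by rw [inv_one, one_mul, mul_one]; exact hP' hb'⟩

theorem class_bound {c k T w : ℤ} (hT : 0 < T) (hk : 5 ≤ k) (hw : 1 ≤ w) (hw4 : w ≤ 4)
    (hc : 0 ≤ c) (h : c * (k * w) = T * (k - 1)) : T ≤ 5 * c ∧ (w ≤ 2 → 2 * T ≤ 5 * c) := by
  have h0 : 5 * (c * (k * w)) = T * (5 * (k - 1)) := by rw [h]; ring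
  have hk0 : 0 < k := by linarith
  constructor
  · have : T * (4 * k) ≤ 5 * c * (4 * k) := by
      nlinarith [mul_nonneg hc (mul_nonneg hk0.le (sub_nonneg.mpr hw4)),
        mul_nonneg hT.le (sub_nonneg.mpr hk)]
    exact le_of_mul_le_mul_right this (by linarith)
  · intro hw2
    have : 2 * T * (2 * k) ≤ 5 * c * (2 * k) := by
      nlinarith [mul_nonneg hc (mul_nonneg hk0.le (sub_nonneg.mpr hw2)),
        mul_nonneg hT.le (sub_nonneg.mpr hk)]
    exact le_of_mul_le_mul_right this (by linarith)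

include hF in
/-- The global structure: two classes of tori. -/
theorem tori_structure (hm : 1 ≤ m) :
    ∃ g₁ g₂ : Cfsg.Sz F m, Free g₁ ∧ Free g₂ ∧ g₂ ∉ cls C[g₁] ∧
      (∀ g, Free g → g ∈ cls C[g₁] ∨ g ∈ cls C[g₂]) ∧
      Nat.card C[g₁] = 2 ^ (2 * m + 1) + 2 ^ (m + 1) + 1 ∧
      Nat.card C[g₂] = 2 ^ (2 * m + 1) - 2 ^ (m + 1) + 1 ∧
      Nat.card (Subgroup.normalizer (C[g₁] : Set (Cfsg.Sz F m))) = 4 * Nat.card C[g₁] ∧
      Nat.card (Subgroup.normalizer (C[g₂] : Set (Cfsg.Sz F m))) = 4 * Nat.card C[g₂] := by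
  classical
  set q : ℤ := ((Fintype.card F : ℕ) : ℤ) with hq
  set T : ℤ := ((Nat.card (Cfsg.Sz F m) : ℕ) : ℤ) with hT
  have h8 : 8 ≤ q := by rw [hq]; exact_mod_cast two_lt_card hF hm
  have hTq : T = q ^ 2 * (q ^ 2 + 1) * (q - 1) := by
    rw [hT, nat_card hF hm]
    push_cast [Nat.cast_sub (Fintype.card_pos : 1 ≤ Fintype.card F)]
    rfl
  have hTpos : 0 < T := by rw [hT]; exact_mod_cast Nat.card_pos
  have hn0 := two_mul_card_free hF hm
  rw [← hT, ← hq] at hn0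
  have hfreeset : ∀ {g : Cfsg.Sz F m}, Free g → cls C[g] ⊆ {x | Free x} :=
    fun hg x hx => free_of_mem_cls hF hm hg hx
  have hfin : ∀ s : Set (Cfsg.Sz F m), s.Finite := fun s => Set.toFinite s
  obtain ⟨g₁, hg₁⟩ : ∃ g : Cfsg.Sz F m, Free g := by
    by_contra h
    push Not at h
    haveI : IsEmpty {g : Cfsg.Sz F m // Free g} := ⟨fun g => h g g.2⟩
    rw [Nat.card_of_isEmpty, hTq] at hn0
    have h1 : (0 : ℤ) < (q ^ 2 + 1) * (q - 1) - (q ^ 2 - 1) := by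
      nlinarith [mul_pos (show (0 : ℤ) < q - 1 by omega) (show (0 : ℤ) < q * (q - 1) by nlinarith)]
    have h2 := mul_pos (show (0 : ℤ) < q ^ 2 by positivity) h1
    push_cast at hn0
    linarith
  obtain ⟨w₁, hw₁, hN₁, hc₁⟩ := cls_data hF hm hg₁
  have hk₁ : (5 : ℤ) ≤ Nat.card C[g₁] := by exact_mod_cast five_le_card hF hm hg₁
  -- a second class
  obtain ⟨g₂, hg₂, hg₂n⟩ : ∃ g, Free g ∧ g ∉ cls C[g₁] := by
    by_contra hall
    push Not at hall
    have e : cls C[g₁] = {x | Free x} := Set.Subset.antisymm (hfreeset hg₁) fun x hx => hall x hx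
    have hk : Nat.card C[g₁] = Fintype.card F ^ 2 + 1 :=
      Nat.dvd_antisymm (free_card_dvd hF hm hg₁)
        (dvd_of_covered hF hm _ fun g hg => (card_eq_of_cls hF hm hg₁ (hall g hg)).dvd)
    have ec : (Nat.card {g : Cfsg.Sz F m // Free g} : ℤ) = Nat.card (cls C[g₁]) := by rw [e]; rfl
    rw [ec] at hn0
    set c : ℤ := ((Nat.card (cls C[g₁]) : ℕ) : ℤ)
    rw [hk] at hc₁
    push_cast at hc₁
    rw [← hq, ← hT] at hc₁
    have e1 : c * w₁ = q ^ 4 * (q - 1) := by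
      refine mul_left_cancel₀ (show q ^ 2 + 1 ≠ 0 by positivity) ?_
      linear_combination hc₁ + q ^ 2 * hTq
    have e2 : (w₁ : ℤ) * (q - 1) = 2 * q := by
      refine mul_left_cancel₀ (show q ^ 3 * (q - 1) ≠ 0 by
        exact mul_ne_zero (by positivity) (by omega)) ?_
      linear_combination 2 * e1 - (w₁ : ℤ) * hn0 - (w₁ : ℤ) * hTq
    rcases hw₁ with rfl | rfl | rfl <;> push_cast at e2 <;> omega
  obtain ⟨w₂, hw₂, hN₂, hc₂⟩ := cls_data hF hm hg₂
  have hk₂ : (5 : ℤ) ≤ Nat.card C[g₂] := by exact_mod_cast five_le_card hF hm hg₂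
  have hdisj := cls_disjoint hF hm hg₁ hg₂ hg₂n
  have hb₁ := class_bound hTpos hk₁ (show (1 : ℤ) ≤ (w₁ : ℤ) by omega) (by omega) (by positivity) hc₁
  have hb₂ := class_bound hTpos hk₂ (show (1 : ℤ) ≤ (w₂ : ℤ) by omega) (by omega) (by positivity) hc₂
  have hle0 : (Nat.card (cls C[g₁]) : ℤ) + Nat.card (cls C[g₂]) ≤
      Nat.card {g : Cfsg.Sz F m // Free g} := by
    have h := Set.ncard_le_ncard (Set.union_subset (hfreeset hg₁) (hfreeset hg₂)) (hfin _)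
    rw [Set.ncard_union_eq hdisj (hfin _) (hfin _), ← Nat.card_coe_set_eq, ← Nat.card_coe_set_eq,
      ← Nat.card_coe_set_eq] at h
    exact_mod_cast h
  have hlt : 2 * (Nat.card {g : Cfsg.Sz F m // Free g} : ℤ) < T := by
    rw [hn0]
    nlinarith
  have hwe₁ : w₁ = 4 := by
    by_contra h
    have := hb₁.2 (by omega)
    linarith [hb₂.1]
  have hwe₂ : w₂ = 4 := by
    by_contra h
    have := hb₂.2 (by omega)
    linarith [hb₁.1]
  have hall : ∀ g, Free g → g ∈ cls C[g₁] ∨ g ∈ cls C[g₂] := by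
    intro g hg
    by_contra h
    push Not at h
    obtain ⟨w, hw, -, hc⟩ := cls_data hF hm hg
    have hk : (5 : ℤ) ≤ Nat.card C[g] := by exact_mod_cast five_le_card hF hm hg
    have hb := class_bound hTpos hk (show (1 : ℤ) ≤ (w : ℤ) by omega) (by omega) (by positivity) hc
    have hsub := Set.ncard_le_ncard (Set.union_subset
      (Set.union_subset (hfreeset hg₁) (hfreeset hg₂)) (hfreeset hg)) (hfin _)
    rw [Set.ncard_union_eq (Set.disjoint_union_left.mpr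
        ⟨cls_disjoint hF hm hg₁ hg h.1, cls_disjoint hF hm hg₂ hg h.2⟩) (hfin _) (hfin _),
      Set.ncard_union_eq hdisj (hfin _) (hfin _), ← Nat.card_coe_set_eq, ← Nat.card_coe_set_eq,
      ← Nat.card_coe_set_eq, ← Nat.card_coe_set_eq] at hsub
    have h3 : (Nat.card (cls C[g₁]) : ℤ) + Nat.card (cls C[g₂]) + Nat.card (cls C[g]) ≤
        Nat.card {g : Cfsg.Sz F m // Free g} := by exact_mod_cast hsub
    linarith [hb₁.1, hb₂.1, hb.1]
  -- the orders
  have hk12 : Nat.card C[g₁] * Nat.card C[g₂] = Fintype.card F ^ 2 + 1 := by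
    refine Nat.dvd_antisymm ((coprime_cards hF hm hg₁ hg₂ hg₂n).mul_dvd_of_dvd_of_dvd
      (free_card_dvd hF hm hg₁) (free_card_dvd hF hm hg₂)) (dvd_of_covered hF hm _ fun g hg => ?_)
    rcases hall g hg with h | h
    · rw [card_eq_of_cls hF hm hg₁ h]; exact dvd_mul_right _ _
    · rw [card_eq_of_cls hF hm hg₂ h]; exact dvd_mul_left _ _
  have htot : (Nat.card {g : Cfsg.Sz F m // Free g} : ℤ) =
      Nat.card (cls C[g₁]) + Nat.card (cls C[g₂]) := by
    have e : {x : Cfsg.Sz F m | Free x} = cls C[g₁] ∪ cls C[g₂] :=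
      Set.Subset.antisymm (fun x hx => hall x hx) (Set.union_subset (hfreeset hg₁) (hfreeset hg₂))
    have h := congrArg Set.ncard e
    rw [Set.ncard_union_eq hdisj (hfin _) (hfin _), ← Nat.card_coe_set_eq, ← Nat.card_coe_set_eq,
      ← Nat.card_coe_set_eq] at h
    exact_mod_cast h
  rw [htot] at hn0
  subst hwe₁ hwe₂
  push_cast at hc₁ hc₂
  rw [← hT] at hc₁ hc₂
  obtain ⟨k₁, hk₁e⟩ : ∃ k : ℤ, k = Nat.card C[g₁] := ⟨_, rfl⟩
  obtain ⟨k₂, hk₂e⟩ : ∃ k : ℤ, k = Nat.card C[g₂] := ⟨_, rfl⟩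
  rw [← hk₁e] at hc₁ hk₁
  rw [← hk₂e] at hc₂ hk₂
  have hkk : k₁ * k₂ = q ^ 2 + 1 := by rw [hk₁e, hk₂e, hq]; exact_mod_cast hk12
  have hsum : k₁ + k₂ = 2 * (q + 1) := by
    refine mul_left_cancel₀ (show (q ^ 2 + 1) * q ^ 2 * (q - 1) ≠ 0 by
      exact mul_ne_zero (mul_ne_zero (by positivity) (by positivity)) (by omega)) ?_
    linear_combination -(2 * k₁ * k₂) * hn0 + k₂ * hc₁ + k₁ * hc₂ - (k₁ + k₂) * hTq + 2 * q ^ 2 * (q ^ 2 - 1) * hkk
  have hr : ((2 : ℤ) ^ (m + 1)) ^ 2 = 2 * q := by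
    rw [hq, hF]; push_cast; ring
  have hsq : (k₁ - (q + 1)) ^ 2 = ((2 : ℤ) ^ (m + 1)) ^ 2 := by
    linear_combination k₁ * hsum - hkk - hr
  have hle : 2 ^ (m + 1) ≤ 2 ^ (2 * m + 1) := Nat.pow_le_pow_right (by norm_num) (by omega)
  have hqn : q = ((2 ^ (2 * m + 1) : ℕ) : ℤ) := by rw [hq, hF]
  rcases sq_eq_sq_iff_eq_or_eq_neg.mp hsq with h | h
  · exact ⟨g₁, g₂, hg₁, hg₂, hg₂n, hall, by push_cast [← @Nat.cast_inj ℤ] at *; omega,
      by rw [← @Nat.cast_inj ℤ]; push_cast [Nat.cast_sub hle]; push_cast at hqn; omega,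
      by rw [hN₁]; ring, by rw [hN₂]; ring⟩
  · refine ⟨g₂, g₁, hg₂, hg₁, fun hc => hg₂n ?_, fun g hg => (hall g hg).symm,
      by rw [← @Nat.cast_inj ℤ]; push_cast; push_cast at hqn; omega,
      by rw [← @Nat.cast_inj ℤ]; push_cast [Nat.cast_sub hle]; push_cast at hqn; omega,
      by rw [hN₂]; ring, by rw [hN₁]; ring⟩
    exact conj_centralizer hF hm hg₁ hg₂ (self_mem_cls (hg₁.ne_one hF)) hc

end CfsgLib.Lie.Suzuki
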