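import Cfsg.Agent.Lib.Lie.Suzuki.Partition

/-!
# The solvable subgroups of the Suzuki groups

* `Semi a`: the centraliser of `a` is a torus; `semi_normalizer_card`, `pow_four_eq_one`
* `card_normalizer_inf_stab`: a torus normalised by a 2-element fixing `p`
* `isSolvable_closure_iff`: generation of a solvable subgroup by two elements
-/

set_option autoImplicit false

namespace CfsgLib.Lie.Suzuki

variable {F : Type*} [Field F] [CharP F 2] [Fintype F] {m : ℕ}
  (hF : Fintype.card F = 2 ^ (2 * m + 1))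

local notation "P∞" => pt F m none
local notation "P₀" => pt F m (some ((0 : F), (0 : F)))
local notation "C[" g "]" => Subgroup.centralizer ({g} : Set (Cfsg.Sz F m))
local notation "N[" g "]" => Subgroup.normalizer
  (SetLike.coe (Subgroup.centralizer ({g} : Set (Cfsg.Sz F m))))

include hF in
/-- A nontrivial element of the torus at infinity has the torus as centraliser. -/
theorem centralizer_eq_cj_tSub (hm : 1 ≤ m) {a h : Cfsg.Sz F m} (ha : a ∈ cj h (tSub hF))
    (h1 : a ≠ 1) : C[a] = cj h (tSub hF) := by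
  refine le_antisymm (fun y hy => centralizer_cj_tS hF hm ha h1
    (Subgroup.mem_centralizer_singleton_iff.mp hy).symm) fun y hy => ?_
  haveI := isCyclic_cj h (isCyclic_tSub hF)
  exact Subgroup.mem_centralizer_singleton_iff.mpr
    (congrArg Subtype.val (mul_comm' (⟨y, hy⟩ : cj h (tSub hF)) ⟨a, ha⟩))

/-- An element of odd order, not one: its centraliser is a torus. -/
def Semi (hF : Fintype.card F = 2 ^ (2 * m + 1)) (a : Cfsg.Sz F m) : Prop :=
  a ≠ 1 ∧ (Free a ∨ ∃ h, a ∈ cj h (tSub hF))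

theorem Semi.ne_one {a : Cfsg.Sz F m} (ha : Semi hF a) : a ≠ 1 := ha.1

include hF in
theorem semi_cyclic (hm : 1 ≤ m) {a : Cfsg.Sz F m} (ha : Semi hF a) : IsCyclic C[a] := by
  rcases ha.2 with h | ⟨h, hh⟩
  · exact (free_centralizer hF hm h).1
  · rw [centralizer_eq_cj_tSub hF hm hh ha.1]
    exact isCyclic_cj h (isCyclic_tSub hF)

include hF in
theorem semi_commute (hm : 1 ≤ m) {a b c : Cfsg.Sz F m} (ha : Semi hF a) (hb : b ∈ C[a])
    (hc : c ∈ C[a]) : Commute b c := by
  haveI := semi_cyclic hF hm ha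
  exact congrArg Subtype.val (mul_comm' (⟨b, hb⟩ : C[a]) ⟨c, hc⟩)

include hF in
theorem semi_eq (hm : 1 ≤ m) {a b : Cfsg.Sz F m} (ha : Semi hF a) (hb : b ∈ C[a]) (h1 : b ≠ 1) :
    Semi hF b ∧ C[b] = C[a] := by
  rcases ha.2 with h | ⟨h, hh⟩
  · obtain ⟨hfree, e⟩ := centralizer_eq hF hm h hb h1
    exact ⟨⟨h1, Or.inl hfree⟩, e⟩
  · rw [centralizer_eq_cj_tSub hF hm hh ha.1] at hb ⊢
    exact ⟨⟨h1, Or.inr ⟨h, hb⟩⟩, centralizer_eq_cj_tSub hF hm hb h1⟩

include hF in
theorem semi_odd_card (hm : 1 ≤ m) {a : Cfsg.Sz F m} (ha : Semi hF a) : Odd (Nat.card C[a]) := by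
  rcases ha.2 with h | ⟨h, hh⟩
  · exact Odd.of_dvd_nat (odd_sq_add_one hF) (free_card_dvd hF hm h)
  · rw [centralizer_eq_cj_tSub hF hm hh ha.1, card_cj, card_tSub]
    exact odd_card_sub_one hF

include hF in
theorem semi_odd_order (hm : 1 ≤ m) {a : Cfsg.Sz F m} (ha : Semi hF a) : Odd (orderOf a) := by
  have h : a ∈ C[a] := Subgroup.mem_centralizer_singleton_iff.mpr rfl
  refine Odd.of_dvd_nat (semi_odd_card hF hm ha) ?_
  rw [← Subgroup.orderOf_mk a h]
  exact orderOf_dvd_natCard _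

include hF in
theorem mem_normalizer_tSub_iff (hm : 1 ≤ m) {g : Cfsg.Sz F m} :
    g ∈ Subgroup.normalizer (tSub hF : Set (Cfsg.Sz F m)) ↔ g ∈ tSub hF ∨ wS hF * g ∈ tSub hF := by
  have hw : ∀ y : Cfsg.Sz F m, y ∈ tSub hF → wS hF * y * (wS hF)⁻¹ ∈ tSub hF := by
    intro y hy
    obtain ⟨h0, h1⟩ := (le_stab_two hF hm).mp hy
    rw [inv_eq_of_mul_eq_one_right (wS_mul_self hF)]
    exact (le_stab_two hF hm).mpr ⟨by rw [mul_smul, mul_smul, wS_none, h1, wS_zero],
      by rw [mul_smul, mul_smul, wS_zero, h0, wS_none]⟩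
  have hwN : wS hF ∈ Subgroup.normalizer (tSub hF : Set (Cfsg.Sz F m)) := by
    rw [Subgroup.mem_normalizer_iff]
    refine fun y => ⟨hw y, fun hy => ?_⟩
    have := hw _ hy
    rw [inv_eq_of_mul_eq_one_right (wS_mul_self hF)] at this
    rwa [show wS hF * (wS hF * y * wS hF) * wS hF = wS hF * wS hF * y * (wS hF * wS hF) by group,
      wS_mul_self, one_mul, mul_one] at this
  constructor
  · intro hg
    obtain ⟨t, ht⟩ : ∃ t : Fˣ, t ≠ 1 := by
      have : 1 < Nat.card Fˣ := by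
        rw [Nat.card_units, Nat.card_eq_fintype_card]
        have := two_lt_card hF hm
        omega
      haveI : Nontrivial Fˣ := Finite.one_lt_card_iff_nontrivial.mp this
      exact _root_.exists_ne 1
    have ht' : tS hF t ∈ tSub hF := (mem_tSub hF).mpr ⟨t, rfl⟩
    have ht1 : tS hF t ≠ 1 := fun e => ht (tS_injective hF (e.trans (map_one _).symm))
    have hm' : g⁻¹ * tS hF t * g ∈ tSub hF := by
      have := (Subgroup.mem_normalizer_iff.mp (inv_mem hg) _).mp ht'
      rwa [inv_inv] at this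
    obtain ⟨h0, h1⟩ := (le_stab_two hF hm).mp hm'
    rw [mul_smul, mul_smul, inv_smul_eq_iff] at h0 h1
    rcases tSub_fix hF hm ht' ht1 h0 with e0 | e0 <;> rcases tSub_fix hF hm ht' ht1 h1 with e1 | e1
    · exact absurd (MulAction.injective g (e0.trans e1.symm)) (by simp)
    · exact Or.inl ((le_stab_two hF hm).mpr ⟨e0, e1⟩)
    · exact Or.inr ((le_stab_two hF hm).mpr
        ⟨by rw [mul_smul, e0, wS_zero], by rw [mul_smul, e1, wS_none]⟩)
    · exact absurd (MulAction.injective g (e0.trans e1.symm)) (by simp)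
  · rintro (h | h)
    · exact Subgroup.le_normalizer h
    · have := mul_mem hwN (Subgroup.le_normalizer h)
      rwa [← mul_assoc, wS_mul_self, one_mul] at this

include hF in
theorem card_normalizer_tSub (hm : 1 ≤ m) :
    Nat.card (Subgroup.normalizer (tSub hF : Set (Cfsg.Sz F m))) = Nat.card (tSub hF) * 2 := by
  set N := Subgroup.normalizer (tSub hF : Set (Cfsg.Sz F m)) with hN
  have hle : tSub hF ≤ N := Subgroup.le_normalizer
  have hw : wS hF ∈ N := (mem_normalizer_tSub_iff hF hm).mpr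
    (Or.inr (by rw [wS_mul_self]; exact one_mem _))
  have hwT : wS hF ∉ tSub hF := fun h => by
    have := ((le_stab_two hF hm).mp h).1
    rw [wS_none] at this
    simp at this
  have hidx : ((tSub hF).subgroupOf N).index = 2 := by
    rw [Subgroup.index_eq_two_iff']
    refine ⟨⟨wS hF, hw⟩, fun b => ?_⟩
    simp only [Subgroup.mem_subgroupOf, Subgroup.coe_mul]
    by_cases hb : (b : Cfsg.Sz F m) ∈ tSub hF
    · refine Or.inr ⟨hb, fun h => hwT ?_⟩
      simpa using mul_mem h (inv_mem hb)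
    · exact Or.inl ⟨((mem_normalizer_tSub_iff hF hm).mp b.2).resolve_left hb, hb⟩
  rw [← Nat.card_congr (Subgroup.subgroupOfEquivOfLe hle).toEquiv, ← hidx, Subgroup.card_mul_index]

include hF in
/-- The normaliser of a torus. -/
theorem semi_normalizer_card (hm : 1 ≤ m) {a : Cfsg.Sz F m} (ha : Semi hF a) :
    (Free a ∧ Nat.card N[a] = Nat.card C[a] * 4) ∨
      ((∃ h, a ∈ cj h (tSub hF)) ∧ Nat.card N[a] = Nat.card C[a] * 2) := by
  rcases ha.2 with h | ⟨h, hh⟩
  · exact Or.inl ⟨h, by rw [free_normalizer_card hF hm h, mul_comm]⟩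
  · refine Or.inr ⟨⟨h, hh⟩, ?_⟩
    rw [centralizer_eq_cj_tSub hF hm hh ha.1, card_cj, ← card_normalizer_tSub hF hm,
      ← card_cj h (Subgroup.normalizer (tSub hF : Set (Cfsg.Sz F m)))]
    refine congrArg (fun S : Subgroup (Cfsg.Sz F m) => Nat.card S) ?_
    rw [cj, cj, Subgroup.map_equiv_normalizer_eq]

include hF in
theorem semi_index (hm : 1 ≤ m) {a : Cfsg.Sz F m} (ha : Semi hF a) :
    (C[a].subgroupOf N[a]).index = 2 ∨ (C[a].subgroupOf N[a]).index = 4 := by
  have h : Nat.card C[a] * (C[a].subgroupOf N[a]).index = Nat.card N[a] := by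
    rw [← Nat.card_congr (Subgroup.subgroupOfEquivOfLe (Subgroup.le_normalizer : C[a] ≤ N[a])).toEquiv,
      Subgroup.card_mul_index]
  have h0 : 0 < Nat.card C[a] := Nat.card_pos
  rcases semi_normalizer_card hF hm ha with ⟨-, e⟩ | ⟨-, e⟩ <;> rw [e] at h
  · exact Or.inr (Nat.eq_of_mul_eq_mul_left h0 h)
  · exact Or.inl (Nat.eq_of_mul_eq_mul_left h0 h)

include hF in
theorem pow_four_eq_one (hm : 1 ≤ m) {a y : Cfsg.Sz F m} (ha : Semi hF a) (hy : y ∈ N[a])
    (hyA : y ∉ C[a]) : y ^ 4 = 1 := by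
  have h4 : y ^ 4 ∈ C[a] := by
    have h := Subgroup.pow_index_mem (C[a].subgroupOf N[a]) ⟨y, hy⟩
    rw [Subgroup.mem_subgroupOf, Subgroup.coe_pow] at h
    rcases semi_index hF hm ha with e | e <;> rw [e] at h
    · have := pow_mem h 2
      rwa [← pow_mul] at this
    · exact h
  by_contra h1
  apply hyA
  rw [← (semi_eq hF hm ha h4 h1).2, Subgroup.mem_centralizer_singleton_iff]
  exact ((Commute.refl y).pow_right 4).eq

include hF in
theorem semi_mem_of_normalizer (hm : 1 ≤ m) {a y : Cfsg.Sz F m} (ha : Semi hF a) (hy : Semi hF y)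
    (hN : y ∈ N[a]) : y ∈ C[a] := by
  by_contra h
  have h4 : orderOf y ∣ 4 := orderOf_dvd_of_pow_eq_one (pow_four_eq_one hF hm ha hN h)
  exact hy.1 (orderOf_eq_one_iff.mp (Nat.eq_one_of_dvd_coprimes
    ((Nat.coprime_two_left.mpr (semi_odd_order hF hm hy)).pow_left 2) h4 dvd_rfl))

include hF in
/-- A 2-element fixes exactly one point. -/
theorem two_elem_fix (hm : 1 ≤ m) {x : Cfsg.Sz F m} (h4 : x ^ 4 = 1) (h1 : x ≠ 1) :
    ∃ h : Cfsg.Sz F m, x ∈ cj h (uSub hF) ∧ x • (h • P∞) = h • P∞ ∧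
      ∀ r : Cfsg.suzukiOvoid F m, x • r = r → r = h • P∞ := by
  have hord : orderOf x ∣ 2 ^ 2 := orderOf_dvd_of_pow_eq_one h4
  rcases cases_of_ne_one hF hm x with hx | ⟨h, hh⟩ | ⟨h, hh⟩
  · exact absurd (orderOf_eq_one_iff.mp (Nat.eq_one_of_dvd_coprimes
      ((Nat.coprime_two_left.mpr (odd_sq_add_one hF)).pow_left 2) hord (free_orderOf_dvd hF hm hx))) h1
  · refine ⟨h, hh, ?_, fun r hr => ?_⟩
    · have := uSub_smul hF (mem_cj.mp hh)
      rwa [mul_smul, mul_smul, inv_smul_eq_iff] at this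
    · have := uSub_unique_fix hF (mem_cj.mp hh) (conj_ne_one h1) (x := h⁻¹ • r)
        (by rw [mul_smul, mul_smul, smul_inv_smul, hr])
      rwa [inv_smul_eq_iff] at this
  · exact absurd (orderOf_eq_one_iff.mp (Nat.eq_one_of_dvd_coprimes
      ((Nat.coprime_two_left.mpr (semi_odd_order hF hm ⟨h1, Or.inr ⟨h, hh⟩⟩)).pow_left 2) hord
        dvd_rfl)) h1

include hF in
theorem not_fix_of_normalized (hm : 1 ≤ m) {a x : Cfsg.Sz F m} (ha : Semi hF a) (hx : x ∈ N[a])
    {p : Cfsg.suzukiOvoid F m} (hp : x • p = p) (huniq : ∀ r : Cfsg.suzukiOvoid F m, x • r = r → r = p)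
    {b : Cfsg.Sz F m} (hb : b ∈ C[a]) (hb1 : b ≠ 1) : b • p ≠ p := by
  intro hbp
  obtain ⟨hsb, e⟩ := semi_eq hF hm ha hb hb1
  rcases hsb.2 with hfree | ⟨h, hh⟩
  · exact hfree p hbp
  have hA : C[a] = cj h (tSub hF) := e ▸ centralizer_eq_cj_tSub hF hm hh hb1
  have hxb : x * b * x⁻¹ ∈ cj h (tSub hF) := hA ▸ (Subgroup.mem_normalizer_iff.mp hx b).mp hb
  have hfix : ∀ r : Cfsg.suzukiOvoid F m, b • r = r → r = h • P∞ ∨ r = h • P₀ := by
    intro r hr
    have := tSub_fix hF hm (mem_cj.mp hh) (conj_ne_one hb1) (x := h⁻¹ • r)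
      (by rw [mul_smul, mul_smul, smul_inv_smul, hr])
    simpa [inv_smul_eq_iff] using this
  have hboth : ∀ c ∈ cj h (tSub hF), ∀ r, r = h • P∞ ∨ r = h • P₀ → c • r = r := by
    intro c hc r hr
    obtain ⟨h0, h1⟩ := (le_stab_two hF hm).mp (mem_cj.mp hc)
    rw [mul_smul, mul_smul, inv_smul_eq_iff] at h0 h1
    rcases hr with rfl | rfl
    · exact h0
    · exact h1
  -- `x` permutes the two points and fixes one of them
  have hperm : ∀ r, r = h • P∞ ∨ r = h • P₀ → x • r = h • P∞ ∨ x • r = h • P₀ := by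
    intro r hr
    apply hfix
    have hcr := hboth _ ((Subgroup.mem_normalizer_iff.mp (inv_mem hx) b).mp hb |> fun h' => hA ▸ h') r hr
    rw [mul_smul, mul_smul, inv_inv, inv_smul_eq_iff] at hcr
    exact hcr
  have hne : h • P∞ ≠ h • P₀ := fun e => by simpa using MulAction.injective h e
  rcases hfix p hbp with hp' | hp'
  · rcases hperm _ (Or.inr rfl) with e' | e'
    · exact hne (MulAction.injective x (show x • (h • P∞) = x • (h • P₀) by rw [e', ← hp', hp]))
    · exact hne ((hp'.symm.trans (huniq _ e').symm))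
  · rcases hperm _ (Or.inl rfl) with e' | e'
    · exact hne ((huniq _ e').trans hp')
    · exact hne (MulAction.injective x (show x • (h • P∞) = x • (h • P₀) by rw [e', ← hp', hp]))

include hF in
theorem card_normalizer_inf_stab (hm : 1 ≤ m) {a x : Cfsg.Sz F m} (ha : Semi hF a) (h1 : x ≠ 1)
    (h4 : x ^ 4 = 1) (hx : x ∈ N[a]) {p : Cfsg.suzukiOvoid F m} (hp : x • p = p) :
    Nat.card (N[a] ⊓ MulAction.stabilizer (Cfsg.Sz F m) p : Subgroup (Cfsg.Sz F m)) =
      (C[a].subgroupOf N[a]).index := by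
  haveI := Fact.mk Nat.prime_two
  obtain ⟨h, -, hh, hun⟩ := two_elem_fix hF hm h4 h1
  have huniq : ∀ r : Cfsg.suzukiOvoid F m, x • r = r → r = p := fun r hr => (hun r hr).trans (hun p hp).symm
  set S := N[a] ⊓ MulAction.stabilizer (Cfsg.Sz F m) p with hS
  refine le_antisymm ?_ ?_
  · rw [Subgroup.index_eq_card]
    refine Nat.card_le_card_of_injective
      (fun s : S => ((⟨s, (Subgroup.mem_inf.mp s.2).1⟩ : N[a]) : N[a] ⧸ C[a].subgroupOf N[a])) ?_
    intro s t hst
    rw [QuotientGroup.eq, Subgroup.mem_subgroupOf] at hst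
    by_contra hne
    refine not_fix_of_normalized hF hm ha hx hp huniq hst ?_ ?_
    · exact fun e => hne (Subtype.ext (inv_mul_eq_one.mp e))
    · show ((s : Cfsg.Sz F m)⁻¹ * (t : Cfsg.Sz F m)) • p = p
      rw [mul_smul, (Subgroup.mem_inf.mp t.2).2, inv_smul_eq_iff]
      exact (Subgroup.mem_inf.mp s.2).2.symm
  · -- a Sylow subgroup of the normaliser
    have hxP : IsPGroup 2 (Subgroup.zpowers (⟨x, hx⟩ : N[a])) := by
      refine IsPGroup.of_card_dvd_pow (n := 2) ?_
      rw [Nat.card_zpowers, Subgroup.orderOf_mk]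
      exact orderOf_dvd_of_pow_eq_one h4
    obtain ⟨P, hP⟩ := hxP.exists_le_sylow
    have hcard : Nat.card (P : Subgroup N[a]) = (C[a].subgroupOf N[a]).index := by
      have hN : Nat.card N[a] = Nat.card C[a] * (C[a].subgroupOf N[a]).index := by
        rw [← Nat.card_congr (Subgroup.subgroupOfEquivOfLe (Subgroup.le_normalizer : C[a] ≤ N[a])).toEquiv,
          Subgroup.card_mul_index]
      rw [P.card_eq_multiplicity, hN, Nat.factorization_mul Nat.card_pos.ne'
        Subgroup.index_ne_zero_of_finite, Finsupp.add_apply,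
        Nat.factorization_eq_zero_of_not_dvd (fun h => (Nat.not_even_iff_odd.mpr
          (semi_odd_card hF hm ha)) (even_iff_two_dvd.mpr h)), zero_add]
      rcases semi_index hF hm ha with e | e <;> rw [e]
      · rw [Nat.Prime.factorization_self Nat.prime_two, pow_one]
      · rw [show (4 : ℕ) = 2 ^ 2 from rfl, Nat.Prime.factorization_pow Nat.prime_two,
          Finsupp.single_eq_same]
    have hcomm : ∀ u ∈ (P : Subgroup N[a]), ∀ v ∈ (P : Subgroup N[a]), u * v = v * u := by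
      intro u hu v hv
      rcases semi_index hF hm ha with e | e
      · haveI := isCyclic_of_prime_card (α := (P : Subgroup N[a])) (p := 2) (by rw [hcard, e])
        exact congrArg Subtype.val (mul_comm' (⟨u, hu⟩ : (P : Subgroup N[a])) ⟨v, hv⟩)
      · exact congrArg Subtype.val (IsPGroup.commutative_of_card_eq_prime_sq (p := 2)
          (by rw [hcard, e]; rfl) (⟨u, hu⟩ : (P : Subgroup N[a])) ⟨v, hv⟩)
    rw [← hcard]
    refine Nat.card_le_card_of_injective
      (fun u : (P : Subgroup N[a]) => (⟨((u : N[a]) : Cfsg.Sz F m), Subgroup.mem_inf.mpr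
        ⟨(u : N[a]).2, MulAction.mem_stabilizer_iff.mpr (huniq _ (smul_of_commute
          (congrArg Subtype.val (hcomm ⟨x, hx⟩ (hP (Subgroup.mem_zpowers _)) u u.2)) hp))⟩⟩ : S))
      fun u v huv => Subtype.ext (Subtype.ext (congrArg (fun s : S => (s : Cfsg.Sz F m)) huv))

include hF in
theorem isSolvable_stab (hm : 1 ≤ m) (p : Cfsg.suzukiOvoid F m) :
    Group.IsSolvable (MulAction.stabilizer (Cfsg.Sz F m) p) := by
  haveI := pretransitive hF
  haveI := Fact.mk Nat.prime_two
  obtain ⟨h, rfl⟩ := MulAction.exists_smul_eq (Cfsg.Sz F m) P∞ p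
  set B := MulAction.stabilizer (Cfsg.Sz F m) P∞ with hB
  suffices hs : Group.IsSolvable B by
    exact Group.isSolvable_of_surjective
      (f := (MulAction.stabilizerEquivStabilizer (g := h) (a := P∞) (b := h • P∞) rfl).toMonoidHom)
      (MulEquiv.surjective _)
  choose A B' T hT using fun g : B => stab_inf hF hm (MulAction.mem_stabilizer_iff.mp g.2)
  let τ : B →* Fˣ := MonoidHom.mk' T fun g k => (uS_tS_inj hF ((hT (g * k)).symm.trans (by
    rw [Subgroup.coe_mul, hT g, hT k, mul_assoc, ← mul_assoc (tS hF (T g)), tS_conj_uS, mul_assoc,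
      ← map_mul, ← mul_assoc, uS_mul]))).2.2
  have hle : uSub hF ≤ B := fun g hg => MulAction.mem_stabilizer_iff.mpr (uSub_smul hF hg)
  haveI : Group.IsNilpotent (uSub hF) := (isPGroup_uSub hF).isNilpotent
  refine Group.isSolvable_of_ker_le_range (Subgroup.inclusion hle) τ fun g hg => ?_
  refine ⟨⟨g, ?_⟩, rfl⟩
  rw [hT g, show T g = 1 from hg, map_one, mul_one]
  exact uS_mem hF _ _

include hF in
theorem isSolvable_normalizer (hm : 1 ≤ m) {a : Cfsg.Sz F m} (ha : Semi hF a) :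
    Group.IsSolvable N[a] := by
  haveI := Fact.mk Nat.prime_two
  haveI := semi_cyclic hF hm ha
  have hA : Group.IsSolvable (C[a].subgroupOf N[a]) := Group.isSolvable_of_comm fun u v =>
    Subtype.ext (Subtype.ext (show ((u : N[a]) : Cfsg.Sz F m) * ((v : N[a]) : Cfsg.Sz F m) =
      ((v : N[a]) : Cfsg.Sz F m) * ((u : N[a]) : Cfsg.Sz F m) from (semi_commute hF hm ha
        (Subgroup.mem_subgroupOf.mp u.2) (Subgroup.mem_subgroupOf.mp v.2)).eq))
  refine (Group.isSolvable_iff_subgroup_quotient (C[a].subgroupOf N[a])).mpr ⟨hA, ?_⟩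
  have hq : IsPGroup 2 (N[a] ⧸ C[a].subgroupOf N[a]) := by
    refine IsPGroup.of_card_dvd_pow (n := 2) ?_
    rw [← Subgroup.index_eq_card]
    rcases semi_index hF hm ha with e | e <;> rw [e] <;> norm_num
  haveI := hq.isNilpotent
  infer_instance

theorem exists_abelian_normal {G : Type*} [Group G] [Group.IsSolvable G] [Nontrivial G] :
    ∃ M : Subgroup G, M.Normal ∧ M ≠ ⊥ ∧ ∀ u ∈ M, ∀ v ∈ M, u * v = v * u := by
  obtain ⟨n, hn⟩ := Group.IsSolvable.solvable (G := G)
  induction n with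
  | zero => exact absurd hn top_ne_bot
  | succ n ih =>
    by_cases h : derivedSeries G n = ⊥
    · exact ih h
    · refine ⟨derivedSeries G n, derivedSeries_normal G n, h, fun u hu v hv => ?_⟩
      rw [derivedSeries_succ] at hn
      exact commutatorElement_eq_one_iff_mul_comm.mp
        (Subgroup.mem_bot.mp (hn ▸ Subgroup.commutator_mem_commutator hu hv))

include hF in
/-- A solvable subgroup fixes a point or normalises a torus. -/
theorem solvable_cases (hm : 1 ≤ m) (H : Subgroup (Cfsg.Sz F m)) (hH : Group.IsSolvable H) :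
    (∃ p : Cfsg.suzukiOvoid F m, ∀ y ∈ H, y • p = p) ∨ ∃ a, Semi hF a ∧ H ≤ N[a] := by
  by_cases hbot : H = ⊥
  · exact Or.inl ⟨P∞, fun y hy => by rw [hbot, Subgroup.mem_bot] at hy; rw [hy, one_smul]⟩
  haveI : Nontrivial H := (Subgroup.nontrivial_iff_ne_bot H).mpr hbot
  obtain ⟨M, hMn, hM, hMc⟩ := exists_abelian_normal (G := H)
  obtain ⟨z, hz, hz1⟩ := (Subgroup.bot_or_exists_ne_one M).resolve_left hM
  have hz1' : (z : Cfsg.Sz F m) ≠ 1 := fun e => hz1 (Subtype.ext e)
  have hconj : ∀ y ∈ H, Commute (z : Cfsg.Sz F m) (y * z * y⁻¹) := fun y hy =>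
    congrArg Subtype.val (hMc z hz _ (hMn.conj_mem z hz ⟨y, hy⟩))
  rcases cases_of_ne_one hF hm (z : Cfsg.Sz F m) with hfree | ⟨h, hh⟩ | ⟨h, hh⟩
  rotate_left
  · refine Or.inl ⟨h • P∞, fun y hy => ?_⟩
    have hfp : (z : Cfsg.Sz F m) • (h • P∞) = h • P∞ := by
      have := uSub_smul hF (mem_cj.mp hh)
      rwa [mul_smul, mul_smul, inv_smul_eq_iff] at this
    have hmem := centralizer_cj_uS hF hm hh hz1' (hconj y hy)
    have hne : y * (z : Cfsg.Sz F m) * y⁻¹ ≠ 1 := fun e => hz1' (conj_eq_one_iff.mp e)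
    have := uSub_unique_fix hF (mem_cj.mp hmem) (conj_ne_one hne) (x := h⁻¹ • (y • h • P∞))
      (by rw [mul_smul, mul_smul, smul_inv_smul, mul_smul, mul_smul, inv_smul_smul, hfp])
    rwa [inv_smul_eq_iff] at this
  all_goals
    have hs : Semi hF (z : Cfsg.Sz F m) := ⟨hz1', by first | exact Or.inl hfree | exact Or.inr ⟨h, hh⟩⟩
    refine Or.inr ⟨_, hs, fun y hy => ?_⟩
    have hc : y * (z : Cfsg.Sz F m) * y⁻¹ ∈ C[(z : Cfsg.Sz F m)] :=
      Subgroup.mem_centralizer_singleton_iff.mpr (hconj y hy).eq.symm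
    have hne : y * (z : Cfsg.Sz F m) * y⁻¹ ≠ 1 := fun e => hz1' (conj_eq_one_iff.mp e)
    have e := (semi_eq hF hm hs hc hne).2
    rw [Subgroup.mem_normalizer_iff]
    intro b
    rw [Subgroup.mem_centralizer_singleton_iff]
    constructor
    · intro hb
      rw [← e, Subgroup.mem_centralizer_singleton_iff]
      calc y * b * y⁻¹ * (y * (z : Cfsg.Sz F m) * y⁻¹) = y * (b * z) * y⁻¹ := by group
        _ = y * (z : Cfsg.Sz F m) * y⁻¹ * (y * b * y⁻¹) := by rw [hb]; group
    · intro hb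
      rw [← e, Subgroup.mem_centralizer_singleton_iff] at hb
      calc b * (z : Cfsg.Sz F m) = y⁻¹ * (y * b * y⁻¹ * (y * z * y⁻¹)) * y := by group
        _ = (z : Cfsg.Sz F m) * b := by rw [hb]; group

include hF in
/-- When two elements generate a solvable subgroup. -/
theorem isSolvable_closure_iff (hm : 1 ≤ m) (x y : Cfsg.Sz F m) :
    Group.IsSolvable (Subgroup.closure ({x, y} : Set (Cfsg.Sz F m))) ↔
      (∃ p : Cfsg.suzukiOvoid F m, x • p = p ∧ y • p = p) ∨
        ∃ a, Semi hF a ∧ x ∈ N[a] ∧ y ∈ N[a] := by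
  have hx : x ∈ Subgroup.closure ({x, y} : Set (Cfsg.Sz F m)) := Subgroup.subset_closure (by simp)
  have hy : y ∈ Subgroup.closure ({x, y} : Set (Cfsg.Sz F m)) := Subgroup.subset_closure (by simp)
  constructor
  · intro h
    rcases solvable_cases hF hm _ h with ⟨p, hp⟩ | ⟨a, ha, hle⟩
    · exact Or.inl ⟨p, hp x hx, hp y hy⟩
    · exact Or.inr ⟨a, ha, hle hx, hle hy⟩
  · rintro (⟨p, hxp, hyp⟩ | ⟨a, ha, hxa, hya⟩)
    · haveI := isSolvable_stab hF hm p
      have hle : Subgroup.closure ({x, y} : Set (Cfsg.Sz F m)) ≤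
          MulAction.stabilizer (Cfsg.Sz F m) p := by
        rw [Subgroup.closure_le]
        rintro z (rfl | rfl) <;> assumption
      exact Group.isSolvable_of_isSolvable_injective (Subgroup.inclusion_injective hle)
    · haveI := isSolvable_normalizer hF hm ha
      have hle : Subgroup.closure ({x, y} : Set (Cfsg.Sz F m)) ≤ N[a] := by
        rw [Subgroup.closure_le]
        rintro z (rfl | rfl) <;> assumption
      exact Group.isSolvable_of_isSolvable_injective (Subgroup.inclusion_injective hle)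

end CfsgLib.Lie.Suzuki
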