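import Cfsg.Agent.Lib.Lie.Suzuki.Solvable

/-!
# Tori normalised by a 2-element

* `card_sol_two`: the elements generating a solvable subgroup with a 2-element
* `card_split_normalized`, `card_normalized`: tori normalised by an involution
* `card_free_normalized_four`: elliptic tori normalised by an element of order four
-/

set_option autoImplicit false

namespace CfsgLib.Lie.Suzuki

variable {F : Type*} [Field F] [CharP F 2] [Fintype F] {m : ℕ}
  (hF : Fintype.card F = 2 ^ (2 * m + 1))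

local notation "P∞" => pt F m none
local notation "P₀" => pt F m (some ((0 : F), (0 : F)))
local notation "C[" g "]" => Subgroup.centralizer ({g} : Set (Cfsg.Sz F m))
local notation "N[" g "]" => Subgroup.normalizer
  (SetLike.coe (Subgroup.centralizer ({g} : Set (Cfsg.Sz F m))))

omit [CharP F 2] [Fintype F] in
theorem self_mem_centralizer (a : Cfsg.Sz F m) : a ∈ C[a] :=
  Subgroup.mem_centralizer_singleton_iff.mpr rfl

include hF in
theorem mem_normalizer_of_conj (hm : 1 ≤ m) {a y : Cfsg.Sz F m} (ha : Semi hF a)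
    (hc : y * a * y⁻¹ ∈ C[a]) : y ∈ N[a] := by
  have e := (semi_eq hF hm ha hc fun e => ha.1 (conj_eq_one_iff.mp e)).2
  rw [Subgroup.mem_normalizer_iff]
  intro b
  rw [Subgroup.mem_centralizer_singleton_iff]
  constructor
  · intro hb
    rw [← e, Subgroup.mem_centralizer_singleton_iff]
    calc y * b * y⁻¹ * (y * a * y⁻¹) = y * (b * a) * y⁻¹ := by group
      _ = y * a * y⁻¹ * (y * b * y⁻¹) := by rw [hb]; group
  · intro hb
    rw [← e, Subgroup.mem_centralizer_singleton_iff] at hb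
    calc b * a = y⁻¹ * (y * b * y⁻¹ * (y * a * y⁻¹)) * y := by group
      _ = a * b := by rw [hb]; group

include hF in
theorem involution_inverts (hm : 1 ≤ m) {a t : Cfsg.Sz F m} (ha : Semi hF a) (ht : t ^ 2 = 1)
    (h1 : t ≠ 1) (hN : t ∈ N[a]) : t * a * t⁻¹ = a⁻¹ := by
  have hinv : t⁻¹ = t := inv_eq_of_mul_eq_one_right (by rw [← sq, ht])
  have htA : t ∉ C[a] := fun h => by
    have h2 : orderOf t ∣ Nat.card C[a] := by
      rw [← Subgroup.orderOf_mk t h]; exact orderOf_dvd_natCard _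
    rw [orderOf_eq_prime ht h1] at h2
    exact (Nat.not_even_iff_odd.mpr (semi_odd_card hF hm ha)) (even_iff_two_dvd.mpr h2)
  have hta : t * a * t⁻¹ ∈ C[a] := (Subgroup.mem_normalizer_iff.mp hN a).mp (self_mem_centralizer a)
  set b := t * a * t⁻¹ * a with hb
  have hbA : b ∈ C[a] := mul_mem hta (self_mem_centralizer a)
  have hcomm := semi_commute hF hm ha hta (self_mem_centralizer a)
  have htb : t * b * t⁻¹ = b := by
    calc t * b * t⁻¹ = (t * t) * a * (t⁻¹ * t⁻¹) * (t * a * t⁻¹) := by rw [hb]; group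
      _ = a * (t * a * t⁻¹) := by rw [hinv, ← sq, ht, one_mul, mul_one]
      _ = b := hcomm.eq.symm
  by_contra hne
  have hb1 : b ≠ 1 := fun e => hne (eq_inv_of_mul_eq_one_left e)
  apply htA
  rw [← (semi_eq hF hm ha hbA hb1).2, Subgroup.mem_centralizer_singleton_iff]
  exact mul_inv_eq_iff_eq_mul.mp htb

omit [CharP F 2] [Fintype F] in
theorem fix_pow {y : Cfsg.Sz F m} {p : Cfsg.suzukiOvoid F m} (h : y • p = p) (k : ℕ) :
    (y ^ k) • p = p := by
  induction k with
  | zero => rw [pow_zero, one_smul]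
  | succ k ih => rw [pow_succ, mul_smul, h, ih]

include hF in
theorem exists_involution_pow (hm : 1 ≤ m) {y : Cfsg.Sz F m} (h4 : y ^ 4 = 1) (h1 : y ≠ 1) :
    ∃ k : ℕ, (y ^ k) ^ 2 = 1 ∧ y ^ k ≠ 1 ∧
      ∀ r : Cfsg.suzukiOvoid F m, (y ^ k) • r = r → y • r = r := by
  obtain ⟨k, hk2, hk1⟩ : ∃ k : ℕ, (y ^ k) ^ 2 = 1 ∧ y ^ k ≠ 1 := by
    by_cases h2 : y ^ 2 = 1
    · exact ⟨1, by rw [pow_one, h2], by rw [pow_one]; exact h1⟩
    · exact ⟨2, by rw [← pow_mul]; exact h4, h2⟩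
  refine ⟨k, hk2, hk1, fun r hr => ?_⟩
  obtain ⟨h, -, hfix, -⟩ := two_elem_fix hF hm h4 h1
  obtain ⟨p, -, hu⟩ := involution_fix hF hm hk2 hk1
  rw [hu r hr, ← hu _ (fix_pow hfix k)]
  exact hfix

include hF in
/-- Two tori normalised by `x` and by an element moving the fixed point of `x` are equal. -/
theorem tori_eq (hm : 1 ≤ m) {a a' x y : Cfsg.Sz F m} (ha : Semi hF a) (ha' : Semi hF a')
    (h1 : x ≠ 1) (h4 : x ^ 4 = 1) {p : Cfsg.suzukiOvoid F m} (hp : x • p = p)
    (hx : x ∈ N[a]) (hx' : x ∈ N[a']) (hy : y ∈ N[a]) (hy' : y ∈ N[a']) (hyp : y • p ≠ p) :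
    C[a] = C[a'] := by
  have hy1 : y ≠ 1 := fun e => hyp (by rw [e, one_smul])
  by_cases hA : y ∈ C[a]
  · obtain ⟨hs, e⟩ := semi_eq hF hm ha hA hy1
    exact e.symm.trans (semi_eq hF hm ha' (semi_mem_of_normalizer hF hm ha' hs hy') hy1).2
  by_cases hA' : y ∈ C[a']
  · obtain ⟨hs, e⟩ := semi_eq hF hm ha' hA' hy1
    exact ((semi_eq hF hm ha (semi_mem_of_normalizer hF hm ha hs hy) hy1).2.symm.trans e)
  obtain ⟨k, hk2, hk1, hkfix⟩ := exists_involution_pow hF hm h4 h1
  obtain ⟨l, hl2, hl1, hlfix⟩ := exists_involution_pow hF hm (pow_four_eq_one hF hm ha hy hA) hy1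
  have hne : x ^ k * y ^ l ≠ 1 := by
    intro e
    have e' : y ^ l = x ^ k := by
      rw [← inv_eq_of_mul_eq_one_right (show x ^ k * x ^ k = 1 by rw [← sq, hk2]),
        inv_eq_of_mul_eq_one_right e]
    refine hyp (hlfix p ?_)
    rw [e']
    exact fix_pow hp k
  have key : ∀ b : Cfsg.Sz F m, Semi hF b → x ∈ N[b] → y ∈ N[b] → x ^ k * y ^ l ∈ C[b] := by
    intro b hb hxb hyb
    have e1 := involution_inverts hF hm hb hk2 hk1 (pow_mem hxb k)
    have e2 := involution_inverts hF hm hb hl2 hl1 (pow_mem hyb l)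
    rw [Subgroup.mem_centralizer_singleton_iff]
    refine mul_inv_eq_iff_eq_mul.mp ?_
    calc x ^ k * y ^ l * b * (x ^ k * y ^ l)⁻¹ = x ^ k * (y ^ l * b * (y ^ l)⁻¹) * (x ^ k)⁻¹ := by group
      _ = (x ^ k * b * (x ^ k)⁻¹)⁻¹ := by rw [e2]; group
      _ = b := by rw [e1, inv_inv]
  exact (semi_eq hF hm ha (key a ha hx hy) hne).2.symm.trans
    (semi_eq hF hm ha' (key a' ha' hx' hy') hne).2

include hF in
/-- The elements, moving the fixed point of the 2-element `x`, which share a torus normaliser with it. -/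
theorem card_outside (hm : 1 ≤ m) {x : Cfsg.Sz F m} (h1 : x ≠ 1) (h4 : x ^ 4 = 1)
    {p : Cfsg.suzukiOvoid F m} (hp : x • p = p) :
    Nat.card {y : Cfsg.Sz F m // y • p ≠ p ∧ ∃ a, Semi hF a ∧ x ∈ N[a] ∧ y ∈ N[a]} =
      4 * Nat.card {a : Cfsg.Sz F m // Free a ∧ x ∈ N[a]} +
      2 * Nat.card {a : Cfsg.Sz F m // (Semi hF a ∧ ¬ Free a) ∧ x ∈ N[a]} := by
  classical
  obtain ⟨h, -, -, hun⟩ := two_elem_fix hF hm h4 h1
  have huniq : ∀ r : Cfsg.suzukiOvoid F m, x • r = r → r = p := fun r hr =>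
    (hun r hr).trans (hun p hp).symm
  let Q := {a : Cfsg.Sz F m // Semi hF a ∧ x ∈ N[a]}
  let S : Q → Subgroup (Cfsg.Sz F m) := fun a => N[a.1] ⊓ MulAction.stabilizer (Cfsg.Sz F m) p
  have hnofix : ∀ (a : Q) (b : Cfsg.Sz F m), b ∈ C[a.1] → b ≠ 1 → b • p ≠ p := fun a b hb hb1 =>
    not_fix_of_normalized hF hm a.2.1 a.2.2 hp huniq hb hb1
  let Φ : (Σ a : Q, S a) →
      {y : Cfsg.Sz F m // y • p ≠ p ∧ ∃ a, Semi hF a ∧ x ∈ N[a] ∧ y ∈ N[a]} := fun as =>
    ⟨as.1.1 * (as.2 : Cfsg.Sz F m), by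
      refine ⟨fun e => hnofix as.1 as.1.1 (self_mem_centralizer _) as.1.2.1.1 ?_, as.1.1, as.1.2.1,
        as.1.2.2, mul_mem (Subgroup.le_normalizer (self_mem_centralizer _))
          (Subgroup.mem_inf.mp as.2.2).1⟩
      rwa [mul_smul, (Subgroup.mem_inf.mp as.2.2).2] at e⟩
  have hΦ : Function.Bijective Φ := by
    constructor
    · rintro ⟨a, s⟩ ⟨a', s'⟩ e
      have e' : a.1 * (s : Cfsg.Sz F m) = a'.1 * s' := congrArg Subtype.val e
      have hy := (Φ ⟨a, s⟩).2.1
      have hC : C[a.1] = C[a'.1] := tori_eq hF hm a.2.1 a'.2.1 h1 h4 hp a.2.2 a'.2.2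
        (mul_mem (Subgroup.le_normalizer (self_mem_centralizer a.1)) (Subgroup.mem_inf.mp s.2).1)
        (e' ▸ mul_mem (Subgroup.le_normalizer (self_mem_centralizer a'.1)) (Subgroup.mem_inf.mp s'.2).1)
        hy
      have hmem : a'.1⁻¹ * a.1 ∈ C[a'.1] :=
        mul_mem (inv_mem (self_mem_centralizer _)) (hC ▸ self_mem_centralizer a.1)
      have hfix : (a'.1⁻¹ * a.1) • p = p := by
        have : a'.1⁻¹ * a.1 = (s' : Cfsg.Sz F m) * (s : Cfsg.Sz F m)⁻¹ := by
          rw [inv_mul_eq_iff_eq_mul, ← mul_assoc, ← e', mul_inv_cancel_right]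
        rw [this, mul_smul, inv_smul_eq_iff.mpr (Subgroup.mem_inf.mp s.2).2.symm]
        exact (Subgroup.mem_inf.mp s'.2).2
      have hone : a'.1⁻¹ * a.1 = 1 := by
        by_contra hne
        exact hnofix a' _ hmem hne hfix
      have ea : a' = a := Subtype.ext (inv_mul_eq_one.mp hone)
      subst ea
      have es : s = s' := Subtype.ext (mul_left_cancel e')
      rw [es]
    · rintro ⟨y, hyp, a, ha, hxa, hya⟩
      let S' : Subgroup (Cfsg.Sz F m) := N[a] ⊓ MulAction.stabilizer (Cfsg.Sz F m) p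
      let ψ : C[a] × S' → N[a] := fun bs => ⟨(bs.1 : Cfsg.Sz F m) * bs.2,
        mul_mem (Subgroup.le_normalizer bs.1.2) (Subgroup.mem_inf.mp bs.2.2).1⟩
      have hψi : Function.Injective ψ := by
        rintro ⟨b, s⟩ ⟨b', s'⟩ e
        have e' : (b : Cfsg.Sz F m) * s = b' * s' := congrArg Subtype.val e
        have hone : (b' : Cfsg.Sz F m)⁻¹ * b = 1 := by
          by_contra hne
          refine hnofix ⟨a, ha, hxa⟩ _ (mul_mem (inv_mem b'.2) b.2) hne ?_
          rw [show (b' : Cfsg.Sz F m)⁻¹ * b = (s' : Cfsg.Sz F m) * (s : Cfsg.Sz F m)⁻¹ by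
            rw [inv_mul_eq_iff_eq_mul, ← mul_assoc, ← e', mul_inv_cancel_right], mul_smul,
            inv_smul_eq_iff.mpr (Subgroup.mem_inf.mp s.2).2.symm]
          exact (Subgroup.mem_inf.mp s'.2).2
        obtain rfl : b' = b := Subtype.ext (inv_mul_eq_one.mp hone)
        exact Prod.ext rfl (Subtype.ext (mul_left_cancel e'))
      have hψ : Function.Bijective ψ := by
        refine hψi.bijective_of_nat_card_le (le_of_eq ?_)
        rw [Nat.card_prod, card_normalizer_inf_stab hF hm ha h1 h4 hxa hp,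
          ← Nat.card_congr (Subgroup.subgroupOfEquivOfLe (Subgroup.le_normalizer : C[a] ≤ N[a])).toEquiv,
          Subgroup.card_mul_index]
      obtain ⟨⟨b, s⟩, hbs⟩ := hψ.2 ⟨y, hya⟩
      have hbs' : (b : Cfsg.Sz F m) * s = y := congrArg Subtype.val hbs
      have hb1 : (b : Cfsg.Sz F m) ≠ 1 := fun e => hyp (by
        rw [← hbs', e, one_mul]; exact (Subgroup.mem_inf.mp s.2).2)
      obtain ⟨hsb, eC⟩ := semi_eq hF hm ha b.2 hb1
      refine ⟨⟨⟨b, hsb, by rw [eC]; exact hxa⟩, ⟨s, ?_⟩⟩, Subtype.ext hbs'⟩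
      show (s : Cfsg.Sz F m) ∈ N[(b : Cfsg.Sz F m)] ⊓ MulAction.stabilizer (Cfsg.Sz F m) p
      rw [eC]
      exact s.2
  rw [← Nat.card_eq_of_bijective Φ hΦ]
  letI := Fintype.ofFinite Q
  letI := Fintype.ofFinite (Cfsg.Sz F m)
  rw [Nat.card_sigma, Finset.sum_congr rfl (g := fun a : Q => if Free a.1 then 4 else 2) fun a _ => ?_]
  · rw [Finset.sum_ite, Finset.sum_const, Finset.sum_const, smul_eq_mul, smul_eq_mul,
      mul_comm _ 4, mul_comm _ 2, ← Fintype.card_subtype, ← Fintype.card_subtype,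
      ← Nat.card_eq_fintype_card, ← Nat.card_eq_fintype_card]
    congr 2
    · exact Nat.card_congr
        { toFun := fun a => ⟨a.1.1, a.2, a.1.2.2⟩
          invFun := fun a => ⟨⟨a.1, ⟨a.2.1.ne_one hF, Or.inl a.2.1⟩, a.2.2⟩, a.2.1⟩
          left_inv := fun _ => rfl
          right_inv := fun _ => rfl }
    · exact Nat.card_congr
        { toFun := fun a => ⟨a.1.1, ⟨a.1.2.1, a.2⟩, a.1.2.2⟩
          invFun := fun a => ⟨⟨a.1, a.2.1.1, a.2.2⟩, a.2.1.2⟩
          left_inv := fun _ => rfl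
          right_inv := fun _ => rfl }
  · rw [card_normalizer_inf_stab hF hm a.2.1 h1 h4 a.2.2 hp]
    have hN : Nat.card C[a.1] * (C[a.1].subgroupOf N[a.1]).index = Nat.card N[a.1] := by
      rw [← Nat.card_congr (Subgroup.subgroupOfEquivOfLe (Subgroup.le_normalizer : C[a.1] ≤ N[a.1])).toEquiv,
        Subgroup.card_mul_index]
    by_cases hfree : Free a.1
    · rw [if_pos hfree]
      rw [free_normalizer_card hF hm hfree, mul_comm 4] at hN
      exact Nat.eq_of_mul_eq_mul_left Nat.card_pos hN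
    · rw [if_neg hfree]
      rcases semi_normalizer_card hF hm a.2.1 with ⟨e, -⟩ | ⟨-, e⟩
      · exact absurd e hfree
      · rw [e] at hN
        exact Nat.eq_of_mul_eq_mul_left Nat.card_pos hN

include hF in
theorem card_normalized (hm : 1 ≤ m) {x : Cfsg.Sz F m} (h1 : x ≠ 1) (h2 : x ^ 2 = 1)
    {p : Cfsg.suzukiOvoid F m} (hp : x • p = p) :
    Nat.card {a : Cfsg.Sz F m // Semi hF a ∧ x ∈ N[a]} =
      Nat.card {t : Cfsg.Sz F m // (t ^ 2 = 1 ∧ t ≠ 1) ∧ t • p ≠ p} := by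
  obtain ⟨p', -, hun⟩ := involution_fix hF hm h2 h1
  have huniq : ∀ r : Cfsg.suzukiOvoid F m, x • r = r → r = p := fun r hr =>
    (hun r hr).trans (hun p hp).symm
  have hinv : x⁻¹ = x := inv_eq_of_mul_eq_one_right (by rw [← sq, h2])
  have hxx : x * x = 1 := by rw [← sq, h2]
  refine Nat.card_congr ((Equiv.mulLeft x).subtypeEquiv fun a => ?_)
  show _ ↔ ((x * a) ^ 2 = 1 ∧ x * a ≠ 1) ∧ (x * a) • p ≠ p
  constructor
  · rintro ⟨ha, hxa⟩
    have hnf := not_fix_of_normalized hF hm ha hxa hp huniq (self_mem_centralizer a) ha.1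
    have hne : (x * a) • p ≠ p := fun e => hnf (by
      rw [mul_smul] at e
      exact MulAction.injective x (show x • (a • p) = x • p by rw [e, hp]))
    refine ⟨⟨?_, fun e => hne (by rw [e, one_smul])⟩, hne⟩
    have e := involution_inverts hF hm ha h2 h1 hxa
    rw [hinv] at e
    calc (x * a) ^ 2 = x * a * x * a := by rw [sq, mul_assoc (x * a)]
      _ = 1 := by rw [e, inv_mul_cancel]
  · rintro ⟨⟨ht2, ht1⟩, htp⟩
    have e : x * a * x⁻¹ = a⁻¹ := by
      rw [hinv]
      exact eq_inv_of_mul_eq_one_left (by rw [mul_assoc (x * a), ← sq, ht2])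
    have ha1 : a ≠ 1 := by
      rintro rfl
      rw [mul_one] at htp
      exact htp hp
    have hsemi : Semi hF a := by
      refine ⟨ha1, ?_⟩
      rcases cases_of_ne_one hF hm a with hfree | ⟨h, hh⟩ | ht
      · exact Or.inl hfree
      · exfalso
        have hfa : a • (h • P∞) = h • P∞ := by
          have := uSub_smul hF (mem_cj.mp hh)
          rwa [mul_smul, mul_smul, inv_smul_eq_iff] at this
        have hax : a • (x • h • P∞) = x • h • P∞ := by
          have ha' : a = x * a⁻¹ * x⁻¹ := by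
            rw [← e, hinv]
            simp only [mul_assoc]
            rw [hxx, mul_one, ← mul_assoc, hxx, one_mul]
          rw [ha', mul_smul, mul_smul, inv_smul_smul, inv_smul_eq_iff.mpr hfa.symm]
        have := uSub_unique_fix hF (mem_cj.mp hh) (conj_ne_one ha1) (x := h⁻¹ • (x • h • P∞))
          (by rw [mul_smul, mul_smul, smul_inv_smul, hax])
        rw [inv_smul_eq_iff] at this
        have hp' := huniq _ this
        rw [hp'] at hfa
        exact htp (by rw [mul_smul, hfa, hp])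
      · exact Or.inr ht
    exact ⟨hsemi, mem_normalizer_of_conj hF hm hsemi (e ▸ inv_mem (self_mem_centralizer a))⟩

theorem involution_uS_iff {a b : F} : uS hF a b ^ 2 = 1 ↔ a = 0 := by
  rw [uS_sq, uS_eq_one_iff, mul_eq_zero, map_eq_zero, or_self]
  exact ⟨fun h => h.2, fun h => ⟨rfl, h⟩⟩

include hF in
theorem card_involution_outside (hm : 1 ≤ m) (p : Cfsg.suzukiOvoid F m) :
    Nat.card {t : Cfsg.Sz F m // (t ^ 2 = 1 ∧ t ≠ 1) ∧ t • p ≠ p} =
      Fintype.card F ^ 2 * (Fintype.card F - 1) := by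
  classical
  haveI := pretransitive hF
  choose h hh using fun r : Cfsg.suzukiOvoid F m => MulAction.exists_smul_eq (Cfsg.Sz F m) P∞ r
  have hfixh : ∀ r b, (h r * uS hF 0 b * (h r)⁻¹) • r = r := fun r b => by
    rw [mul_smul, mul_smul, inv_smul_eq_iff.mpr (hh r).symm, uS_none, hh]
  have hne : ∀ r (b : F), b ≠ 0 → h r * uS hF 0 b * (h r)⁻¹ ≠ 1 := fun r b hb e =>
    hb ((uS_eq_one_iff hF).mp (conj_eq_one_iff.mp e)).2
  have hsq : ∀ r (b : F), (h r * uS hF 0 b * (h r)⁻¹) ^ 2 = 1 := fun r b => by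
    rw [conj_pow, (involution_uS_iff hF).mpr rfl]; group
  let Φ : {r : Cfsg.suzukiOvoid F m // r ≠ p} × {b : F // b ≠ 0} →
      {t : Cfsg.Sz F m // (t ^ 2 = 1 ∧ t ≠ 1) ∧ t • p ≠ p} := fun rb =>
    ⟨h rb.1.1 * uS hF 0 rb.2.1 * (h rb.1.1)⁻¹, ⟨hsq _ _, hne _ _ rb.2.2⟩, fun e => by
      obtain ⟨p', -, hu⟩ := involution_fix hF hm (hsq rb.1.1 rb.2.1) (hne _ _ rb.2.2)
      exact rb.1.2 ((hu _ (hfixh _ _)).trans (hu _ e).symm)⟩
  have hΦ : Function.Bijective Φ := by
    constructor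
    · rintro ⟨⟨r, hr⟩, b, hb⟩ ⟨⟨r', hr'⟩, b', hb'⟩ e
      have e' : h r * uS hF 0 b * (h r)⁻¹ = h r' * uS hF 0 b' * (h r')⁻¹ := congrArg Subtype.val e
      obtain ⟨p', -, hu⟩ := involution_fix hF hm (hsq r b) (hne r b hb)
      obtain rfl : r = r' := (hu _ (hfixh r b)).trans (hu _ (by rw [e']; exact hfixh r' b')).symm
      obtain ⟨-, rfl⟩ := uS_inj hF (mul_left_cancel (mul_right_cancel e'))
      rfl
    · rintro ⟨t, ⟨ht2, ht1⟩, htp⟩
      obtain ⟨r, hr, hu⟩ := involution_fix hF hm ht2 ht1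
      have hrp : r ≠ p := fun e => htp (e ▸ hr)
      obtain ⟨a, b, u, e⟩ := stab_inf hF hm (g := (h r)⁻¹ * t * h r)
        (by rw [mul_smul, mul_smul, hh, hr, inv_smul_eq_iff, hh])
      have hu1 : u = 1 := by
        by_contra hne'
        obtain ⟨x0, y0, hz⟩ := second_fix hF hm a b hne'
        rw [← e, mul_smul, mul_smul, inv_smul_eq_iff] at hz
        have := hu _ hz
        exact absurd (MulAction.injective (h r) (show h r • pt F m (some (x0, y0)) = h r • P∞ from
          this.trans (hh r).symm)) (by simp)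
      rw [hu1, map_one, mul_one] at e
      have ha : a = 0 := by
        rw [← involution_uS_iff hF (b := b), ← e]
        calc ((h r)⁻¹ * t * h r) ^ 2 = (h r)⁻¹ * t ^ 2 * h r := by simp [sq, mul_assoc]
          _ = 1 := by rw [ht2]; group
      subst ha
      have hb : b ≠ 0 := by
        rintro rfl
        rw [uS_zero_zero] at e
        exact conj_ne_one ht1 e
      exact ⟨(⟨r, hrp⟩, ⟨b, hb⟩), Subtype.ext (show h r * uS hF 0 b * (h r)⁻¹ = t by rw [← e]; group)⟩
  letI := Fintype.ofFinite (Cfsg.suzukiOvoid F m)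
  have hX := card_ovoid (m := m) hF
  rw [Nat.card_eq_fintype_card] at hX
  rw [← Nat.card_eq_of_bijective Φ hΦ, Nat.card_prod, Nat.card_eq_fintype_card,
    Nat.card_eq_fintype_card, Fintype.card_subtype_compl, Fintype.card_subtype_eq,
    Fintype.card_subtype_compl, Fintype.card_subtype_eq, hX, Nat.add_sub_cancel]

include hF in
theorem card_split_normalized (hm : 1 ≤ m) {x : Cfsg.Sz F m} (h1 : x ≠ 1) (h2 : x ^ 2 = 1)
    {p : Cfsg.suzukiOvoid F m} (hp : x • p = p) :
    2 * Nat.card {a : Cfsg.Sz F m // (Semi hF a ∧ ¬ Free a) ∧ x ∈ N[a]} =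
      Fintype.card F ^ 2 * (Fintype.card F - 2) := by
  classical
  obtain ⟨p', -, hun⟩ := involution_fix hF hm h2 h1
  have huniq : ∀ r : Cfsg.suzukiOvoid F m, x • r = r → r = p := fun r hr =>
    (hun r hr).trans (hun p hp).symm
  let Qs := {a : Cfsg.Sz F m // (Semi hF a ∧ ¬ Free a) ∧ x ∈ N[a]}
  let R := {r : Cfsg.suzukiOvoid F m // r ≠ p}
  have hflip : ∀ (a : Qs) (r : Cfsg.suzukiOvoid F m), a.1 • r = r → a.1 • (x • r) = x • r := by
    intro a r hr
    have e : x⁻¹ * a.1 * x = a.1⁻¹ := by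
      have := involution_inverts hF hm a.2.1.1 h2 h1 a.2.2
      rwa [inv_eq_of_mul_eq_one_right (show x * x = 1 by rw [← sq, h2])] at this ⊢
    calc a.1 • (x • r) = x • ((x⁻¹ * a.1 * x) • r) := by rw [mul_smul, mul_smul, smul_inv_smul]
      _ = x • r := by rw [e, inv_smul_eq_iff.mpr hr.symm]
  have hfix2 : ∀ a : Qs, Nat.card {r : Cfsg.suzukiOvoid F m // a.1 • r = r} = 2 := by
    intro a
    obtain ⟨h, hh⟩ := a.2.1.1.2.resolve_left a.2.1.2
    obtain ⟨h0, h0'⟩ := (le_stab_two hF hm).mp (mem_cj.mp hh)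
    rw [mul_smul, mul_smul, inv_smul_eq_iff] at h0 h0'
    have hset : {r : Cfsg.suzukiOvoid F m | a.1 • r = r} = {h • P∞, h • P₀} := by
      ext r
      constructor
      · intro hr
        have := tSub_fix hF hm (mem_cj.mp hh) (conj_ne_one a.2.1.1.1) (x := h⁻¹ • r)
          (by rw [mul_smul, mul_smul, smul_inv_smul, show a.1 • r = r from hr])
        simpa [inv_smul_eq_iff] using this
      · rintro (rfl | rfl)
        · exact h0
        · exact h0'
    show Nat.card ↥{r : Cfsg.suzukiOvoid F m | a.1 • r = r} = 2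
    rw [hset, Nat.card_coe_set_eq, Set.ncard_pair fun e => by simpa using MulAction.injective h e]
  let e : (Σ a : Qs, {r : Cfsg.suzukiOvoid F m // a.1 • r = r}) ≃
      (Σ r : R, {a : Cfsg.Sz F m // (a • r.1 = r.1 ∧ a • (x • r.1) = x • r.1) ∧ a ≠ 1}) :=
    { toFun := fun ar => ⟨⟨ar.2.1, fun e => not_fix_of_normalized hF hm ar.1.2.1.1 ar.1.2.2 hp huniq
          (self_mem_centralizer _) ar.1.2.1.1.1 (e ▸ ar.2.2)⟩,
        ⟨ar.1.1, ⟨ar.2.2, hflip ar.1 _ ar.2.2⟩, ar.1.2.1.1.1⟩⟩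
      invFun := fun ra => ⟨⟨ra.2.1, by
          obtain ⟨⟨r, hr⟩, a, ⟨ha, ha'⟩, ha1⟩ := ra
          have hne : r ≠ x • r := fun e => hr (huniq r e.symm)
          obtain ⟨h, hh, hh'⟩ := exists_move hF hne
          have hmem : ∀ c : Cfsg.Sz F m, c • r = r → c • (x • r) = x • r → c ∈ cj h (tSub hF) :=
            fun c hc hc' => mem_cj.mpr ((le_stab_two hF hm).mpr
              ⟨by rw [mul_smul, mul_smul, hh, hc, inv_smul_eq_iff, hh],
               by rw [mul_smul, mul_smul, hh', hc', inv_smul_eq_iff, hh']⟩)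
          have hs : Semi hF a := ⟨ha1, Or.inr ⟨h, hmem a ha ha'⟩⟩
          refine ⟨⟨hs, fun hf => hf r ha⟩, mem_normalizer_of_conj hF hm hs ?_⟩
          rw [centralizer_eq_cj_tSub hF hm (hmem a ha ha') ha1]
          have hxx : x⁻¹ = x := inv_eq_of_mul_eq_one_right (by rw [← sq, h2])
          refine hmem _ ?_ ?_
          · rw [hxx, mul_smul, mul_smul, ha', smul_smul, ← sq, h2, one_smul]
          · rw [mul_smul, mul_smul, inv_smul_smul, ha]⟩, ⟨ra.1.1, ra.2.2.1.1⟩⟩
      left_inv := fun _ => rfl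
      right_inv := fun _ => rfl }
  letI := Fintype.ofFinite Qs
  letI := Fintype.ofFinite R
  have hc := Nat.card_congr e
  rw [Nat.card_sigma, Nat.card_sigma, Finset.sum_congr rfl fun a _ => hfix2 a, Finset.sum_const,
    smul_eq_mul, mul_comm _ 2, Finset.card_univ, ← Nat.card_eq_fintype_card,
    Finset.sum_congr rfl (g := fun _ => Fintype.card F - 2) fun r _ => ?_, Finset.sum_const,
    smul_eq_mul, Finset.card_univ] at hc
  · rw [hc]
    congr 1
    letI := Fintype.ofFinite (Cfsg.suzukiOvoid F m)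
    have hX := card_ovoid (m := m) hF
    rw [Nat.card_eq_fintype_card] at hX
    rw [← Nat.card_eq_fintype_card, Nat.card_eq_fintype_card, Fintype.card_subtype_compl,
      Fintype.card_subtype_eq, hX, Nat.add_sub_cancel]
  · have hne : r.1 ≠ x • r.1 := fun e => r.2 (huniq _ e.symm)
    have h2' := card_fix_two hF hm hne
    letI := Fintype.ofFinite (Cfsg.Sz F m)
    rw [Nat.card_eq_fintype_card, Fintype.card_subtype] at h2' ⊢
    have : (Finset.univ.filter fun a : Cfsg.Sz F m => (a • r.1 = r.1 ∧ a • (x • r.1) = x • r.1) ∧ a ≠ 1) =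
        (Finset.univ.filter fun a : Cfsg.Sz F m => a • r.1 = r.1 ∧ a • (x • r.1) = x • r.1).erase 1 := by
      ext a; simp only [Finset.mem_erase, Finset.mem_filter, Finset.mem_univ, true_and]; tauto
    rw [this, Finset.card_erase_of_mem (Finset.mem_filter.mpr
      ⟨Finset.mem_univ _, one_smul _ _, one_smul _ _⟩), h2']
    omega

include hF in
theorem two_mul_card_free_normalized (hm : 1 ≤ m) {x : Cfsg.Sz F m} (h1 : x ≠ 1) (h2 : x ^ 2 = 1)
    {p : Cfsg.suzukiOvoid F m} (hp : x • p = p) :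
    2 * Nat.card {a : Cfsg.Sz F m // Free a ∧ x ∈ N[a]} = Fintype.card F ^ 3 := by
  classical
  have e1 := card_normalized hF hm h1 h2 hp
  rw [card_involution_outside hF hm p] at e1
  have e2 := card_split_normalized hF hm h1 h2 hp
  have hsplit : Nat.card {a : Cfsg.Sz F m // Semi hF a ∧ x ∈ N[a]} =
      Nat.card {a : Cfsg.Sz F m // Free a ∧ x ∈ N[a]} +
      Nat.card {a : Cfsg.Sz F m // (Semi hF a ∧ ¬ Free a) ∧ x ∈ N[a]} := by
    letI := Fintype.ofFinite (Cfsg.Sz F m)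
    simp only [Nat.card_eq_fintype_card, Fintype.card_subtype]
    rw [← Finset.card_union_of_disjoint (Finset.disjoint_filter.mpr fun a _ h h' => h'.1.2 h.1),
      ← Finset.filter_or]
    refine congrArg Finset.card (Finset.filter_congr fun a _ => ?_)
    constructor
    · rintro ⟨h, h'⟩
      by_cases hf : Free a
      · exact Or.inl ⟨hf, h'⟩
      · exact Or.inr ⟨⟨h, hf⟩, h'⟩
    · rintro (⟨h, h'⟩ | ⟨⟨h, -⟩, h'⟩)
      · exact ⟨⟨h.ne_one hF, Or.inl h⟩, h'⟩
      · exact ⟨h, h'⟩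
  have h8 := two_lt_card hF hm
  obtain ⟨d, hd⟩ : ∃ d, Fintype.card F = d + 2 := ⟨_, (Nat.sub_add_cancel (by omega)).symm⟩
  rw [hd, show d + 2 - 1 = d + 1 from by omega] at e1
  rw [hd, show d + 2 - 2 = d from by omega] at e2
  rw [hd]
  nlinarith

end CfsgLib.Lie.Suzuki
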