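import Mathlib
import Cfsg.Prelude.Def_LieExceptional
import Cfsg.Prelude.Def_Sz
import Cfsg.Agent.Lib.Recog.SuzukiFix

/-!
# The matrices of the Suzuki groups and the Suzuki–Tits ovoid

`θ` is an endomorphism of a field of characteristic two whose square is the squaring map.

* `uM`, `tM`, `wM`: unitriangular, diagonal and antidiagonal generators
* `f_rev`: the identity behind the symmetry of the ovoid
* `diag_of_form`: a linear map scaling `f` is a torus map
* `isoPoint`: symplectic maps with `g* = g^θ` preserve the ovoid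
-/

set_option autoImplicit false

namespace CfsgLib.Lie.Suzuki

open Cfsg.Lie CfsgLib.Recog.SuzukiFix
open scoped Matrix

variable {F : Type*} [Field F] [CharP F 2] (θ : F →+* F)

/-- `θ ∘ θ` is squaring. -/
def IsTitsEndo : Prop := ∀ x : F, θ (θ x) = x ^ 2

/-- The form defining the ovoid. -/
def fQ (x y : F) : F := x * y + θ x * x ^ 2 + θ y

/-- Representatives of the points of the ovoid. -/
def pvec : Option (F × F) → Fin 4 → F
  | none => ![1, 0, 0, 0]
  | some p => ![fQ θ p.1 p.2, p.2, p.1, 1]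

/-- Unitriangular element. -/
def uM (a b : F) : Matrix (Fin 4) (Fin 4) F :=
  !![1, a, b + a * θ a, fQ θ a b; 0, 1, θ a, b; 0, 0, 1, a; 0, 0, 0, 1]

/-- Diagonal element. -/
def tM (t : F) : Matrix (Fin 4) (Fin 4) F :=
  !![t, 0, 0, 0; 0, θ t / t, 0, 0; 0, 0, t / θ t, 0; 0, 0, 0, t⁻¹]

/-- The reversing element. -/
def wM : Matrix (Fin 4) (Fin 4) F :=
  !![0, 0, 0, 1; 0, 0, 1, 0; 0, 1, 0, 0; 1, 0, 0, 0]

variable {θ} (hθ : IsTitsEndo θ)

theorem pvec_ne_zero (o : Option (F × F)) : pvec θ o ≠ 0 := by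
  rcases o with _ | p <;> intro h
  · simpa [pvec] using congrFun h 0
  · simpa [pvec] using congrFun h 3

theorem pvec_inj {o o' : Option (F × F)} {c : F} (h : c • pvec θ o = pvec θ o') : o = o' := by
  have h0 := congrFun h 0
  have h1 := congrFun h 1
  have h2 := congrFun h 2
  have h3 := congrFun h 3
  rcases o with _ | p <;> rcases o' with _ | p' <;> simp [pvec] at h0 h1 h2 h3
  · rfl
  · simp [h3] at h0
  · subst h3
    simp at h1 h2
    exact congrArg some (Prod.ext h2 h1)

theorem uM_none (a b : F) : uM θ a b *ᵥ pvec θ none = pvec θ none := by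
  funext i
  fin_cases i <;> simp [uM, pvec, Matrix.mulVec, dotProduct, Fin.sum_univ_four]

include hθ in
theorem uM_some (a b x y : F) :
    uM θ a b *ᵥ pvec θ (some (x, y)) = pvec θ (some (x + a, y + θ a * x + b)) := by
  have h2 : (2 : F) = 0 := CharTwo.two_eq_zero
  funext i
  fin_cases i <;> simp [uM, pvec, fQ, Matrix.mulVec, dotProduct, Fin.sum_univ_four, map_add,
    map_mul, hθ a]
  all_goals grind

include hθ in
theorem uM_mul (a b c d : F) : uM θ a b * uM θ c d = uM θ (a + c) (b + d + θ a * c) := by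
  have h2 : (2 : F) = 0 := CharTwo.two_eq_zero
  ext i j
  fin_cases i <;> fin_cases j <;>
    simp [uM, fQ, Matrix.mul_apply, Fin.sum_univ_four, map_add, map_mul, hθ a]
  all_goals grind

theorem uM_zero : uM θ 0 0 = 1 := by
  ext i j
  fin_cases i <;> fin_cases j <;> simp [uM, fQ]

theorem det_uM (a b : F) : (uM θ a b).det = 1 := by
  rw [Matrix.det_of_upperTriangular (fun i j (hij : j < i) => by
    fin_cases i <;> fin_cases j <;> simp at hij <;> simp [uM])]
  simp [Fin.prod_univ_four, uM]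

include hθ in
theorem uM_symp (a b : F) : IsSymp (uM θ a b) := by
  have h2 : (2 : F) = 0 := CharTwo.two_eq_zero
  intro u v
  simp [uM, fQ, altForm4, Matrix.mulVec, dotProduct, Fin.sum_univ_four]
  grind

include hθ in
theorem star4_uM (a b : F) : star4 (uM θ a b) = θ.mapMatrix (uM θ a b) := by
  have h2 : (2 : F) = 0 := CharTwo.two_eq_zero
  ext i j
  fin_cases i <;> fin_cases j <;>
    simp [uM, fQ, star4, pairOf, map_add, map_mul, map_pow, hθ a, hθ b, CharTwo.sub_eq_add, CharTwo.neg_eq]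
  all_goals grind

theorem θ_ne_zero {t : F} (ht : t ≠ 0) : θ t ≠ 0 := fun h => ht ((map_eq_zero θ).1 h)

theorem tM_none {t : F} : tM θ t *ᵥ pvec θ none = t • pvec θ none := by
  funext i
  fin_cases i <;> simp [tM, pvec, Matrix.mulVec, dotProduct, Fin.sum_univ_four]

include hθ in
theorem tM_some {t : F} (ht : t ≠ 0) (x y : F) :
    tM θ t *ᵥ pvec θ (some (x, y)) = t⁻¹ • pvec θ (some (t ^ 2 / θ t * x, θ t * y)) := by
  have h2 := θ_ne_zero (θ := θ) ht
  have h3 : θ (θ t) = t ^ 2 := hθ t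
  funext i
  fin_cases i <;> simp [tM, pvec, fQ, Matrix.mulVec, dotProduct, Fin.sum_univ_four, map_mul,
    map_div₀, map_pow, h3]
  all_goals field_simp
  all_goals ring

theorem det_tM {t : F} (ht : t ≠ 0) : (tM θ t).det = 1 := by
  have h2 := θ_ne_zero (θ := θ) ht
  rw [Matrix.det_of_upperTriangular (fun i j (hij : j < i) => by
    fin_cases i <;> fin_cases j <;> simp at hij <;> simp [tM])]
  simp [Fin.prod_univ_four, tM]
  field_simp

theorem tM_mul (s t : F) : tM θ s * tM θ t = tM θ (s * t) := by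
  ext i j
  fin_cases i <;> fin_cases j <;>
    simp [tM, Matrix.mul_apply, Fin.sum_univ_four, map_mul, mul_inv, mul_div_mul_comm, mul_comm]

theorem tM_symp {t : F} (ht : t ≠ 0) : IsSymp (tM θ t) := by
  have h2 := θ_ne_zero (θ := θ) ht
  intro u v
  simp [tM, altForm4, Matrix.mulVec, dotProduct, Fin.sum_univ_four]
  field_simp

include hθ in
theorem star4_tM {t : F} (ht : t ≠ 0) : star4 (tM θ t) = θ.mapMatrix (tM θ t) := by
  have h2 := θ_ne_zero (θ := θ) ht
  have h3 : θ (θ t) = t ^ 2 := hθ t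
  ext i j
  fin_cases i <;> fin_cases j <;>
    simp [tM, star4, pairOf, map_div₀, h3]
  all_goals field_simp

theorem det_wM : (wM : Matrix (Fin 4) (Fin 4) F).det = 1 := by
  have h := (show IsSymp (wM : Matrix (Fin 4) (Fin 4) F) by
    intro u v
    simp [wM, altForm4, Matrix.mulVec, dotProduct, Fin.sum_univ_four]
    ring)
  exact h.det_eq_one

theorem wM_symp : IsSymp (wM : Matrix (Fin 4) (Fin 4) F) := by
  intro u v
  simp [wM, altForm4, Matrix.mulVec, dotProduct, Fin.sum_univ_four]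
  ring

theorem star4_wM : star4 (wM : Matrix (Fin 4) (Fin 4) F) = θ.mapMatrix wM := by
  ext i j
  fin_cases i <;> fin_cases j <;> simp [wM, star4, pairOf, CharTwo.neg_eq]

theorem wM_mul_self : (wM : Matrix (Fin 4) (Fin 4) F) * wM = 1 := by
  ext i j
  fin_cases i <;> fin_cases j <;> simp [wM, Matrix.mul_apply, Fin.sum_univ_four]

include hθ in
theorem f_key (x y : F) :
    θ y * y ^ 2 + θ x * fQ θ x y ^ 2 = θ (fQ θ x y) * (θ x * x ^ 2 + θ y) := by
  have h2 : (2 : F) = 0 := CharTwo.two_eq_zero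
  simp only [fQ, map_add, map_mul, map_pow, hθ x, hθ y]
  grind

include hθ in
theorem f_eq_zero {x y : F} (h : fQ θ x y = 0) : x = 0 ∧ y = 0 := by
  have h1 := f_key hθ x y
  rw [h, map_zero, zero_mul, zero_pow two_ne_zero, mul_zero, add_zero] at h1
  have hy : y = 0 := by
    by_contra hy
    exact mul_ne_zero (θ_ne_zero hy) (pow_ne_zero 2 hy) h1
  subst hy
  refine ⟨?_, rfl⟩
  by_contra hx
  exact mul_ne_zero (θ_ne_zero (θ := θ) hx) (pow_ne_zero 2 hx) (by simpa [fQ] using h)

include hθ in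
theorem f_rev {x y : F} (h : fQ θ x y ≠ 0) :
    fQ θ (y / fQ θ x y) (x / fQ θ x y) = (fQ θ x y)⁻¹ := by
  have h2 : (2 : F) = 0 := CharTwo.two_eq_zero
  have hf := θ_ne_zero (θ := θ) h
  have hk := f_key hθ x y
  have he : fQ θ (y / fQ θ x y) (x / fQ θ x y) = y / fQ θ x y * (x / fQ θ x y) +
      θ y / θ (fQ θ x y) * (y / fQ θ x y) ^ 2 + θ x / θ (fQ θ x y) := by
    rw [← map_div₀, ← map_div₀]; rfl
  rw [he]
  have hd : fQ θ x y = x * y + θ x * x ^ 2 + θ y := rfl
  field_simp
  grind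

include hθ in
theorem wM_some {x y : F} (h : x ≠ 0 ∨ y ≠ 0) :
    wM *ᵥ pvec θ (some (x, y)) = fQ θ x y • pvec θ (some (y / fQ θ x y, x / fQ θ x y)) := by
  have hf : fQ θ x y ≠ 0 := fun e => by have := f_eq_zero hθ e; tauto
  funext i
  fin_cases i <;> simp [wM, pvec, Matrix.mulVec, dotProduct, Fin.sum_univ_four, f_rev hθ hf, hf] <;>
    field_simp

theorem wM_none : wM *ᵥ pvec θ none = pvec θ (some (0, 0)) := by
  funext i
  fin_cases i <;> simp [wM, pvec, fQ, Matrix.mulVec, dotProduct, Fin.sum_univ_four]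

theorem wM_zero : wM *ᵥ pvec θ (some (0, 0)) = pvec θ none := by
  funext i
  fin_cases i <;> simp [wM, pvec, fQ, Matrix.mulVec, dotProduct, Fin.sum_univ_four]

/-- Symplectic matrices with `g* = g^θ` map points of the ovoid to points of the ovoid. -/
def IsoPoint (θ : F →+* F) (v : Fin 4 → F) : Prop :=
  ∃ u : Fin 4 → F,
    v 0 * u 3 + v 3 * u 0 = v 1 * u 2 + v 2 * u 1 ∧
    ∀ p : Fin 4, v (pairOf p).1 * u (pairOf p).2 + v (pairOf p).2 * u (pairOf p).1 = θ (v p)

include hθ in
theorem isoPoint_pvec (o : Option (F × F)) : IsoPoint θ (pvec θ o) := by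
  have h2 : (2 : F) = 0 := CharTwo.two_eq_zero
  rcases o with _ | ⟨x, y⟩
  · exact ⟨![0, 1, 0, 0], by simp [pvec], fun p => by fin_cases p <;> simp [pvec, pairOf]⟩
  · refine ⟨![y + x * θ x, θ x, 1, 0], by simp [pvec], fun p => ?_⟩
    fin_cases p <;> simp [pvec, pairOf, fQ, map_add, map_mul, map_pow, hθ x, hθ y]
    all_goals grind

theorem IsoPoint.map {g : Matrix (Fin 4) (Fin 4) F} (hs : IsSymp g)
    (hst : star4 g = θ.mapMatrix g) {v : Fin 4 → F} (hv : IsoPoint θ v) : IsoPoint θ (g *ᵥ v) := by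
  obtain ⟨u, hu, hp⟩ := hv
  have h2 : (2 : F) = 0 := CharTwo.two_eq_zero
  refine ⟨g *ᵥ u, ?_, fun p => ?_⟩
  · have h := hs v u
    simp only [altForm4] at h
    grind
  · have hkl : (pairOf p).2 ≠ (pairOf p).1.rev := by revert p; decide
    have hr := hs.row (pairOf p).1 (pairOf p).2
    rw [if_neg hkl] at hr
    have e : ∀ r, θ (g p r) =
        g (pairOf p).1 (pairOf r).1 * g (pairOf p).2 (pairOf r).2 +
          g (pairOf p).2 (pairOf r).1 * g (pairOf p).1 (pairOf r).2 := fun r => by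
      have := congrFun (congrFun hst p) r
      simp [star4, CharTwo.sub_eq_add] at this
      exact this.symm
    simp only [Matrix.mulVec, dotProduct, Fin.sum_univ_four, map_add, map_mul, e, ← hp]
    simp [pairOf] at hr ⊢
    grind

include hθ in
theorem IsoPoint.exists_eq {v : Fin 4 → F} (hv : v ≠ 0) (h : IsoPoint θ v) :
    ∃ (o : Option (F × F)) (c : F), c ≠ 0 ∧ v = c • pvec θ o := by
  have h2 : (2 : F) = 0 := CharTwo.two_eq_zero
  obtain ⟨u, hu, hp⟩ := h
  have p0 := hp 0
  have p1 := hp 1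
  have p2 := hp 2
  have p3 := hp 3
  simp [pairOf] at p0 p1 p2 p3
  by_cases h3 : v 3 = 0
  · have hv12 : v 1 = 0 ∧ v 2 = 0 := by
      rw [h3, map_zero] at p3
      simp [h3] at p2 p3 hu
      by_cases hu3 : u 3 = 0
      · have hv2 : v 2 = 0 := (map_eq_zero θ).1 (by rw [← p2, hu3, mul_zero])
        refine ⟨?_, hv2⟩
        simp [hv2, hu3] at hu p1
        by_contra hv1
        rcases hu with hh | hh
        · exact hv1 hh
        · exact θ_ne_zero hv1 (by rw [← p1, hh, mul_zero])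
      · have hv2 : v 2 = 0 := by simpa [hu3] using p3
        refine ⟨?_, hv2⟩
        simpa [hu3, hv2] using p2
    refine ⟨none, v 0, fun h0 => hv ?_, ?_⟩ <;>
      funext i <;> fin_cases i <;> simp [pvec, h3, hv12.1, hv12.2] at * <;> assumption
  · refine ⟨some (v 2 / v 3, v 1 / v 3), v 3, h3, ?_⟩
    have hθ3 := θ_ne_zero (θ := θ) h3
    have key : v 0 = v 3 * fQ θ (v 2 / v 3) (v 1 / v 3) := by
      simp only [fQ, map_div₀]
      field_simp
      grind
    funext i
    fin_cases i <;> simp [pvec] <;> first | exact key | field_simp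

/-- Three monomial maps are independent. -/
theorem three_chars (hθ : IsTitsEndo θ) (hF : ∃ c : F, c ≠ 0 ∧ c ≠ 1) {A B C : F}
    (h : ∀ y : F, A * (θ y * y ^ 2) + B * θ y + C * y ^ 2 = 0) : A = 0 ∧ B = 0 ∧ C = 0 := by
  obtain ⟨c, hc0, hc1⟩ := hF
  have hsq : c ^ 2 ≠ 1 := fun e => hc1 (frobenius_inj F 2 (by simp [frobenius_def, e]))
  have hθc : θ c ≠ 1 := fun e => hc1 (θ.injective (e.trans θ.map_one.symm))
  have hne : θ c ≠ c ^ 2 := fun e => by
    have h1 := hθ c
    rw [e, map_pow, e] at h1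
    exact hsq (mul_left_cancel₀ (pow_ne_zero 2 hc0) (by rw [mul_one, ← sq, h1]))
  let φ : Fin 3 → (F →* F) := ![θ.toMonoidHom * powMonoidHom 2, θ.toMonoidHom, powMonoidHom 2]
  have hinj : Function.Injective φ := by
    intro i j hij
    have h1 := DFunLike.congr_fun hij c
    fin_cases i <;> fin_cases j <;> simp [φ, powMonoidHom] at h1 ⊢ <;>
      (have h0 := θ_ne_zero (θ := θ) hc0; grind)
  have hli : LinearIndependent F (fun i => ((φ i : F →* F) : F → F)) :=
    (linearIndependent_monoidHom F F).comp φ hinj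
  have := Fintype.linearIndependent_iff.1 hli ![A, B, C] (by
    funext y
    simpa [Fin.sum_univ_three, φ, powMonoidHom] using h y)
  exact ⟨this 0, this 1, this 2⟩

/-- A linear map of the plane scaling `fQ` is diagonal. -/
theorem diag_of_form (hθ : IsTitsEndo θ) (hF : ∃ c : F, c ≠ 0 ∧ c ≠ 1) {p r s u c : F} (hc : c ≠ 0)
    (h : ∀ x y : F, fQ θ (u * x + s * y) (r * x + p * y) = c * fQ θ x y) :
    s = 0 ∧ r = 0 ∧ p = u * θ u ∧ u ≠ 0 ∧ c = θ u * u ^ 2 := by
  have h2 : (2 : F) = 0 := CharTwo.two_eq_zero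
  obtain ⟨hA, hB, hC⟩ := three_chars hθ hF (A := θ s * s ^ 2) (B := θ p + c) (C := s * p) fun y => by
    have := h 0 y
    simp [fQ, map_mul] at this
    grind
  obtain ⟨hA', hB', hC'⟩ := three_chars hθ hF (A := θ u * u ^ 2 + c) (B := θ r) (C := u * r) fun x => by
    have := h x 0
    simp [fQ, map_mul] at this
    grind
  have hs : s = 0 := by simpa using hA
  have hr : r = 0 := by simpa using hB'
  subst hs hr
  have hcu : c = θ u * u ^ 2 := by grind
  have hcp : θ p = c := by grind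
  have hu : u ≠ 0 := by
    rintro rfl
    exact hc (by simp [hcu])
  refine ⟨rfl, rfl, θ.injective ?_, hu, hcu⟩
  rw [hcp, hcu, map_mul, hθ u]

end CfsgLib.Lie.Suzuki
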