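import Cfsg.Agent.Lib.Lie.Suzuki.Classes

/-!
# The square of a class of elements of order above two in a Suzuki group

* `exists_conj_uS`: an element of `2`-power order is conjugate to a unitriangular one
* `ore_square`: the square of such a class contains every element other than `1`
-/

set_option autoImplicit false

namespace CfsgLib.Lie.Suzuki

open CfsgLib.Lie.Suzuki.MinDegree

variable {F : Type*} [Field F] [CharP F 2] [Fintype F] {m : ℕ}
  (hF : Fintype.card F = 2 ^ (2 * m + 1))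

/-- `g` is a product of two conjugates of `x`. -/
def InSquare {G : Type*} [Group G] (x g : G) : Prop := ∃ y z, IsConj x y ∧ IsConj x z ∧ g = y * z

theorem inSquare_of_conj {G : Type*} [Group G] {x g g' : G} (h : InSquare x g) (hg : IsConj g g') :
    InSquare x g' := by
  obtain ⟨y, z, hy, hz, rfl⟩ := h
  obtain ⟨k, rfl⟩ := isConj_iff.1 hg
  exact ⟨k * y * k⁻¹, k * z * k⁻¹, hy.trans (isConj_iff.2 ⟨k, rfl⟩), hz.trans (isConj_iff.2 ⟨k, rfl⟩), by group⟩

theorem isConj_inv_inv {G : Type*} [Group G] {a b : G} (h : IsConj a b) : IsConj a⁻¹ b⁻¹ := by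
  obtain ⟨k, rfl⟩ := isConj_iff.1 h
  exact isConj_iff.2 ⟨k, by group⟩

theorem inSquare_inv {G : Type*} [Group G] {x g : G} (h : InSquare x g) : InSquare x⁻¹ g⁻¹ := by
  obtain ⟨y, z, hy, hz, rfl⟩ := h
  exact ⟨z⁻¹, y⁻¹, isConj_inv_inv hz, isConj_inv_inv hy, mul_inv_rev y z⟩

include hF in
/-- An element of `2`-power order is conjugate to a unitriangular one. -/
theorem exists_conj_uS (hm : 1 ≤ m) {g : Cfsg.Sz F m} (h : g ^ 4 = 1) : ∃ a b, IsConj g (uS hF a b) := by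
  have hp : IsPGroup 2 (Subgroup.zpowers g) := fun ⟨y, hy⟩ => by
    obtain ⟨k, rfl⟩ := Subgroup.mem_zpowers_iff.1 hy
    refine ⟨2, Subtype.ext ?_⟩
    show (g ^ k) ^ 4 = 1
    rw [← zpow_natCast, ← zpow_mul, mul_comm, zpow_mul, zpow_natCast, h, one_zpow]
  obtain ⟨P, hP⟩ := hp.exists_le_sylow
  obtain ⟨k, hk⟩ := exists_conj_sylow hF hm P
  have hg := hk ▸ hP (Subgroup.mem_zpowers g)
  obtain ⟨u, ⟨a, b, rfl⟩, rfl⟩ := Subgroup.mem_map.1 hg
  exact ⟨a, b, isConj_iff.2 ⟨k⁻¹, by simp [MulAut.conj_apply, mul_assoc]⟩⟩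

include hF in
theorem wS_uS_sq_ne_one {a b : F} (ha : a ≠ 0) : (wS hF * uS hF a b) ^ 2 ≠ 1 := fun h => by
  have e : wS hF * uS hF a b * wS hF = (uS hF a b)⁻¹ := by
    rw [sq, ← mul_assoc, mul_eq_one_iff_eq_inv] at h
    exact h
  have h' := congrArg (fun k : Cfsg.Sz F m => k • pt F m (some ((0 : F), (0 : F)))) e
  simp only [mul_smul, wS_zero, uS_none, wS_none, uS_inv, uS_zero] at h'
  have := (pt F m).injective h'
  simp only [Option.some.injEq, Prod.mk.injEq] at this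
  exact ha this.1.symm

include hF in
/-- Elements of odd order: squares of their classes. -/
theorem inSquare_ss (hm : 1 ≤ m) {x g : Cfsg.Sz F m} (hx : x ^ 4 ≠ 1) (hg : g ≠ 1) : InSquare x g := by
  by_cases hg4 : g ^ 4 ≠ 1
  · obtain ⟨u, v, h⟩ := gow hF hm hx hx hg4
    exact ⟨_, _, isConj_iff.2 ⟨u, rfl⟩, isConj_iff.2 ⟨v, rfl⟩, h⟩
  push Not at hg4
  have hτ : mtr x ≠ 0 := fun e => hx ((mtr_eq_zero_iff hF hm x).1 e)
  have hcl : ∀ A B, fQ (th F m) A B + th F m A = mtr x → IsConj x (wS hF * uS hF A B) := fun A B h =>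
    isConj_of_mtr hF hm hτ (by rw [mtr_nf_one, h])
  have hinv : ∀ {y}, IsConj x y → IsConj x y⁻¹ := fun {y} h => (real_ss hF hm hx).trans (isConj_inv_inv h)
  have hquot : ∀ {A B A' B'}, fQ (th F m) A B + th F m A = mtr x → fQ (th F m) A' B' + th F m A' = mtr x →
      InSquare x ((uS hF A B)⁻¹ * uS hF A' B') := fun {A B A' B'} h h' =>
    ⟨_, _, hinv (hcl A B h), hcl A' B' h', by group⟩
  obtain ⟨z, hz, -, hzt⟩ := exists_two_z hF hm hτ 0
  obtain ⟨B, hB⟩ := exists_level hF hz hzt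
  obtain ⟨c, d, hcd⟩ := exists_conj_uS hF hm hg4
  refine inSquare_of_conj ?_ hcd.symm
  rcases eq_or_ne c 0 with rfl | hc
  · have hd : d ≠ 0 := fun e => hg (by rw [e, uS_one] at hcd; exact isConj_one_left.1 hcd)
    have hA : z⁻¹ ≠ 0 := inv_ne_zero hz
    have hs : th F m z⁻¹ * z⁻¹ ≠ 0 := mul_ne_zero (θ_ne_zero hA) hA
    have h := hquot hB (A' := z⁻¹) (B' := B + th F m z⁻¹ * z⁻¹) (by
      rw [← hB]
      have h2 : (2 : F) = 0 := CharTwo.two_eq_zero
      simp only [fQ, map_add, map_mul, th_tits hF z⁻¹]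
      grind)
    rw [uS_inv, uS_mul] at h
    refine inSquare_of_conj h ?_
    have h2 : (2 : F) = 0 := CharTwo.two_eq_zero
    rw [show z⁻¹ + z⁻¹ = (0 : F) from CharTwo.add_self_eq_zero _,
      show B + th F m z⁻¹ * z⁻¹ + (B + th F m z⁻¹ * z⁻¹) + th F m z⁻¹ * z⁻¹ = th F m z⁻¹ * z⁻¹ by grind]
    exact conj_two hF hs hd
  · obtain ⟨B₁, hB₁⟩ := (th_bij (F := F) (m := m)).2 (mtr x)
    have h0 : fQ (th F m) 0 B₁ + th F m 0 = mtr x := by simp [fQ, hB₁]
    have h := hquot h0 hB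
    rw [uS_inv, uS_mul, zero_add] at h
    rcases conj_four hF (inv_ne_zero hz) hc _ d with e | e
    · exact inSquare_of_conj h e
    · obtain ⟨y, y', hy, hy', he⟩ := h
      refine inSquare_of_conj (g := (y * y')⁻¹) ⟨y'⁻¹, y⁻¹, hinv hy', hinv hy, mul_inv_rev y y'⟩ ?_
      rw [← he]
      simpa using isConj_inv_inv e

include hF in
/-- Two conditions on the trace can be met at once. -/
theorem exists_split (s₁ s₂ K : F) (h1 : s₁ ≠ 0) (h12 : s₁ ≠ s₂) (h2 : s₂ ≠ 0) :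
    ∃ u, tr2 F (u / s₁) = 0 ∧ tr2 F ((K + u) / s₂) = 0 := by
  rcases zmod_two_cases (tr2 F (K / s₂)) with h | h
  · exact ⟨0, by simp, by rwa [add_zero]⟩
  by_contra hne
  push Not at hne
  have hu : ∀ u, tr2 F (u / s₁) = 0 → tr2 F (u / s₂) = 0 := fun u hu => by
    have := (zmod_two_cases _).resolve_left (hne u hu)
    rwa [add_div, map_add, h, add_eq_left] at this
  have hsum : ∀ {u v : F}, tr2 F (u / s₁) = 1 → tr2 F (v / s₁) = 1 → tr2 F (u / s₂) = tr2 F (v / s₂) :=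
    fun {u v} a b => by
      have := hu (u + v) (by rw [add_div, map_add, a, b, CharTwo.add_self_eq_zero])
      rw [add_div, map_add] at this
      exact CharTwo.add_eq_zero.1 this
  have e1 : tr2 F (s₁ / s₁) = 1 := by rw [div_self h1, tr2_one hF]
  have e2 : tr2 F (s₂ / s₂) = 1 := by rw [div_self h2, tr2_one hF]
  have e3 : tr2 F (s₂ / s₁) = 1 := (zmod_two_cases _).resolve_left fun e => by
    have := hu s₂ e
    rw [e2] at this
    exact one_ne_zero this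
  have e4 : tr2 F (s₁ / s₂) = 1 := by rw [hsum e1 e3, e2]
  obtain ⟨b, hb⟩ := exists_tr2_ne (a := s₁⁻¹ + s₂⁻¹) fun e => h12 (inv_injective (CharTwo.add_eq_zero.1 e))
  rw [add_mul, map_add, mul_comm s₁⁻¹, mul_comm s₂⁻¹, ← div_eq_mul_inv, ← div_eq_mul_inv] at hb
  rcases zmod_two_cases (tr2 F (b / s₁)) with hb1 | hb1
  · exact hb (by rw [hb1, hu b hb1, add_zero])
  · exact hb (by rw [hb1, hsum hb1 e1, e4, CharTwo.add_self_eq_zero])

include hF in
theorem th_mul_self_bij : Function.Bijective fun a : F => th F m a * a := by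
  refine Finite.injective_iff_bijective.1 fun a b h => ?_
  change th F m a * a = th F m b * b at h
  rcases eq_or_ne b 0 with rfl | hb
  · simpa using h
  have ha : a ≠ 0 := fun e => by
    rw [e, map_zero, zero_mul] at h
    exact mul_ne_zero (θ_ne_zero hb) hb h.symm
  obtain ⟨r, rfl⟩ : ∃ r, a = r * b := ⟨a / b, (div_mul_cancel₀ a hb).symm⟩
  rw [map_mul] at h
  have hr : th F m r * r = 1 := mul_right_cancel₀ (mul_ne_zero (θ_ne_zero hb) hb) (by linear_combination h)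
  have hr0 : r ≠ 0 := fun e => by rw [e, mul_zero] at hr; exact zero_ne_one hr
  have hθ := congrArg (th F m) hr
  rw [map_mul, th_tits hF, map_one] at hθ
  have : r = 1 := by linear_combination hθ - r * hr
  rw [this, one_mul]

include hF in
/-- An element of order four is in a given class of such elements or in the inverse class. -/
theorem four_cases (hm : 1 ≤ m) {x y : Cfsg.Sz F m} (hx : x ^ 4 = 1) (hx2 : x ^ 2 ≠ 1) (hy : y ^ 4 = 1)
    (hy2 : y ^ 2 ≠ 1) : IsConj x y ∨ IsConj x y⁻¹ := by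
  have key : ∀ {g : Cfsg.Sz F m}, g ^ 4 = 1 → g ^ 2 ≠ 1 → ∃ a b, a ≠ 0 ∧ IsConj g (uS hF a b) := by
    intro g h h'
    obtain ⟨a, b, hab⟩ := exists_conj_uS hF hm h
    refine ⟨a, b, fun e => h' ?_, hab⟩
    obtain ⟨k, hk⟩ := isConj_iff.1 hab.symm
    rw [← hk, e, conj_pow, uS_sq, mul_zero, uS_one, mul_one, mul_inv_cancel]
  obtain ⟨a, b, ha, hab⟩ := key hx hx2
  obtain ⟨c, d, hc, hcd⟩ := key hy hy2
  rcases conj_four hF ha hc b d with h | h
  · exact Or.inl (hab.trans (h.trans hcd.symm))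
  · exact Or.inr (hab.trans (h.trans (isConj_inv_inv hcd.symm)))

include hF in
/-- Classes of elements of order four. -/
theorem inSquare_four (hm : 1 ≤ m) {x g : Cfsg.Sz F m} (hx : x ^ 4 = 1) (hx2 : x ^ 2 ≠ 1) (hg : g ≠ 1) :
    InSquare x g := by
  classical
  have h2 : (2 : F) = 0 := CharTwo.two_eq_zero
  obtain ⟨a, b, hab⟩ := exists_conj_uS hF hm hx
  have ha : a ≠ 0 := fun e => hx2 (by
    obtain ⟨k, hk⟩ := isConj_iff.1 hab.symm
    rw [← hk, e, conj_pow, uS_sq, mul_zero, uS_one, mul_one, mul_inv_cancel])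
  have hcl : ∀ a', a' ≠ 0 → ∃ b', IsConj x (uS hF a' b') := fun a' ha' => by
    rcases conj_four hF ha ha' b 0 with h | h
    · exact ⟨_, hab.trans h⟩
    · exact ⟨_, hab.trans (by rwa [uS_inv] at h)⟩
  by_cases hg4 : g ^ 4 = 1
  · obtain ⟨c, d, hcd⟩ := exists_conj_uS hF hm hg4
    refine inSquare_of_conj ?_ hcd.symm
    rcases eq_or_ne c 0 with rfl | hc
    · have hd : d ≠ 0 := fun e => hg (by rw [e, uS_one] at hcd; exact isConj_one_left.1 hcd)
      refine inSquare_of_conj (g := x * x) ⟨x, x, IsConj.refl x, IsConj.refl x, rfl⟩ ?_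
      obtain ⟨k, hk⟩ := isConj_iff.1 hab
      refine (isConj_iff.2 ⟨k, show k * (x * x) * k⁻¹ = uS hF 0 (th F m a * a) from ?_⟩).trans
        (conj_two hF (mul_ne_zero (θ_ne_zero ha) ha) hd)
      rw [← uS_sq hF a b, ← hk, conj_pow, sq]
    · obtain ⟨a₁, ha₁⟩ := exists_notMem hF hm {0, c} (Finset.card_le_two.trans (by norm_num))
      simp only [Finset.mem_insert, Finset.mem_singleton, not_or] at ha₁
      obtain ⟨h10, h1c⟩ := ha₁
      have h20 : a₁ + c ≠ 0 := fun e => h1c (CharTwo.add_eq_zero.1 e)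
      obtain ⟨b₁, hb₁⟩ := hcl a₁ h10
      obtain ⟨b₂, hb₂⟩ := hcl (a₁ + c) h20
      obtain ⟨u, hu1, hu2⟩ := exists_split hF (th F m a₁ * a₁) (th F m (a₁ + c) * (a₁ + c))
        (d + b₁ + b₂ + th F m a₁ * (a₁ + c)) (mul_ne_zero (θ_ne_zero h10) h10)
        (fun e => hc (by have := (th_mul_self_bij hF).1 e; grind)) (mul_ne_zero (θ_ne_zero h20) h20)
      refine ⟨uS hF a₁ (b₁ + u), uS hF (a₁ + c) (b₂ + (d + b₁ + b₂ + th F m a₁ * (a₁ + c) + u)),
        hb₁.trans (conj_same hF h10 ?_), hb₂.trans (conj_same hF h20 ?_), ?_⟩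
      · rwa [← add_assoc, CharTwo.add_self_eq_zero, zero_add]
      · rwa [← add_assoc, CharTwo.add_self_eq_zero, zero_add]
      · rw [uS_mul]
        congr 1 <;> grind
  have hσ : mtr g ≠ 0 := fun e => hg4 ((mtr_eq_zero_iff hF hm g).1 e)
  obtain ⟨z₁, hz₁, -, ht₁⟩ := exists_two_z hF hm hσ 0
  obtain ⟨z₂, hz₂, hz12, ht₂⟩ := exists_two_z hF hm hσ z₁
  obtain ⟨κ, hκ0, hκ1, hκθ, hκ⟩ := exists_kappa hF hm (inv_ne_zero hz₁) (inv_ne_zero hz₂)
    (fun e => hz12 (inv_injective e).symm)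
  obtain ⟨c, d, hc0, hlev, hcκ⟩ : ∃ c d, c ≠ 0 ∧ fQ (th F m) c d + th F m c = mtr g ∧
      tr2 F ((κ⁻¹ + 1) / c) = 1 := by
    rcases hκ with h | h
    · obtain ⟨d, hd⟩ := exists_level hF hz₁ ht₁
      exact ⟨_, d, inv_ne_zero hz₁, hd, h⟩
    · obtain ⟨d, hd⟩ := exists_level hF hz₂ ht₂
      exact ⟨_, d, inv_ne_zero hz₂, hd, h⟩
  have hκ' : κ⁻¹ + 1 ≠ 0 := fun e => hκ1 (inv_eq_one.1 (CharTwo.add_eq_zero.1 e))
  obtain ⟨A, hA⟩ : ∃ A, A = c / (κ⁻¹ + 1) := ⟨_, rfl⟩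
  have hA0 : A ≠ 0 := hA ▸ div_ne_zero hc0 hκ'
  have hAκ : A = κ * (A + c) := by
    rw [eq_div_iff hκ'] at hA
    field_simp at hA
    linear_combination hA - κ * A * h2
  have he0 : A + c ≠ 0 := fun e => hA0 (by rw [hAκ, e, mul_zero])
  obtain ⟨B, hB⟩ := exists_level hF (τ := 0) (inv_ne_zero hA0) (by
    rw [zero_mul, zero_mul, zero_add, hA, inv_div, hcκ])
  rw [inv_inv] at hB
  have hg' : IsConj g (wS hF * uS hF c d) := isConj_of_mtr hF hm hσ (by rw [mtr_nf_one, hlev])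
  refine inSquare_of_conj ?_ hg'.symm
  obtain ⟨P, hP⟩ : ∃ P, P = uS hF A B := ⟨_, rfl⟩
  have hy4 : (wS hF * P) ^ 4 = 1 := (mtr_eq_zero_iff hF hm _).1 (by rw [hP, mtr_nf_one, hB])
  have hy2 : (wS hF * P) ^ 2 ≠ 1 := hP ▸ wS_uS_sq_ne_one hF hA0
  have hyy : IsConj (wS hF * P)⁻¹ (wS hF * P⁻¹) := isConj_iff.2 ⟨wS hF, by
    rw [mul_inv_rev, inv_eq_of_mul_eq_one_right (wS_mul_self hF), mul_assoc (wS hF), mul_assoc P⁻¹,
      wS_mul_self, mul_one]⟩
  have hu : IsConj (P⁻¹ * uS hF c d) (P * uS hF c d) := by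
    rw [hP, uS_inv, uS_mul, uS_mul]
    refine conj_same hF he0 ?_
    have hd' : th F m A * A / (th F m (A + c) * (A + c)) = th F m κ * κ := by
      rw [div_eq_iff (mul_ne_zero (θ_ne_zero he0) he0)]
      conv_lhs => rw [hAκ]
      rw [map_mul]; ring
    rw [show B + th F m A * A + d + th F m A * c + (B + d + th F m A * c) = th F m A * A by grind, hd', hκθ]
  have hu4 : (P * uS hF c d) ^ 4 = 1 := by rw [hP, uS_mul, uS_pow_four]
  have hu2 : (P * uS hF c d) ^ 2 ≠ 1 := by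
    rw [hP, uS_mul, uS_sq]
    intro e
    exact mul_ne_zero (θ_ne_zero he0) he0 (uS_inj hF (e.trans (uS_one hF).symm)).2
  have e1 : wS hF * uS hF c d = (wS hF * P) * (P⁻¹ * uS hF c d) := by group
  have e2 : wS hF * uS hF c d = (wS hF * P⁻¹) * (P * uS hF c d) := by group
  have hneg : ∀ {y u}, IsConj x y⁻¹ → IsConj x u⁻¹ → wS hF * uS hF c d = y * u →
      InSquare x (wS hF * uS hF c d) := fun {y u} hy hu he => by
    refine inSquare_of_conj (g := (wS hF * uS hF c d)⁻¹) ⟨u⁻¹, y⁻¹, hu, hy, by rw [he, mul_inv_rev]⟩ ?_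
    have hG : (wS hF * uS hF c d) ^ 4 ≠ 1 := fun e => hσ (by
      rw [← hlev, ← mtr_nf_one hF]; exact (mtr_eq_zero_iff hF hm _).2 e)
    exact (real_ss hF hm hG).symm
  rcases four_cases hF hm hx hx2 hy4 hy2 with hy | hy <;>
    rcases four_cases hF hm hx hx2 hu4 hu2 with hv | hv
  · exact ⟨_, _, hy, hv.trans hu.symm, e1⟩
  · refine hneg ?_ hv e2
    exact hy.trans (by simpa using isConj_inv_inv hyy)
  · exact ⟨_, _, hy.trans hyy, hv, e2⟩
  · exact hneg hy (hv.trans (isConj_inv_inv hu.symm)) e1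

include hF in
/-- The square of a class of elements of order above two covers the non-identity elements. -/
theorem ore_square (hm : 1 ≤ m) {x g : Cfsg.Sz F m} (hx : x ^ 2 ≠ 1) (hg : g ≠ 1) :
    ∃ u v : Cfsg.Sz F m, g = u * x * u⁻¹ * (v * x * v⁻¹) := by
  have h : InSquare x g := by
    by_cases h4 : x ^ 4 = 1
    · exact inSquare_four hF hm h4 hx hg
    · exact inSquare_ss hF hm h4 hg
  obtain ⟨y, z, hy, hz, rfl⟩ := h
  obtain ⟨u, rfl⟩ := isConj_iff.1 hy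
  obtain ⟨v, rfl⟩ := isConj_iff.1 hz
  exact ⟨u, v, rfl⟩

end CfsgLib.Lie.Suzuki
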