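import Cfsg.Agent.Lib.Lie.Suzuki.Classes
import Cfsg.Agent.Lib.Lie.Suzuki.Ore
import Cfsg.Agent.Lib.Char.CAVanish

/-!
# The degrees of the irreducible characters of a Suzuki group

* `selfCent_free`, `selfCent_tSub`: the three cyclic tori are centralisers of their non-identity elements
* `card_classes_ge`: at least `q + 3` classes
* `degrees`: the degrees are `1, q ^ 2, q ^ 2 + 1, (q - 1) k, (q - 1) k', (q - 1) 2 ^ m`
-/

set_option autoImplicit false

namespace CfsgLib.Lie.Suzuki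

open CfsgLib.Char CfsgLib.CA
open scoped ComplexConjugate

local notation "C[" g "]" => Subgroup.centralizer ({g} : Set (Cfsg.Sz _ _))

variable {F : Type*} [Field F] [CharP F 2] [Fintype F] {m : ℕ}
  (hF : Fintype.card F = 2 ^ (2 * m + 1))

include hF in
theorem selfCent_free (hm : 1 ≤ m) {g : Cfsg.Sz F m} (hg : Free g) : SelfCent C[g] := fun _ hx h1 =>
  (centralizer_eq hF hm hg hx h1).2

include hF in
theorem relIndex_free (hm : 1 ≤ m) {g : Cfsg.Sz F m} (hg : Free g) :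
    (C[g]).relIndex (Subgroup.normalizer (C[g] : Set (Cfsg.Sz F m))) = 4 :=
  index_normalizer hF hm hg

theorem selfCent_tSub (hm : 1 ≤ m) : SelfCent (tSub hF) := fun x hx h1 => by
  refine le_antisymm (fun y hy => centralizer_tS hF hm hx h1 (Subgroup.mem_centralizer_singleton_iff.1 hy).symm)
    fun y hy => Subgroup.mem_centralizer_singleton_iff.2 ?_
  obtain ⟨t, rfl⟩ := (mem_tSub hF).1 hx
  obtain ⟨s, rfl⟩ := (mem_tSub hF).1 hy
  rw [← map_mul, mul_comm, map_mul]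

include hF in
theorem exists_unit_ne_one (hm : 1 ≤ m) : ∃ t : Fˣ, t ≠ 1 := by
  classical
  by_contra h
  push Not at h
  have h1 : Fintype.card Fˣ ≤ 1 := Fintype.card_le_one_iff.2 fun a b => (h a).trans (h b).symm
  rw [Fintype.card_units] at h1
  have := card_ge_eight hF hm
  omega

theorem relIndex_tSub (hm : 1 ≤ m) :
    (tSub hF).relIndex (Subgroup.normalizer (tSub hF : Set (Cfsg.Sz F m))) = 2 := by
  have hw : ∀ t, wS hF * tS hF t * (wS hF)⁻¹ = (tS hF t)⁻¹ := fun t => by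
    rw [inv_eq_of_mul_eq_one_right (wS_mul_self hF), wS_tS]
  have hwN : wS hF ∈ Subgroup.normalizer (tSub hF : Set (Cfsg.Sz F m)) := by
    refine Subgroup.mem_normalizer_iff.2 fun y => ⟨fun hy => ?_, fun hy => ?_⟩
    · obtain ⟨t, rfl⟩ := (mem_tSub hF).1 hy
      rw [hw]
      exact inv_mem hy
    · obtain ⟨t, ht⟩ := (mem_tSub hF).1 hy
      refine (mem_tSub hF).2 ⟨t⁻¹, ?_⟩
      have e : y = (wS hF)⁻¹ * tS hF t * wS hF := by rw [← ht]; group
      rw [e, inv_eq_of_mul_eq_one_right (wS_mul_self hF), wS_tS, map_inv]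
  refine Subgroup.index_eq_two_iff.2 ⟨⟨wS hF, hwN⟩, fun b => ?_⟩
  simp only [Subgroup.mem_subgroupOf, Subgroup.coe_mul]
  obtain ⟨t, ht⟩ := exists_unit_ne_one hF hm
  have hmem : (b : Cfsg.Sz F m)⁻¹ * tS hF t * b ∈ tSub hF :=
    (Subgroup.mem_normalizer_iff''.1 b.2 _).1 ((mem_tSub hF).2 ⟨t, rfl⟩)
  have hne : tS hF t ≠ 1 := fun e => ht (tS_injective hF (e.trans (map_one _).symm))
  obtain ⟨h0, h1⟩ := (le_stab_two hF hm).1 hmem
  rw [mul_smul, mul_smul, inv_smul_eq_iff] at h0 h1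
  have p0 := tSub_fix hF hm ((mem_tSub hF).2 ⟨t, rfl⟩) hne h0
  have p1 := tSub_fix hF hm ((mem_tSub hF).2 ⟨t, rfl⟩) hne h1
  have hnot : ¬((b : Cfsg.Sz F m) * wS hF ∈ tSub hF ∧ (b : Cfsg.Sz F m) ∈ tSub hF) := fun ⟨e1, e2⟩ => by
    have h := ((le_stab_two hF hm).1 ((Subgroup.mul_mem_cancel_left (tSub hF) e2).1 e1)).1
    rw [wS_none] at h
    simp at h
  rcases p0 with p0 | p0
  · have hb : (b : Cfsg.Sz F m) ∈ tSub hF := (le_stab_two hF hm).2 ⟨p0, p1.resolve_left fun e =>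
      absurd (MulAction.injective (b : Cfsg.Sz F m) (p0.trans e.symm)) (by simp)⟩
    exact Or.inr ⟨hb, fun e => hnot ⟨e, hb⟩⟩
  · have h1' : (b : Cfsg.Sz F m) • pt F m (some ((0 : F), (0 : F))) = pt F m none := p1.resolve_right fun e =>
      absurd (MulAction.injective (b : Cfsg.Sz F m) (p0.trans e.symm)) (by simp)
    have hb : (b : Cfsg.Sz F m) * wS hF ∈ tSub hF := (le_stab_two hF hm).2
      ⟨by rw [mul_smul, wS_none, h1'], by rw [mul_smul, wS_zero, p0]⟩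
    exact Or.inl ⟨hb, fun e => hnot ⟨hb, e⟩⟩

theorem stChar_free (hm : 1 ≤ m) {g : Cfsg.Sz F m} (hg : Free g) :
    (stChar hF : Cfsg.Sz F m → ℂ) g = -1 := by
  show (Nat.card (MulAction.fixedBy (Cfsg.suzukiOvoid F m) g) : ℂ) - 1 = -1
  haveI : IsEmpty (MulAction.fixedBy (Cfsg.suzukiOvoid F m) g) := ⟨fun x => hg x.1 x.2⟩
  rw [Nat.card_of_isEmpty]
  norm_num

theorem stChar_tS (hm : 1 ≤ m) {g : Cfsg.Sz F m} (hg : g ∈ tSub hF) (h1 : g ≠ 1) :
    (stChar hF : Cfsg.Sz F m → ℂ) g = 1 := by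
  obtain ⟨t, rfl⟩ := (mem_tSub hF).1 hg
  show (Nat.card (MulAction.fixedBy (Cfsg.suzukiOvoid F m) (tS hF t)) : ℂ) - 1 = 1
  rw [card_fixedBy_tS hF hm fun e => h1 (by rw [e, map_one])]
  norm_num

theorem stChar_ne_triv (hm : 1 ≤ m) : stChar hF ≠ trivChar (Cfsg.Sz F m) := fun e => by
  have h1 := congrArg (fun χ : Cfsg.IrrCharacter (Cfsg.Sz F m) => (χ : Cfsg.Sz F m → ℂ) 1) e
  simp only [stChar_one, trivChar_apply] at h1
  have h2 : Fintype.card F ^ 2 = 1 := by exact_mod_cast h1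
  have h3 := card_ge_eight hF hm
  have : 8 ^ 2 ≤ Fintype.card F ^ 2 := Nat.pow_le_pow_left h3 2
  omega

include hF in
theorem card_classes_ge (hm : 1 ≤ m) : Fintype.card F + 3 ≤ Nat.card (ConjClasses (Cfsg.Sz F m)) := by
  classical
  have hτ : ∀ τ : F, ∃ g : Cfsg.Sz F m, mtr g = τ := fun τ => exists_mtr hF
  choose gτ hgτ using hτ
  let sp : Fin 4 → Cfsg.Sz F m := ![1, uS hF 0 1, uS hF 1 0, (uS hF 1 0)⁻¹]
  have h4 : ∀ i, mtr (sp i) = 0 := by
    intro i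
    refine (mtr_eq_zero_iff hF hm _).2 ?_
    fin_cases i <;> simp [sp, uS_pow_four, inv_pow]
  have horda : ∀ {g : Cfsg.Sz F m}, IsConj g 1 → g = 1 := fun h => isConj_one_left.1 h
  have hconj2 : ∀ {g g' : Cfsg.Sz F m}, IsConj g g' → g ^ 2 = 1 → g' ^ 2 = 1 := fun h h2 => by
    obtain ⟨k, rfl⟩ := isConj_iff.1 h
    rw [conj_pow, h2, mul_one, mul_inv_cancel]
  have hsq : uS hF (1 : F) 0 ^ 2 ≠ 1 := fun e => by
    rw [uS_sq] at e
    have := (uS_inj hF (e.trans (uS_one hF).symm)).2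
    simp at this
  have hinv : (uS hF (1 : F) 0)⁻¹ ^ 2 ≠ 1 := fun e => hsq (by rwa [inv_pow, inv_eq_one] at e)
  have hz : uS hF (0 : F) 1 ^ 2 = 1 := by rw [uS_sq]; simp [uS_one]
  have hz1 : uS hF (0 : F) 1 ≠ 1 := fun e => one_ne_zero (uS_inj hF (e.trans (uS_one hF).symm)).2
  have ha1 : uS hF (1 : F) 0 ≠ 1 := fun e => one_ne_zero (uS_inj hF (e.trans (uS_one hF).symm)).1
  have hsp : Function.Injective fun i => ConjClasses.mk (sp i) := by
    intro i j h
    have hc : IsConj (sp i) (sp j) := ConjClasses.mk_eq_mk_iff_isConj.1 h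
    fin_cases i <;> fin_cases j <;> first
      | rfl
      | (exfalso; simp only [sp, Fin.isValue, Matrix.cons_val_zero, Matrix.cons_val_one, Matrix.cons_val] at hc
         first
          | exact hz1 (horda hc) | exact hz1 (horda hc.symm)
          | exact ha1 (horda hc) | exact ha1 (horda hc.symm)
          | exact ha1 (inv_eq_one.1 (horda hc)) | exact ha1 (inv_eq_one.1 (horda hc.symm))
          | exact hsq (hconj2 hc hz) | exact hsq (hconj2 hc.symm hz)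
          | exact hinv (hconj2 hc hz) | exact hinv (hconj2 hc.symm hz)
          | exact not_conj_inv hF hm one_ne_zero hc | exact not_conj_inv hF hm one_ne_zero hc.symm)
  let f : {τ : F // τ ≠ 0} ⊕ Fin 4 → ConjClasses (Cfsg.Sz F m) :=
    Sum.elim (fun τ => ConjClasses.mk (gτ τ.1)) fun i => ConjClasses.mk (sp i)
  have hmtr : ∀ {g g' : Cfsg.Sz F m}, ConjClasses.mk g = ConjClasses.mk g' → mtr g = mtr g' := fun h => by
    obtain ⟨k, rfl⟩ := isConj_iff.1 (ConjClasses.mk_eq_mk_iff_isConj.1 h)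
    rw [mtr_conj]
  have hf : Function.Injective f := by
    rintro (x | x) (y | y) h
    · exact congrArg Sum.inl (Subtype.ext (by rw [← hgτ x.1, hmtr h, hgτ]))
    · exact absurd ((hgτ x.1).symm.trans ((hmtr h).trans (h4 y))) x.2
    · exact absurd ((hgτ y.1).symm.trans ((hmtr h).symm.trans (h4 x))) y.2
    · exact congrArg Sum.inr (hsp h)
  haveI : Finite (ConjClasses (Cfsg.Sz F m)) := Finite.of_surjective _ ConjClasses.mk_surjective
  refine le_trans (le_of_eq ?_) (Nat.card_le_card_of_injective f hf)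
  rw [Nat.card_sum, Nat.card_eq_fintype_card (α := {τ : F // τ ≠ 0}), Fintype.card_subtype_compl,
    Fintype.card_subtype_eq, Nat.card_fin]
  have := card_ge_eight hF hm
  omega

/-- `x ^ 2 + y ^ 2` is an odd power of two only for two equal powers of two. -/
theorem sq_add_sq_two_pow : ∀ (m x y : ℕ), x ^ 2 + y ^ 2 = 2 ^ (2 * m + 1) → x = 2 ^ m ∧ y = 2 ^ m
  | 0, x, y, h => by
    norm_num at h
    have hx : x ≤ 1 := by nlinarith
    have hy : y ≤ 1 := by nlinarith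
    interval_cases x <;> interval_cases y <;> simp_all
  | k + 1, x, y, h => by
    have h8 : 2 ^ (2 * (k + 1) + 1) = 4 * 2 ^ (2 * k + 1) := by rw [show 2 * (k + 1) + 1 = 2 + (2 * k + 1) by ring, pow_add]; norm_num
    rw [h8] at h
    obtain ⟨a, rfl | rfl⟩ := Nat.even_or_odd' x <;> obtain ⟨b, rfl | rfl⟩ := Nat.even_or_odd' y
    · obtain ⟨ha, hb⟩ := sq_add_sq_two_pow k a b (by nlinarith)
      rw [ha, hb, pow_succ, mul_comm]
      exact ⟨rfl, rfl⟩
    all_goals (exfalso; ring_nf at h; omega)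

include hF in
/-- Two characters supported on different tori. -/
theorem psi_ortho (hm : 1 ≤ m) {g : Cfsg.Sz F m} (hg : Free g) (lam : Cfsg.IrrCharacter (C[g]))
    (mu : Cfsg.IrrCharacter (tSub hF)) [Fintype (Cfsg.Sz F m)] :
    Cfsg.classInner (psiOf C[g] lam) (psiOf (tSub hF) mu) = 0 := by
  rw [Cfsg.classInner, Finset.sum_eq_zero, mul_zero]
  intro y _
  by_cases h : ∀ x : Cfsg.Sz F m, x⁻¹ * y * x ∈ tSub hF → x⁻¹ * y * x = 1
  · rw [psiOf_eq_zero (selfCent_tSub hF hm) mu h, map_zero, mul_zero]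
  push Not at h
  obtain ⟨x, hx, -⟩ := h
  rw [psiOf_eq_zero (selfCent_free hF hm hg) lam, zero_mul]
  intro x' hx'
  by_contra h1
  have hf : Free (x'⁻¹ * y * x') := (centralizer_eq hF hm hg hx' h1).1
  have hy : Free y := by
    have := hf.conj x'⁻¹
    rwa [show x'⁻¹⁻¹ * (x'⁻¹ * y * x') * x'⁻¹ = y by group] at this
  exact (hy.conj x) (pt F m none) ((le_stab_two hF hm).1 hx).1

theorem deg_cast {G : Type*} [Group G] [Finite G] (χ : Cfsg.IrrCharacter G) :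
    (χ : G → ℂ) 1 = (Cfsg.charDegree (χ : G → ℂ) : ℂ) ∧ 0 < Cfsg.charDegree (χ : G → ℂ) := by
  obtain ⟨d, hd0, hd⟩ := IsIrr.exists_degree χ.2
  rw [Cfsg.charDegree, hd, Complex.natCast_re, Nat.floor_natCast]
  exact ⟨rfl, hd0⟩

/-- Arithmetic: no exponent is as large as `q ^ 2 + 1`. -/
theorem excess_large {q k k' n n' e : ℕ} (h8 : 8 ≤ q) (hn : n * 2 ≤ q) (hn' : n' * 2 ≤ q) (hk : k ≤ 2 * q)
    (hk' : k' ≤ 2 * q) (h1 : q ^ 2 + 1 ≤ e) (h2 : e ^ 2 ≤ n * k' ^ 2 + n' * k ^ 2 + q) : False := by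
  have a1 := Nat.mul_le_mul hn (Nat.pow_le_pow_left hk' 2)
  have a2 := Nat.mul_le_mul hn' (Nat.pow_le_pow_left hk 2)
  have a3 := Nat.pow_le_pow_left h1 2
  have a4 := Nat.mul_le_mul_right (q ^ 3) h8
  nlinarith

/-- Arithmetic: an excess of one square is too much. -/
theorem eq_of_excess {a b n n' u v q : ℕ} (ha : n ≤ a) (hb : n' ≤ b) (hu : q < u)
    (h : a * u + b * v ≤ n * u + n' * v + q) : a = n := by
  by_contra hne
  have a1 := Nat.mul_le_mul_right u (show n + 1 ≤ a by omega)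
  have a2 := Nat.mul_le_mul_right v hb
  rw [add_mul, one_mul] at a1
  omega

/-- A family with small excess is constant. -/
theorem eq_on_of_excess {α : Type*} [DecidableEq α] (S : Finset α) (ev : α → ℕ) (v q : ℕ) (hv : q < v ^ 2)
    (hS : ∀ χ ∈ S, v ≤ ev χ ∧ (ev χ = v ∨ 2 * v ≤ ev χ)) (hle : ∑ χ ∈ S, ev χ ^ 2 ≤ S.card * v ^ 2 + q) :
    ∀ χ ∈ S, ev χ = v := by
  intro χ hχ
  refine (hS χ hχ).2.resolve_right fun h2 => ?_
  have h1 : (S.erase χ).card * v ^ 2 ≤ ∑ x ∈ S.erase χ, ev x ^ 2 := by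
    rw [← smul_eq_mul]
    exact Finset.card_nsmul_le_sum _ _ _ fun x hx => Nat.pow_le_pow_left (hS x (Finset.mem_of_mem_erase hx)).1 2
  rw [← Finset.add_sum_erase _ _ hχ, ← Finset.card_erase_add_one hχ, add_mul, one_mul] at hle
  have h3 : (2 * v) ^ 2 ≤ ev χ ^ 2 := Nat.pow_le_pow_left h2 2
  rw [mul_pow] at h3
  omega

/-- The sum of squares for the characters vanishing on the split torus. -/
theorem rest_sum {q k k' n n' nT SS : ℕ} (h8 : 8 ≤ q) (hnT : nT * 2 + 1 = q - 1) (hn : n * 4 + 1 = k)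
    (hn' : n' * 4 + 1 = k') (hkk : k * k' = q ^ 2 + 1) (hks : k + k' = 2 * q + 2)
    (hN : 1 ^ 2 + ((q ^ 2) ^ 2 + ((q - 1) ^ 2 * SS + nT * (q ^ 2 + 1) ^ 2)) = q ^ 2 * (q ^ 2 + 1) * (q - 1)) :
    SS = n * k' ^ 2 + n' * k ^ 2 + q := by
  have h1 : ((q - 1 : ℕ) : ℤ) = (q : ℤ) - 1 := by omega
  have hnT' : 2 * (nT : ℤ) = (q : ℤ) - 2 := by omega
  have hn4 : 4 * (n : ℤ) = (k : ℤ) - 1 := by omega
  have hn4' : 4 * (n' : ℤ) = (k' : ℤ) - 1 := by omega
  have hp : (k : ℤ) * k' = (q : ℤ) ^ 2 + 1 := by exact_mod_cast hkk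
  have hs : (k : ℤ) + k' = 2 * q + 2 := by omega
  have hN' := congrArg (Nat.cast : ℕ → ℤ) hN
  push_cast at hN'
  rw [h1] at hN'
  have hT : 4 * ((n : ℤ) * k' ^ 2 + n' * k ^ 2 + q) = (q ^ 2 + 1) * (2 * q + 4) - (2 * q + 2) ^ 2 + 4 * q := by
    have : 4 * ((n : ℤ) * k' ^ 2 + n' * k ^ 2 + q) =
        (k * k') * (k + k') - (k + k') ^ 2 + 2 * (k * k') + 4 * q := by
      linear_combination (k' : ℤ) ^ 2 * hn4 + (k : ℤ) ^ 2 * hn4'
    rw [hp, hs] at this
    linear_combination this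
  have hmain : ((q : ℤ) - 1) ^ 2 * (4 * ((SS : ℤ) - ((n : ℤ) * k' ^ 2 + n' * k ^ 2 + q))) = 0 := by
    linear_combination 4 * hN' - 2 * ((q : ℤ) ^ 2 + 1) ^ 2 * hnT' - ((q : ℤ) - 1) ^ 2 * hT
  rcases mul_eq_zero.1 hmain with h0 | h0
  · exact absurd (pow_eq_zero_iff two_ne_zero |>.1 h0) (by omega)
  · zify
    linarith

set_option maxHeartbeats 1000000 in
include hF in
/-- The degrees of the irreducible characters. -/
theorem degrees (hm : 1 ≤ m) :
    ∃ k k' : ℕ, k * k' = Fintype.card F ^ 2 + 1 ∧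
      (∀ χ : Cfsg.IrrCharacter (Cfsg.Sz F m), Cfsg.charDegree (χ : Cfsg.Sz F m → ℂ) ∈
        ({1, Fintype.card F ^ 2, Fintype.card F ^ 2 + 1, (Fintype.card F - 1) * k, (Fintype.card F - 1) * k',
          (Fintype.card F - 1) * 2 ^ m} : Set ℕ)) ∧
      ∀ d ∈ ({Fintype.card F ^ 2, Fintype.card F ^ 2 + 1, (Fintype.card F - 1) * k, (Fintype.card F - 1) * k',
          (Fintype.card F - 1) * 2 ^ m} : Set ℕ),
        ∃ χ : Cfsg.IrrCharacter (Cfsg.Sz F m), Cfsg.charDegree (χ : Cfsg.Sz F m → ℂ) = d := by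
  classical
  haveI := Fintype.ofFinite (Cfsg.IrrCharacter (Cfsg.Sz F m))
  haveI := Fintype.ofFinite (Cfsg.Sz F m)
  obtain ⟨g₁, g₂, hg₁, hg₂, -, -, e1, e2, -, -⟩ := tori_structure hF hm
  obtain ⟨q, hq⟩ : ∃ q, q = Fintype.card F := ⟨_, rfl⟩
  obtain ⟨k, hk⟩ : ∃ k, k = Nat.card C[g₁] := ⟨_, rfl⟩
  obtain ⟨k', hk'⟩ : ∃ k', k' = Nat.card C[g₂] := ⟨_, rfl⟩
  have hkk : k * k' = q ^ 2 + 1 := by rw [hk, hk', e1, e2, hq]; exact plus_minus hF hm
  have h8 : 8 ≤ q := hq ▸ card_ge_eight hF hm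
  let U : Finset (Cfsg.IrrCharacter (Cfsg.Sz F m)) :=
    (Finset.univ.erase (trivChar (Cfsg.Sz F m))).erase (stChar hF)
  let dg : Cfsg.IrrCharacter (Cfsg.Sz F m) → ℕ := fun χ => Cfsg.charDegree (χ : Cfsg.Sz F m → ℂ)
  have hdt : dg (trivChar (Cfsg.Sz F m)) = 1 := by
    show Cfsg.charDegree _ = 1
    simp [Cfsg.charDegree, trivChar_apply]
  have hdS : dg (stChar hF) = q ^ 2 := by
    show Cfsg.charDegree _ = q ^ 2
    rw [Cfsg.charDegree, stChar_one, Complex.natCast_re, Nat.floor_natCast, hq]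
  have hSt := stChar_ne_triv hF hm
  -- the split torus
  obtain ⟨nT, rT, cT, hnT, hcT, hcTt, hcTS, hgT, hdT, hvT⟩ := exists_coef (selfCent_tSub hF hm)
    (relIndex_tSub hF hm) (stChar hF) hSt 1 (by norm_num) (fun a ha h1 => by simp [stChar_tS hF hm ha h1])
  rw [card_tSub, ← hq] at hnT
  have hP : ∀ j, ∃ χ ∈ U, cT j χ = -1 ∧ dg χ = q ^ 2 + 1 ∧ ∀ ψ ∈ U, ψ ≠ χ → cT j ψ = 0 := by
    intro j
    have h1 := hgT j j
    rw [if_pos rfl] at h1
    push_cast at h1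
    obtain ⟨χ, hχ, hne⟩ : ∃ χ ∈ U, cT j χ ≠ 0 := by
      by_contra h
      push Not at h
      rw [Finset.sum_eq_zero fun χ hχ => by rw [h χ hχ, zero_mul]] at h1
      omega
    have hle : ∀ ψ ∈ U, ψ ≠ χ → cT j ψ = 0 := fun ψ hψ hψχ => by
      by_contra h0
      have h2 := Finset.sum_le_sum_of_subset_of_nonneg (f := fun x => cT j x * cT j x)
        (show {χ, ψ} ⊆ U from Finset.insert_subset_iff.2 ⟨hχ, Finset.singleton_subset_iff.2 hψ⟩)
        fun x _ _ => mul_self_nonneg _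
      rw [Finset.sum_pair hψχ.symm] at h2
      change _ ≤ ∑ x ∈ ((Finset.univ.erase (trivChar (Cfsg.Sz F m))).erase (stChar hF)), cT j x * cT j x at h2
      have a1 : 0 < cT j χ * cT j χ := mul_self_pos.2 hne
      have a2 : 0 < cT j ψ * cT j ψ := mul_self_pos.2 h0
      omega
    have hd := hdT j
    rw [Finset.sum_eq_single χ (fun ψ hψ hne => by rw [hle ψ hψ hne, zero_mul]) (fun h => absurd hχ h)] at hd
    rw [Finset.sum_eq_single χ (fun ψ hψ hne => by rw [hle ψ hψ hne, zero_mul]) (fun h => absurd hχ h)] at h1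
    change cT j χ * (dg χ : ℤ) = -1 - 1 * (dg (stChar hF) : ℤ) at hd
    rw [hdS] at hd
    push_cast at hd
    rcases (Int.mul_eq_one_iff_eq_one_or_neg_one (u := cT j χ) (v := cT j χ)).1 (by omega) with ⟨e, -⟩ | ⟨e, -⟩
    · exfalso
      rw [e] at hd
      linarith [Int.natCast_nonneg (dg χ), sq_nonneg ((q : ℤ))]
    · refine ⟨χ, hχ, e, ?_, hle⟩
      rw [e] at hd
      zify
      linarith
  choose P hPU hPc hPd hPz using hP
  have hPinj : Function.Injective P := fun i j h => by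
    by_contra hne
    have h1 := hgT i j
    rw [if_neg hne, Finset.sum_eq_single (P i) (fun ψ hψ hn => by rw [hPz i ψ hψ hn, zero_mul])
      (fun hh => absurd (hPU i) hh)] at h1
    rw [hPc i, h, hPc j] at h1
    norm_num at h1
  let R := U \ Finset.univ.image P
  have hR : ∀ χ ∈ R, χ ∈ U ∧ ∀ j, cT j χ = 0 := fun χ hχ => by
    obtain ⟨hU, hI⟩ := Finset.mem_sdiff.1 hχ
    exact ⟨hU, fun j => hPz j χ hU fun e => hI (e ▸ Finset.mem_image_of_mem P (Finset.mem_univ j))⟩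
  have hSU : ∀ {χ}, χ ∈ U → χ ≠ stChar hF ∧ χ ≠ trivChar (Cfsg.Sz F m) := fun h =>
    ⟨(Finset.mem_erase.1 h).1, (Finset.mem_erase.1 (Finset.mem_erase.1 h).2).1⟩
  have hdvdT : ∀ χ ∈ R, q - 1 ∣ dg χ := fun χ hχ => by
    obtain ⟨hU, h0⟩ := hR χ hχ
    have := (hvT χ h0).1
    rwa [card_tSub, ← hq] at this
  obtain ⟨ev, hev⟩ : ∃ ev : Cfsg.IrrCharacter (Cfsg.Sz F m) → ℕ, ev = fun χ => dg χ / (q - 1) := ⟨_, rfl⟩
  have hdev : ∀ χ ∈ R, dg χ = (q - 1) * ev χ := fun χ hχ => by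
    rw [hev]
    exact (Nat.mul_div_cancel' (hdvdT χ hχ)).symm
  -- a free torus
  have torus : ∀ {g : Cfsg.Sz F m}, Free g → ∃ (n : ℕ) (W : Finset (Cfsg.IrrCharacter (Cfsg.Sz F m))),
      n * 4 + 1 = Nat.card C[g] ∧ W ⊆ R ∧ W.card ≤ n + 2 ∧ ∀ χ ∈ R, χ ∉ W → Nat.card C[g] ∣ ev χ := by
    intro g hg
    obtain ⟨n, r, c, hn, hc, hct, hcS, hgram, -, hv⟩ := exists_coef (selfCent_free hF hm hg)
      (relIndex_free hF hm hg) (stChar hF) hSt (-1) (by norm_num) (fun a ha h1 => by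
        simp [stChar_free hF hm (centralizer_eq hF hm hg ha h1).1])
    have hcP : ∀ j i, c j (P i) = 0 := fun j i => by
      have h := classInner_eq_sum (psiOf_isClass (r j)) (psiOf (tSub hF) (rT i))
      rw [psi_ortho hF hm hg] at h
      simp only [hc, hcT, map_intCast] at h
      rw [← Finset.add_sum_erase _ _ (Finset.mem_univ (trivChar (Cfsg.Sz F m))),
        ← Finset.add_sum_erase _ _ (Finset.mem_erase.2 ⟨hSt, Finset.mem_univ (stChar hF)⟩), hct, hcS, hcTt, hcTS] at h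
      have h' : (0 : ℤ) = 1 * 1 + (-1 * 1 + ∑ χ ∈ U, c j χ * cT i χ) := by exact_mod_cast h
      rw [Finset.sum_eq_single (P i) (fun ψ hψ hn => by rw [hPz i ψ hψ hn, mul_zero])
        (fun hh => absurd (hPU i) hh), hPc] at h'
      omega
    obtain ⟨h3, h2⟩ := supports U c fun j j' => by rw [hgram]; push_cast; ring
    let W := Finset.univ.biUnion fun j => U.filter fun χ => c j χ ≠ 0
    refine ⟨n, W, hn, fun χ hχ => ?_, ?_, fun χ hχ hW => ?_⟩
    · obtain ⟨j, -, hj⟩ := Finset.mem_biUnion.1 hχ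
      obtain ⟨hU, hj⟩ := Finset.mem_filter.1 hj
      refine Finset.mem_sdiff.2 ⟨hU, fun hI => ?_⟩
      obtain ⟨i, -, rfl⟩ := Finset.mem_image.1 hI
      exact hj (hcP j i)
    · simpa using card_biUnion_le (fun j => U.filter fun χ => c j χ ≠ 0) h3 h2
    · have h0 : ∀ j, c j χ = 0 := fun j => by
        by_contra hne
        exact hW (Finset.mem_biUnion.2 ⟨j, Finset.mem_univ _, Finset.mem_filter.2 ⟨(hR χ hχ).1, hne⟩⟩)
      have h1 : Nat.card C[g] ∣ (q - 1) * ev χ := hdev χ hχ ▸ (hv χ h0).1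
      refine (Nat.Coprime.coprime_dvd_left ((free_card_dvd hF hm hg).mul_left (Fintype.card F ^ 2)) ?_).dvd_of_dvd_mul_left h1
      rw [hq]; exact coprime_sub_one hF
  obtain ⟨n, WA, hn, hWA, hcA, hvA⟩ := torus hg₁
  obtain ⟨n', WB, hn', hWB, hcB, hvB⟩ := torus hg₂
  rw [← hk] at hn hvA
  rw [← hk'] at hn' hvB
  -- counting
  have hUcard : q + 1 ≤ U.card := by
    have h := card_classes_ge hF hm
    rw [← card_irrCharacter, Nat.card_eq_fintype_card (α := Cfsg.IrrCharacter (Cfsg.Sz F m)), ← hq] at h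
    rw [Finset.card_erase_of_mem (Finset.mem_erase.2 ⟨hSt, Finset.mem_univ _⟩),
      Finset.card_erase_of_mem (Finset.mem_univ _), Finset.card_univ]
    omega
  have hRcard : q + 1 ≤ R.card + nT := by
    have h1 := Finset.card_sdiff_add_card_inter U (Finset.univ.image P)
    have h2 : (U ∩ Finset.univ.image P).card ≤ nT :=
      (Finset.card_le_card Finset.inter_subset_right).trans (Finset.card_image_le.trans (by simp))
    show q + 1 ≤ (U \ Finset.univ.image P).card + nT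
    omega
  have hr : 2 ^ (m + 1) * 2 ^ (m + 1) = 2 * q := by
    rw [hq, hF, ← pow_add, ← pow_succ']
    ring_nf
  have hrle : 2 * 2 ^ (m + 1) ≤ q := by
    rw [hq, hF, ← pow_succ']
    exact Nat.pow_le_pow_right (by norm_num) (by omega)
  have hk1 : k = q + 2 ^ (m + 1) + 1 := by rw [hk, e1, hq, hF]
  have hk2 : k' + 2 ^ (m + 1) = q + 1 := by rw [hk', e2, hq, hF]; rw [hq, hF] at hrle; omega
  have hsum : ∑ χ ∈ R, ev χ ^ 2 = n * k' ^ 2 + n' * k ^ 2 + q := by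
    have h := sum_sq_degree (G := Cfsg.Sz F m)
    have hN : ∑ χ : Cfsg.IrrCharacter (Cfsg.Sz F m), dg χ ^ 2 = Nat.card (Cfsg.Sz F m) := by
      have h' : ((∑ χ : Cfsg.IrrCharacter (Cfsg.Sz F m), dg χ ^ 2 : ℕ) : ℂ) = Nat.card (Cfsg.Sz F m) := by
        rw [← h]
        push_cast
        exact Finset.sum_congr rfl fun χ _ => by rw [(deg_cast χ).1]
      exact_mod_cast h'
    rw [nat_card hF hm, ← hq, ← Finset.add_sum_erase _ _ (Finset.mem_univ (trivChar (Cfsg.Sz F m))),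
      ← Finset.add_sum_erase _ _ (Finset.mem_erase.2 ⟨hSt, Finset.mem_univ (stChar hF)⟩), hdt, hdS] at hN
    have hsub : Finset.univ.image P ⊆ U := fun χ hχ => by
      obtain ⟨j, -, rfl⟩ := Finset.mem_image.1 hχ
      exact hPU j
    have hPsum : ∑ χ ∈ Finset.univ.image P, dg χ ^ 2 = nT * (q ^ 2 + 1) ^ 2 := by
      rw [Finset.sum_image fun a _ b _ h => hPinj h]
      simp [hPd]
    have hRsum : ∑ χ ∈ R, dg χ ^ 2 = (q - 1) ^ 2 * ∑ χ ∈ R, ev χ ^ 2 := by
      rw [Finset.mul_sum]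
      exact Finset.sum_congr rfl fun χ hχ => by rw [hdev χ hχ, mul_pow]
    change 1 ^ 2 + ((q ^ 2) ^ 2 + ∑ χ ∈ U, dg χ ^ 2) = _ at hN
    rw [← Finset.sum_sdiff hsub, hPsum, show U \ Finset.univ.image P = R from rfl, hRsum] at hN
    generalize ∑ χ ∈ R, ev χ ^ 2 = SS at hN ⊢
    exact rest_sum h8 hnT hn hn' hkk (by omega) hN
  have hk'b : q + 2 ≤ 2 * k' := by omega
  have hk'q : q < k' ^ 2 := by
    have := Nat.mul_le_mul hk'b hk'b
    have := Nat.mul_le_mul_left q h8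
    linarith [(by ring : 2 * k' * (2 * k') = 4 * k' ^ 2), (by ring : (q + 2) * (q + 2) = q * q + 4 * q + 4)]
  have hkk' : k' ≤ k := by omega
  have hk'0 : k' ≤ q + 1 := by omega
  have hcop : Nat.Coprime k k' := by
    rw [hk, hk']
    exact coprime_cards hF hm hg₁ hg₂ (by
      intro hh
      have := card_eq_of_cls hF hm hg₁ hh
      rw [← hk, ← hk'] at this
      have : 0 < 2 ^ (m + 1) := by positivity
      omega)
  have hev0 : ∀ χ ∈ R, 0 < ev χ := fun χ hχ => by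
    have := (deg_cast χ).2
    change 0 < dg χ at this
    rw [hdev χ hχ] at this
    exact Nat.pos_of_mul_pos_left this
  have hcover : R = WA ∪ WB := by
    refine (Finset.union_subset hWA hWB).antisymm' fun χ hχ => ?_
    by_contra hx
    simp only [Finset.mem_union, not_or] at hx
    have h1 : k * k' ≤ ev χ := Nat.le_of_dvd (hev0 χ hχ)
      (hcop.mul_dvd_of_dvd_of_dvd (hvA χ hχ hx.1) (hvB χ hχ hx.2))
    have h2 : ev χ ^ 2 ≤ n * k' ^ 2 + n' * k ^ 2 + q :=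
      hsum ▸ Finset.single_le_sum (f := fun x => ev x ^ 2) (fun _ _ => Nat.zero_le _) hχ
    rw [hkk] at h1
    exact excess_large h8 (by omega) (by omega) (by omega) (by omega) h1 h2
  let A' := WA \ WB
  let B' := WB \ WA
  let C' := WA ∩ WB
  have hA' : ∀ χ ∈ A', k' ≤ ev χ ∧ (ev χ = k' ∨ 2 * k' ≤ ev χ) := fun χ hχ => by
    obtain ⟨h1, h2⟩ := Finset.mem_sdiff.1 hχ
    obtain ⟨z, hz⟩ := hvB χ (hWA h1) h2
    have := hev0 χ (hWA h1)
    rcases Nat.lt_or_ge z 2 with h | h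
    · interval_cases z
      · omega
      · exact ⟨by omega, Or.inl (by omega)⟩
    · have := Nat.mul_le_mul_left k' h
      exact ⟨by omega, Or.inr (by omega)⟩
  have hB' : ∀ χ ∈ B', k ≤ ev χ ∧ (ev χ = k ∨ 2 * k ≤ ev χ) := fun χ hχ => by
    obtain ⟨h1, h2⟩ := Finset.mem_sdiff.1 hχ
    obtain ⟨z, hz⟩ := hvA χ (hWB h1) h2
    have := hev0 χ (hWB h1)
    rcases Nat.lt_or_ge z 2 with h | h
    · interval_cases z
      · omega
      · exact ⟨by omega, Or.inl (by omega)⟩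
    · have := Nat.mul_le_mul_left k h
      exact ⟨by omega, Or.inr (by omega)⟩
  have hsplit : ∑ χ ∈ R, ev χ ^ 2 = ∑ χ ∈ A', ev χ ^ 2 + ∑ χ ∈ B', ev χ ^ 2 + ∑ χ ∈ C', ev χ ^ 2 := by
    rw [hcover, ← Finset.sdiff_union_self_eq_union, Finset.sum_union Finset.sdiff_disjoint,
      ← Finset.sum_inter_add_sum_sdiff WB WA, Finset.inter_comm WB WA]
    simp only [A', B', C']
    ring
  have hlowA : A'.card * k' ^ 2 ≤ ∑ χ ∈ A', ev χ ^ 2 := by
    rw [← smul_eq_mul]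
    exact Finset.card_nsmul_le_sum _ _ _ fun χ hχ => Nat.pow_le_pow_left (hA' χ hχ).1 2
  have hlowB : B'.card * k ^ 2 ≤ ∑ χ ∈ B', ev χ ^ 2 := by
    rw [← smul_eq_mul]
    exact Finset.card_nsmul_le_sum _ _ _ fun χ hχ => Nat.pow_le_pow_left (hB' χ hχ).1 2
  have hcA' := Finset.card_sdiff_add_card_inter WA WB
  have hcB' := Finset.card_sdiff_add_card_inter WB WA
  rw [Finset.inter_comm WB WA] at hcB'
  have hcR := Finset.card_union_add_card_inter WA WB
  rw [← hcover] at hcR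
  change A'.card + C'.card = WA.card at hcA'
  change B'.card + C'.card = WB.card at hcB'
  change R.card + C'.card = WA.card + WB.card at hcR
  have hAn : n ≤ A'.card := by omega
  have hBn : n' ≤ B'.card := by omega
  have hkq : q < k ^ 2 := hk'q.trans_le (Nat.pow_le_pow_left hkk' 2)
  have hAeq : A'.card = n := eq_of_excess hAn hBn hk'q (v := k ^ 2) (by omega)
  have hBeq : B'.card = n' := eq_of_excess hBn hAn hkq (v := k' ^ 2) (by omega)
  rw [hAeq] at hlowA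
  rw [hBeq] at hlowB
  have hAv : ∀ χ ∈ A', ev χ = k' := eq_on_of_excess A' ev k' q hk'q hA' (by rw [hAeq]; omega)
  have hBv : ∀ χ ∈ B', ev χ = k := eq_on_of_excess B' ev k q hkq hB' (by rw [hBeq]; omega)
  have hC2 : C'.card = 2 := by omega
  obtain ⟨x, y, hxy, hC⟩ := Finset.card_eq_two.1 hC2
  have hq2 : ∑ χ ∈ C', ev χ ^ 2 = q := by
    rw [Finset.sum_congr rfl (fun χ hχ => by rw [hAv χ hχ] : ∀ χ ∈ A', ev χ ^ 2 = k' ^ 2),
      Finset.sum_congr rfl (fun χ hχ => by rw [hBv χ hχ] : ∀ χ ∈ B', ev χ ^ 2 = k ^ 2),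
      Finset.sum_const, Finset.sum_const, hAeq, hBeq, smul_eq_mul, smul_eq_mul] at hsplit
    omega
  rw [hC, Finset.sum_pair hxy, hq, hF] at hq2
  obtain ⟨hx, hy⟩ := sq_add_sq_two_pow m _ _ hq2
  have hxR : x ∈ R := hWA (Finset.mem_inter.1 (show x ∈ C' by rw [hC]; simp)).1
  refine ⟨k, k', hq ▸ hkk, fun χ => ?_, fun d hd => ?_⟩
  · simp only [← hq, Set.mem_insert_iff, Set.mem_singleton_iff]
    by_cases ht : χ = trivChar (Cfsg.Sz F m)
    · exact Or.inl (ht ▸ hdt)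
    by_cases hs : χ = stChar hF
    · exact Or.inr (Or.inl (hs ▸ hdS))
    have hU : χ ∈ U := Finset.mem_erase.2 ⟨hs, Finset.mem_erase.2 ⟨ht, Finset.mem_univ _⟩⟩
    by_cases hI : χ ∈ Finset.univ.image P
    · obtain ⟨j, -, rfl⟩ := Finset.mem_image.1 hI
      exact Or.inr (Or.inr (Or.inl (hPd j)))
    have hχR : χ ∈ R := Finset.mem_sdiff.2 ⟨hU, hI⟩
    have hmem := hχR
    rw [hcover, Finset.mem_union] at hmem
    show dg χ = _ ∨ dg χ = _ ∨ dg χ = _ ∨ dg χ = _ ∨ dg χ = _ ∨ dg χ = _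
    rw [hdev χ hχR]
    by_cases hA : χ ∈ WA
    · by_cases hB : χ ∈ WB
      · have hc : χ ∈ C' := Finset.mem_inter.2 ⟨hA, hB⟩
        rw [hC, Finset.mem_insert, Finset.mem_singleton] at hc
        rcases hc with rfl | rfl
        · rw [hx]; simp
        · rw [hy]; simp
      · rw [hAv χ (Finset.mem_sdiff.2 ⟨hA, hB⟩)]; simp
    · rw [hBv χ (Finset.mem_sdiff.2 ⟨hmem.resolve_left hA, hA⟩)]; simp
  · simp only [← hq, Set.mem_insert_iff, Set.mem_singleton_iff] at hd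
    rcases hd with rfl | rfl | rfl | rfl | rfl
    · exact ⟨stChar hF, hdS⟩
    · have : 0 < nT := by omega
      exact ⟨P ⟨0, this⟩, hPd _⟩
    · obtain ⟨z, hz⟩ := Finset.card_pos.1 (show 0 < B'.card by omega)
      exact ⟨z, by show dg z = _; rw [hdev z (hWB (Finset.mem_sdiff.1 hz).1), hBv z hz]⟩
    · obtain ⟨z, hz⟩ := Finset.card_pos.1 (show 0 < A'.card by omega)
      exact ⟨z, by show dg z = _; rw [hdev z (hWA (Finset.mem_sdiff.1 hz).1), hAv z hz]⟩
    · exact ⟨x, by show dg x = _; rw [hdev x hxR, hx]⟩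

end CfsgLib.Lie.Suzuki
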