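import Cfsg.Agent.Lib.Lie.Suzuki.BinaryCriteria
import Cfsg.Agent.Lib.Lie.Suzuki.Degrees
import Cfsg.Agent.Lib.Lie.Suzuki.TwoCount

/-!
# Cyclic free subgroups of a Suzuki group and binary actions

* `card_pairs_mod_four`: factorisations in the class of a free element number one modulo four
* `not_bin_cyclic`
-/

set_option autoImplicit false

namespace CfsgLib.Lie.Suzuki

open CfsgLib.Char

local notation "C[" g "]" => Subgroup.centralizer ({g} : Set (Cfsg.Sz _ _))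
local notation "N[" g "]" => Subgroup.normalizer
  (SetLike.coe (Subgroup.centralizer ({g} : Set (Cfsg.Sz _ _))))

variable {F : Type*} [Field F] [CharP F 2] [Fintype F] {m : ℕ}
  (hF : Fintype.card F = 2 ^ (2 * m + 1))

include hF in
theorem pow_four_ne_of_semi (hm : 1 ≤ m) {x : Cfsg.Sz F m} (h : Semi hF x) : x ^ 4 ≠ 1 := fun h4 => by
  have hd := Nat.eq_one_of_dvd_coprimes (Nat.Coprime.pow_left 2 (Nat.coprime_two_left.2 (semi_odd_order hF hm h)))
    (orderOf_dvd_of_pow_eq_one h4) dvd_rfl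
  exact h.1 (orderOf_eq_one_iff.1 hd)

include hF in
/-- The number of factorisations. -/
theorem card_pairs_mod_four (hm : 1 ≤ m) {x h : Cfsg.Sz F m} (hx : Free x) (hh : Free h) :
    Nat.card {p : Cfsg.Sz F m × Cfsg.Sz F m // p.1 * x * p.1⁻¹ * (p.2 * x * p.2⁻¹ * h⁻¹) = 1} % 4 = 1 := by
  classical
  haveI := Fintype.ofFinite (Cfsg.Sz F m)
  haveI := Fintype.ofFinite (Cfsg.IrrCharacter (Cfsg.Sz F m))
  have hi : Free h⁻¹ := fun p hp => hh p (by rw [inv_smul_eq_iff] at hp; exact hp.symm)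
  obtain ⟨P, hP⟩ : ∃ P, Nat.card {p : Cfsg.Sz F m × Cfsg.Sz F m //
      p.1 * x * p.1⁻¹ * (p.2 * x * p.2⁻¹ * h⁻¹) = 1} = P := ⟨_, rfl⟩
  have hs := CharDegree.sum_three x x h⁻¹
  rw [hP, Finset.mul_sum] at hs
  rw [hP]
  obtain ⟨k, k', hkk, hdeg, -⟩ := degrees hF hm
  obtain ⟨w, hw⟩ : 4 ∣ Fintype.card F := ⟨2 ^ (2 * m - 1), by
    rw [hF, show (4 : ℕ) = 2 ^ 2 from rfl, ← pow_add]; congr 1; omega⟩
  have hterm : ∀ χ : Cfsg.IrrCharacter (Cfsg.Sz F m), χ ≠ stChar hF → ∃ I : ℂ, IsIntegral ℤ I ∧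
      (Nat.card (Cfsg.Sz F m) : ℂ) * ((χ : Cfsg.Sz F m → ℂ) x * (χ : Cfsg.Sz F m → ℂ) x *
        (χ : Cfsg.Sz F m → ℂ) h⁻¹ / (χ : Cfsg.Sz F m → ℂ) 1) = 4 * I := by
    intro χ hχ
    obtain ⟨n, ρ, hρ, hρχ, hn⟩ := CharDegree.exists_rep χ
    obtain ⟨e, he⟩ : ∃ e, Nat.card (Cfsg.Sz F m) = n * (4 * e) := by
      have hd := hdeg χ
      rw [← hn] at hd
      have hq := nat_card hF hm
      simp only [Set.mem_insert_iff, Set.mem_singleton_iff] at hd
      rcases hd with h1 | h1 | h1 | h1 | h1 | h1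
      · exact ⟨4 * w ^ 2 * (Fintype.card F ^ 2 + 1) * (Fintype.card F - 1), by rw [hq, h1, hw]; ring⟩
      · exact absurd (eq_stChar hF hm χ (by rw [← hn, h1])) hχ
      · exact ⟨4 * w ^ 2 * (Fintype.card F - 1), by rw [hq, h1, hw]; ring⟩
      · exact ⟨4 * w ^ 2 * k', by rw [hq, h1, ← hkk, hw]; ring⟩
      · exact ⟨4 * w ^ 2 * k, by rw [hq, h1, ← hkk, hw]; ring⟩
      · refine ⟨2 ^ (3 * m) * (Fintype.card F ^ 2 + 1), ?_⟩
        rw [hq, h1]
        have hq2 : Fintype.card F ^ 2 = 2 ^ m * (4 * 2 ^ (3 * m)) := by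
          rw [hF, show (4 : ℕ) = 2 ^ 2 from rfl, ← pow_mul, ← pow_add, ← pow_add]; congr 1; ring
        rw [hq2]; ring
    have h1 : (χ : Cfsg.Sz F m → ℂ) 1 = (n : ℂ) := by rw [← hρχ, Representation.char_one, Module.finrank_fin_fun]
    have hn0 : (n : ℂ) ≠ 0 := h1 ▸ IsIrr.apply_one_ne_zero χ.2
    have hint : ∀ z, IsIntegral ℤ ((χ : Cfsg.Sz F m → ℂ) z) := fun z =>
      IsChar.isIntegral (IsIrr.isCharacter χ.2) z
    refine ⟨(e : ℂ) * ((χ : Cfsg.Sz F m → ℂ) x * (χ : Cfsg.Sz F m → ℂ) x * (χ : Cfsg.Sz F m → ℂ) h⁻¹),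
      IsIntegral.mul (isIntegral_natCast e) (((hint x).mul (hint x)).mul (hint h⁻¹)), ?_⟩
    rw [h1, he]
    push_cast
    field_simp
  choose! I hI1 hI2 using hterm
  have hst : (Nat.card (Cfsg.Sz F m) : ℂ) * ((stChar hF : Cfsg.Sz F m → ℂ) x *
      (stChar hF : Cfsg.Sz F m → ℂ) x * (stChar hF : Cfsg.Sz F m → ℂ) h⁻¹ /
        (stChar hF : Cfsg.Sz F m → ℂ) 1) = -((unip hF).index : ℂ) := by
    have hq : (Fintype.card F : ℂ) ≠ 0 := Nat.cast_ne_zero.2 Fintype.card_ne_zero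
    rw [stChar_one, stChar_free hF hm hx, stChar_free hF hm hi, ← (unip hF).index_mul_card, card_unip]
    push_cast
    field_simp
  rw [← Finset.add_sum_erase _ _ (Finset.mem_univ (stChar hF)), hst,
    Finset.sum_congr rfl (fun χ hχ => hI2 χ (Finset.ne_of_mem_erase hχ)), ← Finset.mul_sum] at hs
  have hJ : IsIntegral ℤ (∑ χ ∈ Finset.univ.erase (stChar hF), I χ) :=
    IsIntegral.sum _ fun χ hχ => hI1 χ (Finset.ne_of_mem_erase hχ)
  generalize ∑ χ ∈ Finset.univ.erase (stChar hF), I χ = J at hs hJ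
  have hd : 4 ∣ P + (unip hF).index := by
    refine CfsgLib.CharIntegral.dvd_of_isIntegral_div (by norm_num) ?_
    rw [show ((P + (unip hF).index : ℕ) : ℂ) / ((4 : ℕ) : ℂ) = J by push_cast; linear_combination -hs / 4]
    exact hJ
  have hO : (unip hF).index = (Fintype.card F ^ 2 + 1) * (Fintype.card F - 1) := by
    have h0 := (unip hF).index_mul_card
    rw [card_unip, nat_card hF hm] at h0
    exact Nat.eq_of_mul_eq_mul_right (pow_pos Fintype.card_pos 2) (by rw [h0]; ring)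
  obtain ⟨i, hi'⟩ : ∃ i, Fintype.card F = 4 * (i + 1) := ⟨w - 1, by have := @Fintype.card_pos F _ ⟨0⟩; omega⟩
  have hmod : (unip hF).index % 4 = 3 := by
    rw [hO, hi', Nat.mul_mod, show 4 * (i + 1) - 1 = 4 * i + 3 by omega,
      show (4 * (i + 1)) ^ 2 + 1 = 4 * (4 * (i + 1) ^ 2) + 1 by ring, Nat.mul_add_mod, Nat.mul_add_mod]
  omega

include hF in
/-- A cyclic subgroup without fixed points does not give a binary action. -/
theorem not_bin_cyclic (hm : 1 ≤ m) {H : Subgroup (Cfsg.Sz F m)} (hB : Bin H) {x : Cfsg.Sz F m}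
    (hx : Free x) (hxH : x ∈ H) (hle : H ≤ C[x]) : False := by
  classical
  haveI := Fintype.ofFinite (Cfsg.Sz F m)
  have hsx : Semi hF x := ⟨hx.ne_one hF, Or.inl hx⟩
  -- the conjugates of `x` in its torus
  let Q : Finset (Cfsg.Sz F m) := Finset.univ.filter fun b => IsConj x b ∧ b ∈ C[x]
  have hQ4 : Q.card ≤ 4 := by
    have hg : ∀ b : Q, ∃ g : N[x], (g : Cfsg.Sz F m) * x * (g : Cfsg.Sz F m)⁻¹ = b.1 := fun b => by
      obtain ⟨hc, hC⟩ := (Finset.mem_filter.1 b.2).2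
      obtain ⟨g, hg⟩ := isConj_iff.1 hc
      exact ⟨⟨g, mem_normalizer_of_conj hF hm hsx (hg ▸ hC)⟩, hg⟩
    choose g hg using hg
    have hinj : Function.Injective fun b : Q => (g b : N[x] ⧸ C[x].subgroupOf N[x]) := fun b b' h => by
      have h' := QuotientGroup.eq.1 h
      rw [Subgroup.mem_subgroupOf, Subgroup.coe_mul, Subgroup.coe_inv, Subgroup.mem_centralizer_singleton_iff] at h'
      refine Subtype.ext ?_
      rw [← hg b, ← hg b']
      calc (g b : Cfsg.Sz F m) * x * (g b : Cfsg.Sz F m)⁻¹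
          = (g b : Cfsg.Sz F m) * (x * ((g b : Cfsg.Sz F m)⁻¹ * g b')) * (g b' : Cfsg.Sz F m)⁻¹ := by group
        _ = (g b' : Cfsg.Sz F m) * x * (g b' : Cfsg.Sz F m)⁻¹ := by rw [← h']; group
    have h := Nat.card_le_card_of_injective _ hinj
    rw [Nat.card_eq_fintype_card, Fintype.card_coe, ← Subgroup.index_eq_card] at h
    rcases semi_index hF hm hsx with e | e <;> rw [e] at h <;> omega
  have hc2 : ∀ j : ℕ, j * (Nat.card C[x] * Nat.card C[x]) % 4 = j % 4 := fun j => by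
    obtain ⟨i, hi⟩ := semi_odd_card hF hm hsx
    rw [hi, show j * ((2 * i + 1) * (2 * i + 1)) = 4 * (j * (i * i + i)) + j by ring, Nat.mul_add_mod]
  -- every factorisation of a suitable element lies in the torus
  have hall : ∀ h ∈ H, h ≠ 1 → ∀ u v : Cfsg.Sz F m, u * x * u⁻¹ * (v * x * v⁻¹ * h⁻¹) = 1 →
      u * x * u⁻¹ ∈ C[x] ∧ v * x * v⁻¹ ∈ C[x] := by
    intro h hh h1 u v e
    have e' : h = u * x * u⁻¹ * (v * x * v⁻¹) := by
      rw [← mul_assoc, mul_inv_eq_one] at e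
      exact e.symm
    have hor : u * x * u⁻¹ ∈ C[x] ∨ v * x * v⁻¹ ∈ C[x] := by
      by_contra hno
      push Not at hno
      obtain ⟨i, j, hi, hi', hj, hj', hij⟩ := hB.product hh (show u⁻¹ * (u * x * u⁻¹) * u ∈ H by simpa [mul_assoc] using hxH)
        (show v⁻¹ * (v * x * v⁻¹) * v ∈ H by simpa [mul_assoc] using hxH) e'
      have key : ∀ {k g : Cfsg.Sz F m}, g * x * g⁻¹ ∉ C[x] → k ∈ H → g⁻¹ * k * g ∈ H → k = 1 := by
        intro k g hg hk hk'
        by_contra hk1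
        apply hg
        rw [← (semi_eq hF hm hsx (hle hk) hk1).2, Subgroup.mem_centralizer_singleton_iff]
        have hc := Subgroup.mem_centralizer_singleton_iff.1 (hle hk')
        calc g * x * g⁻¹ * k = g * (x * (g⁻¹ * k * g)) * g⁻¹ := by group
          _ = k * (g * x * g⁻¹) := by rw [← hc]; group
      exact h1 (by rw [hij, key hno.1 hi hi', key hno.2 hj hj', mul_one])
    rcases hor with h' | h'
    · exact ⟨h', by
        rw [show v * x * v⁻¹ = (u * x * u⁻¹)⁻¹ * h by rw [e']; group]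
        exact mul_mem (inv_mem h') (hle hh)⟩
    · exact ⟨by
        rw [show u * x * u⁻¹ = h * (v * x * v⁻¹)⁻¹ by rw [e']; group]
        exact mul_mem (hle hh) (inv_mem h'), h'⟩
  -- so their number is known
  have hcount : ∀ h ∈ H, h ≠ 1 → (Q.filter fun b => b⁻¹ * h ∈ Q).card % 4 = 1 := by
    intro h hh h1
    have hfh : Free h := (centralizer_eq hF hm hx (hle hh) h1).1
    rw [← hc2, ← card_pairs_mod_four hF hm hx hfh]
    congr 1
    let I := Q.filter fun b => b⁻¹ * h ∈ Q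
    have hg : ∀ b : I, ∃ u v : Cfsg.Sz F m, u * x * u⁻¹ = b.1 ∧ v * x * v⁻¹ = b.1⁻¹ * h := fun b => by
      obtain ⟨hb, hb'⟩ := Finset.mem_filter.1 b.2
      obtain ⟨u, hu⟩ := isConj_iff.1 (Finset.mem_filter.1 hb).2.1
      obtain ⟨v, hv⟩ := isConj_iff.1 (Finset.mem_filter.1 hb').2.1
      exact ⟨u, v, hu, hv⟩
    choose gu gv hgu hgv using hg
    rw [show (Q.filter fun b => b⁻¹ * h ∈ Q).card = Nat.card I by rw [Nat.card_eq_fintype_card, Fintype.card_coe],
      ← Nat.card_prod, ← Nat.card_prod]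
    have hcent : ∀ {c : Cfsg.Sz F m}, c ∈ C[x] → c * x * c⁻¹ = x := fun hc => by
      rw [Subgroup.mem_centralizer_singleton_iff.1 hc, mul_inv_cancel_right]
    refine Nat.card_eq_of_bijective (fun q : I × (C[x] × C[x]) =>
      (⟨(gu q.1 * q.2.1.1, gv q.1 * q.2.2.1), ?_⟩ : {p : Cfsg.Sz F m × Cfsg.Sz F m //
        p.1 * x * p.1⁻¹ * (p.2 * x * p.2⁻¹ * h⁻¹) = 1})) ⟨?_, ?_⟩
    · show gu q.1 * q.2.1.1 * x * (gu q.1 * q.2.1.1)⁻¹ * (gv q.1 * q.2.2.1 * x * (gv q.1 * q.2.2.1)⁻¹ * h⁻¹) = 1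
      calc _ = gu q.1 * (q.2.1.1 * x * q.2.1.1⁻¹) * (gu q.1)⁻¹ *
            (gv q.1 * (q.2.2.1 * x * q.2.2.1⁻¹) * (gv q.1)⁻¹ * h⁻¹) := by group
        _ = 1 := by rw [hcent q.2.1.2, hcent q.2.2.2, hgu, hgv]; group
    · rintro ⟨b, c, d⟩ ⟨b', c', d'⟩ e
      have e' := congrArg Subtype.val e
      simp only [Prod.mk.injEq] at e'
      have hb : b = b' := Subtype.ext (by
        calc b.1 = gu b * (c.1 * x * c.1⁻¹) * (gu b)⁻¹ := by rw [hcent c.2, hgu]
          _ = (gu b * c.1) * x * (gu b * c.1)⁻¹ := by group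
          _ = (gu b' * c'.1) * x * (gu b' * c'.1)⁻¹ := by rw [e'.1]
          _ = gu b' * (c'.1 * x * c'.1⁻¹) * (gu b')⁻¹ := by group
          _ = b'.1 := by rw [hcent c'.2, hgu])
      subst hb
      exact Prod.ext rfl (Prod.ext (Subtype.ext (mul_left_cancel e'.1)) (Subtype.ext (mul_left_cancel e'.2)))
    · rintro ⟨⟨u, v⟩, e⟩
      obtain ⟨hu, hv⟩ := hall h hh h1 u v e
      have e' : v * x * v⁻¹ = (u * x * u⁻¹)⁻¹ * h := by
        simp only at e
        rw [← mul_assoc, mul_inv_eq_one] at e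
        rw [← e]; group
      have hb : u * x * u⁻¹ ∈ I := Finset.mem_filter.2
        ⟨Finset.mem_filter.2 ⟨Finset.mem_univ _, isConj_iff.2 ⟨u, rfl⟩, hu⟩,
          e' ▸ Finset.mem_filter.2 ⟨Finset.mem_univ _, isConj_iff.2 ⟨v, rfl⟩, hv⟩⟩
      have hback : ∀ {g k : Cfsg.Sz F m}, g * x * g⁻¹ = k * x * k⁻¹ → g⁻¹ * k ∈ C[x] := fun {g k} hgk => by
        rw [Subgroup.mem_centralizer_singleton_iff]
        calc g⁻¹ * k * x = g⁻¹ * (k * x * k⁻¹) * k := by group
          _ = x * (g⁻¹ * k) := by rw [← hgk]; group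
      refine ⟨(⟨_, hb⟩, ⟨_, hback (hgu ⟨_, hb⟩)⟩, ⟨_, hback ((hgv ⟨_, hb⟩).trans e'.symm)⟩), Subtype.ext ?_⟩
      exact Prod.ext (mul_inv_cancel_left _ _) (mul_inv_cancel_left _ _)
  -- a choice of element with an impossible count
  by_cases hsq : ∃ h ∈ H, h ≠ 1 ∧ ∀ b ∈ Q, b * b ≠ h
  · obtain ⟨h, hh, h1, hb⟩ := hsq
    have hodd := hcount h hh h1
    have h0 : ∑ _b ∈ Q.filter (fun b => b⁻¹ * h ∈ Q), (1 : ZMod 2) = 0 := by
      refine Finset.sum_involution (fun b _ => b⁻¹ * h) (fun b _ => by decide) (fun b hb' _ e => ?_) (fun b hb' => ?_)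
        (fun b hb' => ?_)
      · refine hb b (Finset.mem_filter.1 hb').1 ?_
        calc b * b = b * (b⁻¹ * h) := by rw [e]
          _ = h := by group
      · obtain ⟨hbQ, hbQ'⟩ := Finset.mem_filter.1 hb'
        refine Finset.mem_filter.2 ⟨hbQ', ?_⟩
        have hc := semi_commute hF hm hsx (Finset.mem_filter.1 hbQ).2.2 (hle hh)
        rwa [mul_inv_rev, inv_inv, mul_assoc, hc.eq, inv_mul_cancel_left]
      · obtain ⟨hbQ, -⟩ := Finset.mem_filter.1 hb'
        have hc := semi_commute hF hm hsx (Finset.mem_filter.1 hbQ).2.2 (hle hh)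
        show (b⁻¹ * h)⁻¹ * h = b
        rw [mul_inv_rev, inv_inv, mul_assoc, hc.eq, inv_mul_cancel_left]
    rw [Finset.sum_const, nsmul_one, ZMod.natCast_eq_zero_iff_even] at h0
    obtain ⟨t, ht⟩ := h0
    omega
  push Not at hsq
  have hH5 : Nat.card H = 5 := by
    have hsub : ((Finset.univ : Finset (Cfsg.Sz F m)).filter fun h => h ∈ H).erase 1 ⊆ Q.image fun b => b * b :=
      fun h hh => by
        obtain ⟨h1, hh'⟩ := Finset.mem_erase.1 hh
        obtain ⟨b, hb, e⟩ := hsq h (Finset.mem_filter.1 hh').2 h1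
        exact Finset.mem_image.2 ⟨b, hb, e⟩
    have h4 := (Finset.card_le_card hsub).trans (Finset.card_image_le.trans hQ4)
    rw [Finset.card_erase_of_mem (Finset.mem_filter.2 ⟨Finset.mem_univ _, one_mem H⟩), ← Fintype.card_subtype,
      ← Nat.card_eq_fintype_card] at h4
    change Nat.card H - 1 ≤ 4 at h4
    have h2 : Odd (Nat.card H) := Odd.of_dvd_nat (semi_odd_card hF hm hsx) (Subgroup.card_dvd_of_le hle)
    have h3 : Nat.card H ≠ 3 := fun e => not_three_dvd hF hm (e ▸ Subgroup.card_subgroup_dvd_card H)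
    have h1 : 1 < Nat.card H :=
      (Subgroup.one_lt_card_iff_ne_bot H).2 fun e => hsx.1 (Subgroup.mem_bot.1 (e ▸ hxH))
    obtain ⟨j, hj⟩ := h2
    omega
  let S : Finset (Cfsg.Sz F m) := ((Finset.univ : Finset (Cfsg.Sz F m)).filter fun b => b ∈ H).erase 1
  have hS : S.card = 4 := by
    rw [Finset.card_erase_of_mem (Finset.mem_filter.2 ⟨Finset.mem_univ _, one_mem H⟩), ← Fintype.card_subtype,
      ← Nat.card_eq_fintype_card]
    exact (congrArg (· - 1) hH5).trans rfl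
  have hzH : Subgroup.zpowers x ≤ H := Subgroup.zpowers_le.2 hxH
  have hR : (Finset.univ.filter fun b => b ∈ Subgroup.zpowers x ∧ IsConj x b) ⊆ S ∩ Q := fun b hb => by
    obtain ⟨hbz, hbc⟩ := (Finset.mem_filter.1 hb).2
    refine Finset.mem_inter.2 ⟨Finset.mem_erase.2 ⟨fun e => ?_, Finset.mem_filter.2 ⟨Finset.mem_univ _, hzH hbz⟩⟩,
      Finset.mem_filter.2 ⟨Finset.mem_univ _, hbc, hle (hzH hbz)⟩⟩
    rw [e] at hbc
    exact hsx.1 (isConj_one_left.1 hbc)
  have hR4 : 4 ≤ (Finset.univ.filter fun b => b ∈ Subgroup.zpowers x ∧ IsConj x b).card := by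
    rw [← Fintype.card_subtype, ← Nat.card_eq_fintype_card]
    exact four_le_conj hF hm hx
  have hSQ : S = Q := by
    have h1 : S ∩ Q = S := Finset.eq_of_subset_of_card_le Finset.inter_subset_left
      (by rw [hS]; exact hR4.trans (Finset.card_le_card hR))
    exact Finset.eq_of_subset_of_card_le (Finset.inter_eq_left.1 h1) (by rw [hS]; exact hQ4)
  have hthree : (Q.filter fun b => b⁻¹ * x ∈ Q) = Q.erase x := by
    ext b
    rw [Finset.mem_filter, Finset.mem_erase, and_comm, ← hSQ]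
    refine and_congr_left fun hb => ⟨fun h e => ?_, fun h => ?_⟩
    · rw [e, inv_mul_cancel] at h
      exact (Finset.mem_erase.1 h).1 rfl
    · exact Finset.mem_erase.2 ⟨fun e => h (inv_mul_eq_one.1 e), Finset.mem_filter.2 ⟨Finset.mem_univ _,
        mul_mem (inv_mem (Finset.mem_filter.1 (Finset.mem_erase.1 hb).2).2) hxH⟩⟩
  have h := hcount x hxH hsx.1
  rw [hthree, Finset.card_erase_of_mem (show x ∈ Q from Finset.mem_filter.2 ⟨Finset.mem_univ _, IsConj.refl x, self_mem_centralizer x⟩),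
    ← hSQ, hS] at h
  norm_num at h

end CfsgLib.Lie.Suzuki
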