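import Cfsg.Agent.Lib.Lie.Suzuki.Structure

/-!
# The subfield subgroups of a Suzuki group

* `subHom`: the embedding of `Sz(K)` into `Sz(F)` given by an embedding of fields
* `subGroup`: its image
* `exists_fieldHom`, `mem_range_iff`: fields of the right cardinality embed, with unique image
-/

set_option autoImplicit false

namespace CfsgLib.Lie.Suzuki

open scoped Matrix

universe u v

variable {F : Type u} [Field F] [CharP F 2] [Fintype F] {m : ℕ}
  {K : Type v} [Field K] [CharP K 2] [Fintype K] {k : ℕ}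

theorem th_map (hK : Fintype.card K = 2 ^ (2 * k + 1)) (hd : 2 * k + 1 ∣ 2 * m + 1) (f : K →+* F) (x : K) :
    th F m (f x) = f (th K k x) := by
  obtain ⟨j, hj⟩ := hd
  obtain ⟨i, rfl⟩ : Odd j := Nat.Odd.of_mul_right (hj ▸ odd_two_mul_add_one m)
  rw [th_apply, th_apply, ← map_pow]
  congr 1
  have e : m + 1 = (2 * k + 1) * i + (k + 1) := by nlinarith
  rw [e, pow_add, pow_mul, pow_mul, ← hK, FiniteField.pow_card_pow]

theorem map_uM (hK : Fintype.card K = 2 ^ (2 * k + 1)) (hd : 2 * k + 1 ∣ 2 * m + 1) (f : K →+* F) (a b : K) :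
    (uM (th K k) a b).map f = uM (th F m) (f a) (f b) := by
  ext i j
  fin_cases i <;> fin_cases j <;> simp [uM, fQ, th_map hK hd f]

theorem map_tM (hK : Fintype.card K = 2 ^ (2 * k + 1)) (hd : 2 * k + 1 ∣ 2 * m + 1) (f : K →+* F) (t : K) :
    (tM (th K k) t).map f = tM (th F m) (f t) := by
  ext i j
  fin_cases i <;> fin_cases j <;> simp [tM, th_map hK hd f]

theorem map_wM (f : K →+* F) : (wM : Matrix (Fin 4) (Fin 4) K).map f = wM := by
  ext i j
  fin_cases i <;> fin_cases j <;> simp [wM]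

theorem sl_map_mem (hk : 1 ≤ k) (hF : Fintype.card F = 2 ^ (2 * m + 1))
    (hK : Fintype.card K = 2 ^ (2 * k + 1)) (hd : 2 * k + 1 ∣ 2 * m + 1) (f : K →+* F) (g : Cfsg.Sz K k) :
    Matrix.SpecialLinearGroup.map f (g : Matrix.SpecialLinearGroup (Fin 4) K) ∈ Cfsg.Sz F m := by
  have h := eq_top_of_gens hK hk
    (S := (Cfsg.Sz F m).comap ((Matrix.SpecialLinearGroup.map f).comp (Cfsg.Sz K k).subtype))
    (fun a b => by
      show Matrix.SpecialLinearGroup.map f ((uS hK a b : Cfsg.Sz K k) : Matrix.SpecialLinearGroup (Fin 4) K) ∈ Cfsg.Sz F m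
      convert (uS hF (f a) (f b)).2 using 1
      exact Subtype.ext (map_uM hK hd f a b))
    (fun t => by
      show Matrix.SpecialLinearGroup.map f ((tS hK t : Cfsg.Sz K k) : Matrix.SpecialLinearGroup (Fin 4) K) ∈ Cfsg.Sz F m
      convert (tS hF (Units.map (f : K →* F) t)).2 using 1
      exact Subtype.ext (map_tM hK hd f t))
    (by
      show Matrix.SpecialLinearGroup.map f ((wS hK : Cfsg.Sz K k) : Matrix.SpecialLinearGroup (Fin 4) K) ∈ Cfsg.Sz F m
      convert (wS hF).2 using 1
      exact Subtype.ext (map_wM f))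
  have hg : g ∈ (⊤ : Subgroup (Cfsg.Sz K k)) := Subgroup.mem_top g
  rw [← h] at hg
  exact hg

/-- The embedding of the smaller group. -/
def subHom (hk : 1 ≤ k) (hF : Fintype.card F = 2 ^ (2 * m + 1))
    (hK : Fintype.card K = 2 ^ (2 * k + 1)) (hd : 2 * k + 1 ∣ 2 * m + 1) (f : K →+* F) :
    Cfsg.Sz K k →* Cfsg.Sz F m :=
  ((Matrix.SpecialLinearGroup.map f).comp (Cfsg.Sz K k).subtype).codRestrict _ (sl_map_mem hk hF hK hd f)

variable (hk : 1 ≤ k) (hF : Fintype.card F = 2 ^ (2 * m + 1)) (hK : Fintype.card K = 2 ^ (2 * k + 1))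
  (hd : 2 * k + 1 ∣ 2 * m + 1) (f : K →+* F)

theorem subHom_uS (a b : K) : subHom hk hF hK hd f (uS hK a b) = uS hF (f a) (f b) :=
  Subtype.ext (Subtype.ext (map_uM hK hd f a b))

theorem subHom_tS (t : Kˣ) : subHom hk hF hK hd f (tS hK t) = tS hF (Units.map (f : K →* F) t) :=
  Subtype.ext (Subtype.ext (map_tM hK hd f t))

theorem subHom_wS : subHom hk hF hK hd f (wS hK) = wS hF :=
  Subtype.ext (Subtype.ext (map_wM f))

theorem subHom_injective : Function.Injective (subHom hk hF hK hd f) := fun g h e => by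
  have e1 : Matrix.SpecialLinearGroup.map f (g : Matrix.SpecialLinearGroup (Fin 4) K) =
      Matrix.SpecialLinearGroup.map f (h : Matrix.SpecialLinearGroup (Fin 4) K) := congrArg Subtype.val e
  refine Subtype.ext (Matrix.SpecialLinearGroup.ext _ _ fun i j => f.injective ?_)
  exact congrFun (congrFun (congrArg Subtype.val e1) i) j

/-- The subfield subgroup. -/
def subGroup : Subgroup (Cfsg.Sz F m) := (subHom hk hF hK hd f).range

/-- The subfield subgroup is isomorphic to the smaller group. -/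
noncomputable def subEquiv : Cfsg.Sz K k ≃* subGroup hk hF hK hd f :=
  MonoidHom.ofInjective (subHom_injective hk hF hK hd f)

theorem card_subGroup : Nat.card (subGroup hk hF hK hd f) = Nat.card (Cfsg.Sz K k) :=
  (Nat.card_congr (subEquiv hk hF hK hd f).toEquiv).symm

theorem subGroup_le {M : Subgroup (Cfsg.Sz F m)} (hu : ∀ a b : K, uS hF (f a) (f b) ∈ M)
    (ht : ∀ t : Kˣ, tS hF (Units.map (f : K →* F) t) ∈ M) (hw : wS hF ∈ M) : subGroup hk hF hK hd f ≤ M := by
  rintro _ ⟨g, rfl⟩
  have h := eq_top_of_gens hK hk (S := M.comap (subHom hk hF hK hd f))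
    (fun a b => Subgroup.mem_comap.2 (by rw [subHom_uS]; exact hu a b))
    (fun t => Subgroup.mem_comap.2 (by rw [subHom_tS]; exact ht t))
    (Subgroup.mem_comap.2 (by rw [subHom_wS]; exact hw))
  have hg : g ∈ (⊤ : Subgroup (Cfsg.Sz K k)) := Subgroup.mem_top g
  rw [← h] at hg
  exact hg

theorem uS_mem_subGroup (a b : K) : uS hF (f a) (f b) ∈ subGroup hk hF hK hd f :=
  ⟨_, subHom_uS hk hF hK hd f a b⟩

theorem tS_mem_subGroup (t : Kˣ) : tS hF (Units.map (f : K →* F) t) ∈ subGroup hk hF hK hd f :=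
  ⟨_, subHom_tS hk hF hK hd f t⟩

theorem wS_mem_subGroup : wS hF ∈ subGroup hk hF hK hd f :=
  ⟨_, subHom_wS hk hF hK hd f⟩

include hF hK hd in
/-- The smaller field embeds. -/
theorem exists_fieldHom : Nonempty (K →+* F) := by
  haveI : Fact (Nat.Prime 2) := ⟨Nat.prime_two⟩
  let _ : Algebra (ZMod 2) K := ZMod.algebra K 2
  let _ : Algebra (ZMod 2) F := ZMod.algebra F 2
  have e1 : Module.finrank (ZMod 2) K = 2 * k + 1 :=
    Nat.pow_right_injective le_rfl ((FiniteField.pow_finrank_eq_card 2 K).trans hK)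
  have e2 : Module.finrank (ZMod 2) F = 2 * m + 1 :=
    Nat.pow_right_injective le_rfl ((FiniteField.pow_finrank_eq_card 2 F).trans hF)
  obtain ⟨φ⟩ := FiniteField.nonempty_algHom_of_finrank_dvd (F := ZMod 2) (K := K) (L := F) (by rw [e1, e2]; exact hd)
  exact ⟨φ.toRingHom⟩

/-- A finite field has only one subfield of each cardinality. -/
theorem mem_range_iff (L : Subfield F) (hL : Nat.card L = Fintype.card K) (x : F) :
    x ∈ L ↔ ∃ y : K, f y = x := by
  classical
  haveI := Fintype.ofFinite L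
  let U : Finset Fˣ := Finset.univ.filter fun u => u ^ (Fintype.card K - 1) = 1
  have hU : U.card ≤ Fintype.card K - 1 := IsCyclic.card_pow_eq_one_le (by
    have := Fintype.one_lt_card (α := K); omega)
  let A : Finset Fˣ := (Finset.univ : Finset Kˣ).image (Units.map (f : K →* F))
  have hA : A = U := by
    refine Finset.eq_of_subset_of_card_le (fun u hu => ?_) ?_
    · obtain ⟨v, -, rfl⟩ := Finset.mem_image.1 hu
      refine Finset.mem_filter.2 ⟨Finset.mem_univ _, ?_⟩
      rw [← map_pow, ← Fintype.card_units, pow_card_eq_one, map_one]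
    · show U.card ≤ ((Finset.univ : Finset Kˣ).image (Units.map (f : K →* F))).card
      rw [Finset.card_image_of_injective _ (Units.map_injective (f := (f : K →* F)) f.injective), Finset.card_univ,
        Fintype.card_units]
      exact hU
  let B : Finset Fˣ := (Finset.univ : Finset Lˣ).image (Units.map (L.subtype : L →* F))
  have hB : B = U := by
    refine Finset.eq_of_subset_of_card_le (fun u hu => ?_) ?_
    · obtain ⟨v, -, rfl⟩ := Finset.mem_image.1 hu
      refine Finset.mem_filter.2 ⟨Finset.mem_univ _, ?_⟩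
      rw [← map_pow, ← hL, Nat.card_eq_fintype_card, ← Fintype.card_units, pow_card_eq_one, map_one]
    · show U.card ≤ ((Finset.univ : Finset Lˣ).image (Units.map (L.subtype : L →* F))).card
      rw [Finset.card_image_of_injective _ (Units.map_injective (f := (L.subtype : L →* F)) Subtype.val_injective), Finset.card_univ,
        Fintype.card_units, ← Nat.card_eq_fintype_card, hL]
      exact hU
  rcases eq_or_ne x 0 with rfl | hx
  · exact ⟨fun _ => ⟨0, map_zero f⟩, fun _ => zero_mem L⟩
  constructor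
  · intro h
    have : Units.mk0 x hx ∈ A := by
      rw [hA, ← hB]
      exact Finset.mem_image.2 ⟨Units.mk0 ⟨x, h⟩ (fun e => hx (congrArg Subtype.val e)), Finset.mem_univ _, Units.ext rfl⟩
    obtain ⟨v, -, hv⟩ := Finset.mem_image.1 this
    exact ⟨v, congrArg Units.val hv⟩
  · rintro ⟨y, rfl⟩
    have hy : y ≠ 0 := fun e => hx (by rw [e, map_zero])
    have : Units.mk0 (f y) hx ∈ B := by
      rw [hB, ← hA]
      exact Finset.mem_image.2 ⟨Units.mk0 y hy, Finset.mem_univ _, Units.ext rfl⟩
    obtain ⟨v, -, hv⟩ := Finset.mem_image.1 this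
    have hv' : ((v : L) : F) = f y := congrArg Units.val hv
    exact hv' ▸ (v : L).2

end CfsgLib.Lie.Suzuki
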