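import Cfsg.Agent.Lib.Lie.Suzuki.SubgroupCount
import Cfsg.Agent.Lib.Lie.Suzuki.Subfield

/-!
# Non-solvable subgroups of a Suzuki group are subfield subgroups

* `nf_eq_subGroup`, `card_nf`
* `maximal_cases`: the three kinds of proper subgroups
-/

set_option autoImplicit false

namespace CfsgLib.Lie.Suzuki

universe u v

variable {F : Type u} [Field F] [CharP F 2] [Fintype F] {m : ℕ}
  (hF : Fintype.card F = 2 ^ (2 * m + 1))

variable {M : Subgroup (Cfsg.Sz F m)} {L : Subfield F}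

include hF in
theorem card_nf (hm : 1 ≤ m) (hM : NF hF M L) {e : ℕ} (he : 1 ≤ e) (hL : Nat.card L = 2 ^ (2 * e + 1)) :
    Nat.card M = (Nat.card L ^ 2 + 1) * (Nat.card L ^ 2 * (Nat.card L - 1)) := by
  obtain ⟨hfull, hn, -⟩ := nf_orbit hF hm hM he hL
  rw [card_eq_orbit_mul hF, card_stab_inf_sub hF hM, hn]
  congr 2
  rcases card_unip_cases hF hM with h | h
  · exfalso
    -- the whole unipotent group over the subfield is inside
    have h2 : Nat.card L * Nat.card L ≤ Nat.card ↥(M ⊓ unip hF) := by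
      rw [← Nat.card_prod]
      exact Nat.card_le_card_of_injective
        (fun p : L × L => (⟨uS hF p.1 p.2, hfull _ _ p.1.2 p.2.2, _, _, rfl⟩ : ↥(M ⊓ unip hF)))
        fun p p' e => Prod.ext (Subtype.ext (uS_inj hF (congrArg Subtype.val e)).1)
          (Subtype.ext (uS_inj hF (congrArg Subtype.val e)).2)
    rw [h, hL] at h2
    have : 2 ≤ 2 ^ (2 * e + 1) := le_self_pow (by norm_num) (by omega)
    nlinarith
  · exact h

include hF in
theorem wS_mul_tS_some (t : Fˣ) :
    (wS hF * tS hF t) • pt F m (some ((0 : F), (1 : F))) =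
      pt F m (some (th F m (t : F) / (t : F) ^ 2, (0 : F))) := by
  rw [mul_smul, tS_some, mul_zero, mul_one]
  have h := wM_some (θ := th F m) (th_tits hF) (x := 0) (y := th F m (t : F)) (Or.inr (θ_ne_zero t.ne_zero))
  have hf : fQ (th F m) 0 (th F m (t : F)) = (t : F) ^ 2 := by
    simp [fQ]
    exact th_tits hF _
  rw [hf, zero_div] at h
  exact smul_pt (wS hF) h

variable {K : Type v} [Field K] [CharP K 2] [Fintype K] {k : ℕ}

include hF in
/-- A non-solvable subgroup in normal form is the subfield subgroup. -/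
theorem nf_eq_subGroup (hm : 1 ≤ m) (hM : NF hF M L) (hk : 1 ≤ k) (hK : Fintype.card K = 2 ^ (2 * k + 1))
    (hd : 2 * k + 1 ∣ 2 * m + 1) (hL : Nat.card L = 2 ^ (2 * k + 1)) (f : K →+* F) :
    M = subGroup hk hF hK hd f := by
  classical
  obtain ⟨hfull, hn, t, hy⟩ := nf_orbit hF hm hM hk hL
  have hr : ∀ x, x ∈ L ↔ ∃ y, f y = x := mem_range_iff f L (hL.trans hK.symm)
  have hP₀ : pt F m (some ((0 : F), (0 : F))) ∈ Dl M :=
    ⟨_, hy, by rw [mul_smul, tS_none, wS_none]⟩
  have hDl : ∀ p ∈ Dl M, p = pt F m none ∨ ∃ a b, a ∈ L ∧ b ∈ L ∧ p = pt F m (some (a, b)) := by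
    haveI := Fintype.ofFinite L
    let φ : Option (L × L) → Dl M := fun o => Option.elim o ⟨pt F m none, inf_mem_Dl hF⟩
      fun p => ⟨pt F m (some ((p.1 : F), (p.2 : F))), by
        rw [← uS_zero hF]
        exact smul_mem_Dl hF (hfull _ _ p.1.2 p.2.2) hP₀⟩
    have hφ : Function.Injective φ := by
      intro o o' h
      rcases o with _ | ⟨a, b⟩ <;> rcases o' with _ | ⟨a', b'⟩ <;>
        simp only [φ, Option.elim, Subtype.mk.injEq, EmbeddingLike.apply_eq_iff_eq, reduceCtorEq,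
          Option.some.injEq, Prod.mk.injEq] at h
      · rfl
      · exact congrArg some (Prod.ext (Subtype.ext h.1) (Subtype.ext h.2))
    have hbij : Function.Bijective φ := (Nat.bijective_iff_injective_and_card φ).2 ⟨hφ, by
      rw [hn, Finite.card_option, Nat.card_prod, sq]⟩
    intro p hp
    obtain ⟨o, ho⟩ := hbij.2 ⟨p, hp⟩
    rcases o with _ | ⟨a, b⟩
    · exact Or.inl (congrArg Subtype.val ho).symm
    · exact Or.inr ⟨_, _, a.2, b.2, (congrArg Subtype.val ho).symm⟩
  -- the involution lies in the group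
  have htL : (t : F) ∈ L := by
    have h1 : pt F m (some ((0 : F), (1 : F))) ∈ Dl M := by
      rw [← uS_zero hF]
      exact smul_mem_Dl hF (hfull _ _ (zero_mem L) (one_mem L)) hP₀
    rcases hDl _ (wS_mul_tS_some hF t ▸ smul_mem_Dl hF hy h1) with h | ⟨a, b, ha, -, h⟩
    · simp at h
    · simp only [EmbeddingLike.apply_eq_iff_eq, Option.some.injEq, Prod.mk.injEq] at h
      obtain ⟨rfl, -⟩ := h
      have hl := inv_mem ha
      rw [inv_div] at hl
      obtain ⟨t', ht', he⟩ := ratio_mem hF hl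
        (div_ne_zero (pow_ne_zero 2 t.ne_zero) (θ_ne_zero t.ne_zero))
      have htt : t' / t = 1 := by
        by_contra hne
        refine ratio_ne_one hF hne ?_
        have hθ := θ_ne_zero (θ := th F m) t.ne_zero
        rw [Units.val_div_eq_div_val, map_div₀, div_pow, div_div_div_eq,
          div_eq_one_iff_eq (mul_ne_zero (pow_ne_zero 2 t.ne_zero) (θ_ne_zero t'.ne_zero))]
        rw [div_eq_div_iff (θ_ne_zero t'.ne_zero) hθ] at he
        linear_combination he
      rw [← div_eq_one.1 htt]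
      exact ht'
  have hw : wS hF ∈ M := by
    have := mul_mem hy (inv_mem (hM.torus t htL))
    rwa [mul_inv_cancel_right] at this
  have hle : subGroup hk hF hK hd f ≤ M :=
    subGroup_le hk hF hK hd f (fun a b => hfull _ _ ((hr _).2 ⟨a, rfl⟩) ((hr _).2 ⟨b, rfl⟩))
      (fun u => hM.torus _ ((hr _).2 ⟨u, rfl⟩)) hw
  refine le_antisymm (fun x hx => ?_) hle
  have hstab : ∀ y ∈ M, y • pt F m none = pt F m none → y ∈ subGroup hk hF hK hd f := by
    intro y hy hfix
    obtain ⟨a, b, u, ha, hb, hu, rfl⟩ := hM.inf y hy hfix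
    obtain ⟨a', rfl⟩ := (hr a).1 ha
    obtain ⟨b', rfl⟩ := (hr b).1 hb
    obtain ⟨u', hu'⟩ := (hr _).1 hu
    have hu0 : u' ≠ 0 := fun e => u.ne_zero (by rw [← hu', e, map_zero])
    refine mul_mem (uS_mem_subGroup hk hF hK hd f a' b') ?_
    rw [show u = Units.map (f : K →* F) (Units.mk0 u' hu0) from Units.ext hu'.symm]
    exact tS_mem_subGroup hk hF hK hd f _
  rcases hDl _ ⟨x, hx, rfl⟩ with h | ⟨a, b, ha, hb, h⟩
  · exact hstab x hx h
  · obtain ⟨a', rfl⟩ := (hr a).1 ha
    obtain ⟨b', rfl⟩ := (hr b).1 hb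
    have hg : uS hF (f a') (f b') * wS hF ∈ subGroup hk hF hK hd f :=
      mul_mem (uS_mem_subGroup hk hF hK hd f a' b') (wS_mem_subGroup hk hF hK hd f)
    have h' := hstab _ (mul_mem (inv_mem (hle hg)) hx) (by
      rw [mul_smul, h, inv_smul_eq_iff, mul_smul, wS_none, uS_zero])
    have := mul_mem hg h'
    rwa [mul_inv_cancel_left] at this

include hF in
/-- A non-solvable subgroup is conjugate to a subfield subgroup, whatever the model of the subfield. -/
theorem exists_conj_subGroup (hm : 1 ≤ m) {M : Subgroup (Cfsg.Sz F m)} (hns : ¬ Group.IsSolvable M) :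
    ∃ (k : ℕ) (g : Cfsg.Sz F m) (hk : 1 ≤ k) (hd : 2 * k + 1 ∣ 2 * m + 1),
      Nat.card M = ((2 ^ (2 * k + 1)) ^ 2 + 1) * ((2 ^ (2 * k + 1)) ^ 2 * (2 ^ (2 * k + 1) - 1)) ∧
      ∀ (K : Type v) [Field K] [CharP K 2] [Fintype K] (hK : Fintype.card K = 2 ^ (2 * k + 1)) (f : K →+* F),
        M.map (MulAut.conj g).toMonoidHom = subGroup hk hF hK hd f := by
  obtain ⟨g, k, L, hk, hd, hL, hNF⟩ := exists_nf_subgroup hF hm hns
  refine ⟨k, g, hk, hd, ?_, fun K _ _ _ hK f => nf_eq_subGroup hF hm hNF hk hK hd hL f⟩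
  have h := card_nf hF hm hNF hk hL
  rw [Subgroup.card_map_of_injective (MulAut.conj g).injective, hL] at h
  exact h

include hF in
theorem not_isSolvable_group (hm : 1 ≤ m) : ¬ Group.IsSolvable (Cfsg.Sz F m) := fun h => by
  haveI := isSimple hF hm
  have hc := IsSimpleGroup.comm_iff_isSolvable.2 h
  have h1 := perfect hF hm
  have h2 : commutator (Cfsg.Sz F m) = ⊥ := by
    rw [commutator_def, Subgroup.commutator_eq_bot_iff_le_centralizer]
    exact fun x _ => Subgroup.mem_centralizer_iff.2 fun y _ => hc y x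
  exact top_ne_bot (h1.symm.trans h2)

open scoped Pointwise in
include hF in
/-- The proper subgroups. -/
theorem maximal_cases (hm : 1 ≤ m) (M : Subgroup (Cfsg.Sz F m)) (hM : M ≠ ⊤) :
    (∃ P : Sylow 2 (Cfsg.Sz F m), M ≤ Subgroup.normalizer ((P : Subgroup (Cfsg.Sz F m)) : Set (Cfsg.Sz F m))) ∨
    (∃ U : Subgroup (Cfsg.Sz F m), IsCyclic U ∧
      Nat.card U ∈ ({2 ^ (2 * m + 1) - 1, 2 ^ (2 * m + 1) + 2 ^ (m + 1) + 1, 2 ^ (2 * m + 1) - 2 ^ (m + 1) + 1} : Set ℕ) ∧
      M ≤ Subgroup.normalizer (U : Set (Cfsg.Sz F m))) ∨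
    ∃ (K : Type) (_ : Field K) (_ : Fintype K) (k : ℕ), 1 ≤ k ∧ k < m ∧ Fintype.card K = 2 ^ (2 * k + 1) ∧
      2 * k + 1 ∣ 2 * m + 1 ∧ Nonempty (M ≃* Cfsg.Sz K k) := by
  classical
  by_cases hs : Group.IsSolvable M
  · rcases solvable_cases hF hm M hs with ⟨p, hp⟩ | ⟨a, ha, hle⟩
    · refine Or.inl ?_
      haveI := Fact.mk Nat.prime_two
      haveI := pretransitive (F := F) (m := m) hF
      obtain ⟨g, rfl⟩ := MulAction.exists_smul_eq (Cfsg.Sz F m) (pt F m none) p
      refine ⟨g • sylU hF hm, fun y hy => ?_⟩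
      have hb : g⁻¹ * y * g ∈ Subgroup.normalizer (unip hF : Set (Cfsg.Sz F m)) := by
        rw [normalizer_unip hF hm]
        show (g⁻¹ * y * g) • pt F m none = pt F m none
        rw [mul_smul, mul_smul, hp y hy, inv_smul_smul]
      rw [Sylow.coe_subgroup_smul, show (MulAut.conj g • (sylU hF hm : Subgroup (Cfsg.Sz F m))) =
        (unip hF).map (MulAut.conj g).toMonoidHom from rfl,
        ← Subgroup.map_equiv_normalizer_eq (unip hF) (MulAut.conj g)]
      exact mem_map_conj.2 hb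
    · refine Or.inr (Or.inl ⟨Subgroup.centralizer {a}, semi_cyclic hF hm ha, ?_, hle⟩)
      rcases ha.2 with h | ⟨h, hh⟩
      · rcases free_card_cases hF hm h with e | e <;> rw [e] <;> simp
      · rw [centralizer_eq_cj_tSub hF hm hh ha.1, card_cj, card_tSub, hF]
        simp
  · refine Or.inr (Or.inr ?_)
    obtain ⟨k, g, hk, hd, hcard, hall⟩ := exists_conj_subGroup.{u, 0} hF hm hs
    haveI := Fact.mk Nat.prime_two
    haveI := Fintype.ofFinite (GaloisField 2 (2 * k + 1))
    have hK : Fintype.card (GaloisField 2 (2 * k + 1)) = 2 ^ (2 * k + 1) := by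
      rw [← Nat.card_eq_fintype_card]
      exact GaloisField.card 2 _ (by omega)
    obtain ⟨f⟩ := exists_fieldHom (K := GaloisField 2 (2 * k + 1)) (k := k) hF hK hd
    refine ⟨GaloisField 2 (2 * k + 1), inferInstance, inferInstance, k, hk, ?_, hK, hd,
      ⟨(M.equivMapOfInjective _ (MulAut.conj g).injective).trans
        ((MulEquiv.subgroupCongr (hall _ hK f)).trans (subEquiv hk hF hK hd f).symm)⟩⟩
    have hle : 2 * k + 1 ≤ 2 * m + 1 := Nat.le_of_dvd (by omega) hd
    by_contra hlt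
    obtain rfl : k = m := by omega
    refine hM (Subgroup.eq_top_of_card_eq _ ?_)
    rw [hcard, nat_card hF hm, hF]
    ring

include hF in
/-- Subgroups isomorphic to a smaller Suzuki group are conjugate. -/
theorem exists_conj_of_equiv (hm : 1 ≤ m) (hk : 1 ≤ k) (hK : Fintype.card K = 2 ^ (2 * k + 1))
    (hd : 2 * k + 1 ∣ 2 * m + 1) (f : K →+* F) {S : Subgroup (Cfsg.Sz F m)} (e : S ≃* Cfsg.Sz K k) :
    ∃ g : Cfsg.Sz F m, S.map (MulAut.conj g).toMonoidHom = subGroup hk hF hK hd f := by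
  obtain ⟨k', g, hk', hd', hcard, hall⟩ := exists_conj_subGroup.{u, v} hF hm (M := S) fun h =>
    not_isSolvable_group hK hk (Group.isSolvable_of_isSolvable_injective (f := e.symm.toMonoidHom) e.symm.injective)
  rw [Nat.card_congr e.toEquiv, nat_card hK hk, hK] at hcard
  obtain rfl : k' = k := by
    have key : ∀ {a b : ℕ}, a < b → (((2 : ℕ) ^ (2 * a + 1)) ^ 2 + 1) * ((2 ^ (2 * a + 1)) ^ 2 * (2 ^ (2 * a + 1) - 1)) <
        ((2 ^ (2 * b + 1)) ^ 2 + 1) * ((2 ^ (2 * b + 1)) ^ 2 * (2 ^ (2 * b + 1) - 1)) := fun {a b} hab => by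
      have h1 : (2 : ℕ) ^ (2 * a + 1) < 2 ^ (2 * b + 1) := Nat.pow_lt_pow_right (by norm_num) (by omega)
      have h2 : 2 ≤ (2 : ℕ) ^ (2 * a + 1) := le_self_pow (by norm_num) (by omega)
      exact Nat.mul_lt_mul_of_lt_of_lt (by gcongr) (Nat.mul_lt_mul_of_lt_of_lt (by gcongr) (by omega))
    rcases lt_trichotomy k' k with h | h | h
    · have := key h
      rw [← hcard] at this
      exact absurd (this.trans_eq (by ring)) (lt_irrefl _)
    · exact h
    · have := key h
      rw [← hcard] at this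
      exact absurd ((show _ = _ by ring).trans_lt this) (lt_irrefl _)
  exact ⟨g, hall K hK f⟩

end CfsgLib.Lie.Suzuki
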