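import Cfsg.Agent.Lib.Lie.Suzuki.BinaryCenter
import Cfsg.Agent.Lib.Lie.Suzuki.BinaryCyclic
import Cfsg.Agent.Lib.Lie.Suzuki.SubgroupClass

/-!
# The binary coset actions of a Suzuki group

* `bin_iff`: the stabiliser is trivial or the centre of a Sylow 2-subgroup
-/

set_option autoImplicit false

namespace CfsgLib.Lie.Suzuki

local notation "C[" g "]" => Subgroup.centralizer ({g} : Set (Cfsg.Sz _ _))
local notation "N[" g "]" => Subgroup.normalizer
  (SetLike.coe (Subgroup.centralizer ({g} : Set (Cfsg.Sz _ _))))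

variable {F : Type*} [Field F] [CharP F 2] [Fintype F] {m : ℕ}
  (hF : Fintype.card F = 2 ^ (2 * m + 1))

theorem bin_conj {G : Type*} [Group G] {H : Subgroup G} (hB : Bin H) (g : G) :
    Bin (H.map (MulAut.conj g).toMonoidHom) :=
  bin_map (MulAut.conj g) hB

include hF in
/-- Non-solvable subgroups. -/
theorem isSolvable_of_bin (hm : 1 ≤ m) {H : Subgroup (Cfsg.Sz F m)} (hB : Bin H) (hne : H ≠ ⊤) :
    Group.IsSolvable H := by
  classical
  by_contra hns
  obtain ⟨g, k, L, hk, hd, hL, hNF⟩ := exists_nf_subgroup hF hm hns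
  have hBM := bin_conj hB g
  obtain ⟨lam, hlam⟩ : ∃ lam : F, lam ∉ L := by
    by_contra hall
    push Not at hall
    have e : Nat.card L = Fintype.card F := by
      rw [← Nat.card_eq_fintype_card]
      exact Nat.card_congr (Equiv.subtypeUnivEquiv hall)
    refine hne (Subgroup.eq_top_of_card_eq _ ?_)
    have h := card_nf hF hm hNF hk hL
    rw [Subgroup.card_map_of_injective (MulAut.conj g).injective, e] at h
    rw [h, nat_card hF hm]
    ring
  haveI := Fintype.ofFinite L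
  have h8 : 8 ≤ Nat.card L := by
    rw [hL]
    exact (show (2 : ℕ) ^ 3 = 8 by norm_num).symm.le.trans (Nat.pow_le_pow_right (by norm_num) (by omega))
  obtain ⟨τ, -, hτ⟩ := Finset.exists_mem_notMem_of_card_lt_card (s := ({0, 1} : Finset L)) (t := Finset.univ)
    (lt_of_le_of_lt Finset.card_le_two (by rw [Finset.card_univ, ← Nat.card_eq_fintype_card]; omega))
  simp only [Finset.mem_insert, Finset.mem_singleton, not_or] at hτ
  obtain ⟨hτ0, hτ1⟩ := hτ
  have ht0 : (τ : F) ≠ 0 := fun e => hτ0 (Subtype.ext e)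
  let t : Fˣ := Units.mk0 (τ : F) ht0
  have hl0 : th F m (τ : F) ≠ 0 := θ_ne_zero ht0
  have hl1 : 1 + th F m (τ : F) ≠ 0 := fun e => hτ1 (Subtype.ext ((th F m).injective (by
    rw [OneMemClass.coe_one, map_one]
    exact (CharTwo.add_eq_zero.1 e).symm)))
  obtain ⟨t', ht'⟩ := th_unit_surjective (m := m) ((1 + th F m (τ : F)) / th F m (τ : F) ^ 2)
    (div_ne_zero hl1 (pow_ne_zero 2 hl0))
  have ht'L : (t' : F) ∈ L := th_surj hF (by
    rw [ht']
    exact div_mem (add_mem (one_mem L) (th_mem hF τ.2)) (pow_mem (th_mem hF τ.2) 2))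
  obtain ⟨b, hb⟩ : ∃ b, b = uS hF 0 lam * tS hF t := ⟨_, rfl⟩
  have hmove : ∀ (s : Fˣ) (y : F), tS hF s * uS hF 0 y = uS hF 0 (th F m (s : F) * y) * tS hF s := fun s y => by
    have h := conj_uS hF s 0 y
    rw [mul_zero, mul_inv_eq_iff_eq_mul] at h
    exact h
  have key : b * b * tS hF t' * b = tS hF (t * t * t' * t) := by
    rw [hb]
    simp only [← mul_assoc]
    rw [mul_assoc (uS hF 0 lam) (tS hF t) (uS hF 0 lam), hmove, ← mul_assoc, uS_mul, map_zero, zero_mul, add_zero, add_zero]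
    simp only [mul_assoc, ← map_mul]
    rw [← mul_assoc (tS hF (t * (t * t'))) (uS hF 0 lam), hmove, ← mul_assoc, ← mul_assoc, uS_mul, mul_assoc, ← map_mul,
      map_zero, zero_mul, add_zero, add_zero]
    rw [show lam + th F m (t : F) * lam + th F m ((t * (t * t') : Fˣ) : F) * lam = (0 : F) by
      rw [Units.val_mul, Units.val_mul, Units.val_mk0, map_mul, map_mul, ht']
      have h2 : (2 : F) = 0 := CharTwo.two_eq_zero
      field_simp
      grind, uS_one, one_mul]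
    simp only [mul_assoc]
  have hmem : b ∈ H.map (MulAut.conj g).toMonoidHom := hBM.triangle (not_three_dvd hF hm)
    (hNF.torus t' ht'L) (by
      rw [key]
      exact hNF.torus _ (by
        rw [Units.val_mul, Units.val_mul, Units.val_mul, Units.val_mk0]
        exact mul_mem (mul_mem (mul_mem τ.2 τ.2) ht'L) τ.2))
  refine hlam ((hNF.center lam).1 ?_)
  have := mul_mem hmem (inv_mem (hNF.torus t τ.2))
  rwa [hb, mul_inv_cancel_right] at this

include hF in
/-- The element of order five of the subgroup over the field with two elements. -/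
theorem f20_data :
    (wS hF * uS hF (0 : F) 1) ^ 5 = 1 ∧
      uS hF (1 : F) 1 * (wS hF * uS hF (0 : F) 1) = (wS hF * uS hF (0 : F) 1) ^ 3 * uS hF 1 1 := by
  have e' : ∀ (f : ZMod 2 →+* F) (a b : ZMod 2), uM (th F m) (f a) (f b) = (uM (RingHom.id (ZMod 2)) a b).map f :=
    fun f a b => by
      have hth : ∀ c : ZMod 2, th F m (f c) = f c := fun c => by
        rw [← ZMod.natCast_zmod_val c, map_natCast, map_natCast]
      ext i j
      have hsq : ∀ c : ZMod 2, c ^ 2 = c := by decide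
      fin_cases i <;> fin_cases j <;> simp [uM, fQ, hth, ← map_pow, hsq]
  have e := e' (ZMod.castHom (dvd_refl 2) F)
  have ew : (wM : Matrix (Fin 4) (Fin 4) F) = (wM : Matrix (Fin 4) (Fin 4) (ZMod 2)).map (ZMod.castHom (dvd_refl 2) F) := by
    ext i j
    fin_cases i <;> fin_cases j <;> simp [wM]
  have e01 := e 0 1
  have e11 := e 1 1
  rw [map_zero, map_one] at e01
  rw [map_one] at e11
  let φ : Matrix (Fin 4) (Fin 4) (ZMod 2) →+* Matrix (Fin 4) (Fin 4) F := (ZMod.castHom (dvd_refl 2) F).mapMatrix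
  constructor
  · refine Subtype.ext (Subtype.ext ?_)
    show ((wM : Matrix (Fin 4) (Fin 4) F) * uM (th F m) 0 1) ^ 5 = 1
    rw [e01, ew]
    show (φ wM * φ (uM (RingHom.id (ZMod 2)) 0 1)) ^ 5 = 1
    rw [← map_mul, ← map_pow, show ((wM : Matrix (Fin 4) (Fin 4) (ZMod 2)) * uM (RingHom.id (ZMod 2)) 0 1) ^ 5 = 1 by decide,
      map_one]
  · refine Subtype.ext (Subtype.ext ?_)
    show uM (th F m) 1 1 * ((wM : Matrix (Fin 4) (Fin 4) F) * uM (th F m) 0 1) =
      ((wM : Matrix (Fin 4) (Fin 4) F) * uM (th F m) 0 1) ^ 3 * uM (th F m) 1 1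
    rw [e01, e11, ew]
    show φ (uM (RingHom.id (ZMod 2)) 1 1) * (φ wM * φ (uM (RingHom.id (ZMod 2)) 0 1)) =
      (φ wM * φ (uM (RingHom.id (ZMod 2)) 0 1)) ^ 3 * φ (uM (RingHom.id (ZMod 2)) 1 1)
    rw [← map_mul, ← map_mul, ← map_pow, ← map_mul]
    exact congrArg φ (by decide)

include hF in
/-- Subgroups with an element of order four. -/
theorem sq_eq_one_of_bin (hm : 1 ≤ m) {H : Subgroup (Cfsg.Sz F m)} (hB : Bin H) (hs : Group.IsSolvable H)
    {y : Cfsg.Sz F m} (hy : y ∈ H) (h4 : y ^ 4 = 1) : y ^ 2 = 1 := by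
  classical
  by_contra h2
  obtain ⟨a, b, hab⟩ := exists_conj_uS hF hm h4
  obtain ⟨k, hk⟩ := isConj_iff.1 hab
  have ha : a ≠ 0 := fun e => h2 (by
    have h : (k * y * k⁻¹) ^ 2 = 1 := by rw [hk, uS_sq, e]; simp [uS_one]
    rw [conj_pow] at h
    exact conj_eq_one_iff.1 h)
  obtain ⟨k', hk'⟩ : ∃ k', k' * y * k'⁻¹ = uS hF 1 1 ∨ k' * y * k'⁻¹ = (uS hF 1 1)⁻¹ := by
    rcases conj_four hF ha (one_ne_zero (α := F)) b 1 with h | h <;> obtain ⟨g, hg⟩ := isConj_iff.1 h
    · exact ⟨g * k, Or.inl (by rw [← hg, ← hk]; group)⟩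
    · exact ⟨g * k, Or.inr (by rw [← hg, ← hk]; group)⟩
  set H' := H.map (MulAut.conj k').toMonoidHom with hH'
  have hyH : uS hF (1 : F) 1 ∈ H' := by
    have : k' * y * k'⁻¹ ∈ H' := ⟨y, hy, by simp [MulAut.conj_apply]⟩
    rcases hk' with e | e <;> rw [e] at this
    · exact this
    · exact inv_mem_iff.1 this
  haveI := hs
  haveI : Group.IsSolvable H' := Group.isSolvable_of_surjective
    (f := (H.equivMapOfInjective (MulAut.conj k').toMonoidHom (MulAut.conj k').injective).toMonoidHom)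
    (H.equivMapOfInjective (MulAut.conj k').toMonoidHom (MulAut.conj k').injective).surjective
  obtain ⟨h5, hyr⟩ := f20_data hF
  obtain ⟨r, hr⟩ : ∃ r, r = wS hF * uS hF (0 : F) 1 := ⟨_, rfl⟩
  rw [← hr] at h5 hyr
  have hrinf : r • pt F m none = pt F m (some ((0 : F), (0 : F))) := by rw [hr, mul_smul, uS_none, wS_none]
  have hr1 : r ≠ 1 := fun e => by rw [e, one_smul] at hrinf; simp at hrinf
  have hr4 : r ^ 4 ≠ 1 := fun e => hr1 (by
    have h := h5
    rwa [pow_succ, e, one_mul] at h)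
  have hBH' : Bin H' := bin_conj hB k'
  have hrH : r ∈ H' := hBH'.triangle (not_three_dvd hF hm) hyH (by
    rw [mul_assoc (r * r), hyr, ← mul_assoc, ← sq, ← pow_add, h5, one_mul]
    exact hyH)
  -- a central conjugate
  obtain ⟨lam, hlam⟩ := exists_notMem hF hm {0, 1} (Finset.card_le_two.trans (by norm_num))
  simp only [Finset.mem_insert, Finset.mem_singleton, not_or] at hlam
  obtain ⟨z, hz⟩ : ∃ z, z = uS hF 0 lam := ⟨_, rfl⟩
  have hzy : z * uS hF 1 1 = uS hF 1 1 * z := by rw [hz]; exact uS_comm_zero hF 1 1 lam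
  have hyz : uS hF 1 1 * z⁻¹ = z⁻¹ * uS hF 1 1 := by
    rw [eq_inv_mul_iff_mul_eq, ← mul_assoc, hzy, mul_inv_cancel_right]
  have hr'H : z * r * z⁻¹ ∈ H' := hBH'.triangle (not_three_dvd hF hm) hyH (by
    have e : z * r * z⁻¹ * (z * r * z⁻¹) * uS hF 1 1 * (z * r * z⁻¹) =
        z * (r * r * (uS hF 1 1 * r)) * z⁻¹ := by
      calc _ = z * r * r * (z⁻¹ * uS hF 1 1) * z * r * z⁻¹ := by group
        _ = z * r * r * (uS hF 1 1 * z⁻¹) * z * r * z⁻¹ := by rw [hyz]
        _ = _ := by group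
    rw [e, hyr, ← mul_assoc (r * r), ← sq, ← pow_add, h5, one_mul, hzy, mul_inv_cancel_right]
    exact hyH)
  have hsr : Semi hF r := (semi_iff hF hm).2 hr4
  rcases solvable_cases hF hm H' inferInstance with ⟨p, hp⟩ | ⟨c, hc, hle⟩
  · have hp' : p = pt F m none := uSub_unique_fix hF (g := uS hF 1 1) ⟨_, _, rfl⟩
      (fun e => one_ne_zero (uS_inj hF (e.trans (uS_one hF).symm)).1) (hp _ hyH)
    have := hp _ hrH
    rw [hp', hrinf] at this
    simp at this
  have hsr' : Semi hF (z * r * z⁻¹) := semi_conj hF hm hsr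
  have h1 := semi_mem_of_normalizer hF hm hc hsr (hle hrH)
  have h2' := semi_mem_of_normalizer hF hm hc hsr' (hle hr'H)
  rw [← (semi_eq hF hm hc h1 hsr.1).2] at h2'
  have hz2 : z ^ 2 = 1 := by rw [hz, uS_sq]; simp [uS_one]
  have hz1 : z ≠ 1 := fun e => hlam.1 (uS_inj hF ((hz.symm.trans e).trans (uS_one hF).symm)).2
  have hzi := involution_inverts hF hm hsr hz2 hz1 (mem_normalizer_of_conj hF hm hsr h2')
  have hy3 : uS hF 1 1 * r * (uS hF 1 1)⁻¹ = r ^ 3 := by rw [hyr, mul_inv_cancel_right]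
  have hy2 : uS hF (0 : F) 1 * r * (uS hF (0 : F) 1)⁻¹ = r⁻¹ := by
    have e : uS hF (0 : F) 1 = uS hF 1 1 * uS hF 1 1 := by
      rw [← sq, uS_sq, map_one, mul_one]
    calc uS hF (0 : F) 1 * r * (uS hF (0 : F) 1)⁻¹
        = uS hF 1 1 * (uS hF 1 1 * r * (uS hF 1 1)⁻¹) * (uS hF 1 1)⁻¹ := by rw [e]; group
      _ = uS hF 1 1 * r ^ 3 * (uS hF 1 1)⁻¹ := by rw [hy3]
      _ = (uS hF 1 1 * r * (uS hF 1 1)⁻¹) ^ 3 := conj_pow.symm
      _ = r ^ 5 * r ^ 4 := by rw [hy3, ← pow_mul, ← pow_add]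
      _ = r⁻¹ := by rw [h5, one_mul]; exact eq_inv_of_mul_eq_one_left (by rw [← pow_succ, h5])
  have hcomm : z * uS hF 0 1 ∈ C[r] := by
    rw [Subgroup.mem_centralizer_singleton_iff, ← mul_inv_eq_iff_eq_mul]
    calc z * uS hF 0 1 * r * (z * uS hF 0 1)⁻¹ = z * (uS hF 0 1 * r * (uS hF 0 1)⁻¹) * z⁻¹ := by group
      _ = r := by rw [hy2, ← conj_inv, hzi, inv_inv]
  rw [hz, uS_mul, map_zero, zero_mul, add_zero, add_zero] at hcomm
  have hne : lam + 1 ≠ 0 := fun e => hlam.2 (CharTwo.add_eq_zero.1 e)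
  have ho : orderOf (uS hF 0 (lam + 1)) = 2 := orderOf_eq_prime (by rw [uS_sq]; simp [uS_one])
    fun e => hne (uS_inj hF (e.trans (uS_one hF).symm)).2
  have h2o : 2 ∣ Nat.card C[r] := ho ▸ Subgroup.orderOf_dvd_natCard _ hcomm
  exact Nat.not_even_iff_odd.2 (semi_odd_card hF hm hsr) (even_iff_two_dvd.2 h2o)

include hF in
/-- Subgroups fixing the point at infinity. -/
theorem le_zSub_of_bin (hm : 1 ≤ m) {H : Subgroup (Cfsg.Sz F m)} (hB : Bin H)
    (h4 : ∀ y ∈ H, y ^ 4 = 1 → y ^ 2 = 1) (hfix : ∀ y ∈ H, y • pt F m none = pt F m none) : H ≤ zSub hF := by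
  classical
  have hzero : ∀ {a b : F}, uS hF a b ∈ H → a = 0 := fun {a b} h => by
    have h2 := h4 _ h (uS_pow_four hF a b)
    rw [uS_sq] at h2
    rcases mul_eq_zero.1 (uS_inj hF (h2.trans (uS_one hF).symm)).2 with e | e
    · exact (map_eq_zero (th F m)).1 e
    · exact e
  intro x hx
  obtain ⟨a, b, t, rfl⟩ := stab_inf hF hm (hfix _ hx)
  by_cases ht : t = 1
  · rw [ht, map_one, mul_one] at hx ⊢
    exact ⟨b, by rw [hzero hx]⟩
  exfalso
  obtain ⟨c, d, hcd⟩ := exists_conj_tS hF a b ht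
  set H' := H.map (MulAut.conj (uS hF c d)⁻¹).toMonoidHom with hH'
  have hmem : ∀ {y}, y ∈ H' ↔ uS hF c d * y * (uS hF c d)⁻¹ ∈ H := fun {y} => by
    rw [hH', mem_map_conj, inv_inv]
  have htH : tS hF t ∈ H' := hmem.2 (by rw [hcd]; exact hx)
  have hzero' : ∀ {a b : F}, uS hF a b ∈ H' → a = 0 := fun {a b} h => by
    have h' := hmem.1 h
    rw [conj_uS_uS] at h'
    exact hzero h'
  have hκ := ratio_ne_one hF ht
  have hsemi : ∀ {a b : F} {s : Fˣ}, uS hF a b * tS hF s ∈ H' → a = 0 := fun {a b s} h => by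
    have h' := mul_mem (mul_mem (mul_mem h htH) (inv_mem h)) (inv_mem htH)
    rw [show uS hF a b * tS hF s * tS hF t * (uS hF a b * tS hF s)⁻¹ * (tS hF t)⁻¹ =
      uS hF a b * (tS hF s * tS hF t * (tS hF s)⁻¹ * (uS hF a b)⁻¹ * (tS hF t)⁻¹) by group,
      show tS hF s * tS hF t * (tS hF s)⁻¹ = tS hF t by
        rw [← map_mul, mul_comm s t, map_mul, mul_inv_cancel_right],
      uS_inv, conj_uS, uS_mul] at h'
    have e := hzero' h'
    have e' : ((t : F) ^ 2 / th F m t + 1) * a = 0 := by linear_combination e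
    exact (mul_eq_zero.1 e').resolve_left fun e0 => hκ (CharTwo.add_eq_zero.1 e0)
  -- two conjugates of the torus element in the Borel subgroup
  obtain ⟨c₁, d₁, h₁⟩ := exists_conj_tS hF (1 : F) 0 ht
  obtain ⟨A, B', hAB⟩ : ∃ A B', A ≠ 0 ∧ (tS hF t)⁻¹ * (uS hF 1 0)⁻¹ * tS hF t = uS hF A B' := by
    have h := conj_uS hF t⁻¹ (1 : F) (0 + th F m (1 : F) * 1)
    rw [map_inv, inv_inv] at h
    refine ⟨_, _, ?_, by rw [uS_inv]; exact h⟩
    rw [mul_one, Units.val_inv_eq_inv_val, map_inv₀]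
    exact div_ne_zero (pow_ne_zero 2 (inv_ne_zero t.ne_zero)) (inv_ne_zero (θ_ne_zero t.ne_zero))
  obtain ⟨c₂, d₂, h₂⟩ := exists_conj_tS hF A B' ht
  have hc0 : ∀ {a b c d : F}, a ≠ 0 → uS hF c d * tS hF t * (uS hF c d)⁻¹ = uS hF a b * tS hF t → c ≠ 0 := by
    intro a b c d ha e hc
    subst hc
    rw [mul_assoc, uS_inv, show tS hF t * uS hF 0 (d + th F m 0 * 0) =
      tS hF t * uS hF 0 (d + th F m 0 * 0) * (tS hF t)⁻¹ * tS hF t by group, conj_uS, ← mul_assoc, uS_mul] at e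
    have := (uS_tS_inj hF e).1
    simp at this
    exact ha this.symm
  have hB' : Bin H' := bin_conj hB _
  obtain ⟨i, j, hi, hi', hj, hj', hij⟩ := hB'.product (h := tS hF (t * t)) (x := uS hF c₁ d₁) (y := uS hF c₂ d₂)
    (b := uS hF c₁ d₁ * tS hF t * (uS hF c₁ d₁)⁻¹) (c := uS hF c₂ d₂ * tS hF t * (uS hF c₂ d₂)⁻¹)
    (by rw [map_mul]; exact mul_mem htH htH) (by simpa [mul_assoc] using htH) (by simpa [mul_assoc] using htH)
    (by rw [h₁, h₂, ← hAB.2, map_mul]; group)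
  have hfix' : ∀ {y}, y ∈ H' → y • pt F m none = pt F m none := fun hy => by
    have h := hfix _ (hmem.1 hy)
    have hu : (uS hF c d)⁻¹ • pt F m none = pt F m none := by rw [inv_smul_eq_iff, uS_none]
    rwa [mul_smul, mul_smul, hu, ← eq_inv_smul_iff, hu] at h
  have hunip : ∀ {y : Cfsg.Sz F m} {a b : F}, a ≠ 0 → y ∈ H' → (uS hF a b)⁻¹ * y * uS hF a b ∈ H' →
      ∃ v, y = uS hF 0 v := by
    intro y a b ha hy hy'
    obtain ⟨a', b', s, rfl⟩ := stab_inf hF hm (hfix' hy)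
    have ha' := hsemi hy
    subst ha'
    by_cases hs : s = 1
    · exact ⟨b', by rw [hs, map_one, mul_one]⟩
    exfalso
    rw [show (uS hF a b)⁻¹ * (uS hF 0 b' * tS hF s) * uS hF a b =
      (uS hF a b)⁻¹ * uS hF 0 b' * (tS hF s * uS hF a b * (tS hF s)⁻¹) * tS hF s by group, conj_uS, uS_inv, uS_mul,
      uS_mul] at hy'
    have e := hsemi hy'
    have e' : (1 + (s : F) ^ 2 / th F m s) * a = 0 := by linear_combination e
    exact ha ((mul_eq_zero.1 e').resolve_left fun e0 => ratio_ne_one hF hs (CharTwo.add_eq_zero.1 e0).symm)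
  obtain ⟨v, rfl⟩ := hunip (hc0 one_ne_zero h₁) hi hi'
  obtain ⟨w, rfl⟩ := hunip (hc0 hAB.1 h₂) hj hj'
  rw [uS_mul] at hij
  have := (uS_tS_inj hF (a := 0) (b := 0) (t := t * t) (a' := 0 + 0) (b' := v + w + th F m 0 * 0) (t' := 1)
    (by rw [uS_one, one_mul, map_one, mul_one]; exact hij)).2.2
  have e : (t : F) ^ 2 = 1 ^ 2 := by rw [one_pow, sq, ← Units.val_mul, this, Units.val_one]
  exact ht (Units.ext (frobenius_inj F 2 (by rw [frobenius_def, frobenius_def, e, Units.val_one])))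

include hF in
/-- Subgroups normalising a torus. -/
theorem fix_of_bin (hm : 1 ≤ m) {H : Subgroup (Cfsg.Sz F m)} (hB : Bin H) (hs : Group.IsSolvable H)
    (h4 : ∀ y ∈ H, y ^ 4 = 1 → y ^ 2 = 1) : ∃ p : Cfsg.suzukiOvoid F m, ∀ y ∈ H, y • p = p := by
  classical
  haveI := Fact.mk Nat.prime_two
  by_contra hno
  obtain ⟨a, ha, hle⟩ := (solvable_cases hF hm H hs).resolve_left hno
  by_cases hall : ∀ y ∈ H, y ^ 4 = 1
  · -- a 2-group
    obtain ⟨P, hP⟩ := IsPGroup.exists_le_sylow (G := Cfsg.Sz F m) (p := 2) (P := H)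
      (fun y => ⟨2, Subtype.ext (hall _ y.2)⟩)
    obtain ⟨k, hk⟩ := exists_conj_sylow hF hm P
    refine hno ⟨k • pt F m none, fun y hy => ?_⟩
    obtain ⟨u, ⟨c, d, rfl⟩, rfl⟩ := Subgroup.mem_map.1 (hk ▸ hP hy)
    exact conj_fix (uS_none hF c d)
  push Not at hall
  obtain ⟨x, hxH, hx4⟩ := hall
  have hsx : Semi hF x := (semi_iff hF hm).2 hx4
  have hxC := semi_mem_of_normalizer hF hm ha hsx (hle hxH)
  rw [← (semi_eq hF hm ha hxC hsx.1).2] at hle
  by_cases hinv : ∃ z ∈ H, z ^ 2 = 1 ∧ z ≠ 1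
  · -- dihedral type
    obtain ⟨z, hzH, hz2, hz1⟩ := hinv
    obtain ⟨u, v, hbc⟩ := ore_square hF hm (x := x)
      (fun e => hx4 (by rw [pow_mul x 2 2, e, one_pow])) hz1
    obtain ⟨i, j, hi, hi', hj, hj', hij⟩ := hB.product hzH (show u⁻¹ * (u * x * u⁻¹) * u ∈ H by simpa [mul_assoc] using hxH)
      (show v⁻¹ * (v * x * v⁻¹) * v ∈ H by simpa [mul_assoc] using hxH) hbc
    have hxx : ∀ g : Cfsg.Sz F m, Semi hF (g * x * g⁻¹) := fun g => semi_conj hF hm hsx
    have hzC : z ∉ C[x] := fun h => by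
      have h2 := Subgroup.orderOf_dvd_natCard _ h
      rw [orderOf_eq_prime hz2 hz1] at h2
      exact Nat.not_even_iff_odd.2 (semi_odd_card hF hm hsx) (even_iff_two_dvd.2 h2)
    have hbC : u * x * u⁻¹ ∉ C[x] := fun h => by
      have hN : v * x * v⁻¹ ∈ N[x] := by
        rw [show v * x * v⁻¹ = (u * x * u⁻¹)⁻¹ * z by rw [hbc]; group]
        exact mul_mem (inv_mem (Subgroup.le_normalizer h)) (hle hzH)
      apply hzC
      rw [hbc]
      exact mul_mem h (semi_mem_of_normalizer hF hm hsx (hxx v) hN)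
    have hcC : v * x * v⁻¹ ∉ C[x] := fun h => by
      have hN : u * x * u⁻¹ ∈ N[x] := by
        rw [show u * x * u⁻¹ = z * (v * x * v⁻¹)⁻¹ by rw [hbc]; group]
        exact mul_mem (hle hzH) (inv_mem (Subgroup.le_normalizer h))
      apply hzC
      rw [hbc]
      exact mul_mem (semi_mem_of_normalizer hF hm hsx (hxx u) hN) h
    have hsq : ∀ {k g : Cfsg.Sz F m}, g * x * g⁻¹ ∉ C[x] → k ∈ H → g⁻¹ * k * g ∈ H → k ^ 2 = 1 := by
      intro k g hg hk hk'
      by_contra h2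
      have hsk : Semi hF k := (semi_iff hF hm).2 fun e => h2 (h4 k hk e)
      have hsk' : Semi hF (g⁻¹ * k * g) := by
        have := semi_conj hF hm (g := g⁻¹) hsk
        rwa [inv_inv] at this
      have h1 := semi_mem_of_normalizer hF hm hsx hsk (hle hk)
      have h1' := Subgroup.mem_centralizer_singleton_iff.1 (semi_mem_of_normalizer hF hm hsx hsk' (hle hk'))
      apply hg
      rw [← (semi_eq hF hm hsx h1 hsk.1).2, Subgroup.mem_centralizer_singleton_iff]
      calc g * x * g⁻¹ * k = g * (x * (g⁻¹ * k * g)) * g⁻¹ := by group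
        _ = k * (g * x * g⁻¹) := by rw [← h1']; group
    have hi2 := hsq hbC hi hi'
    have hj2 := hsq hcC hj hj'
    by_cases hi1 : i = 1
    · rw [hi1, one_mul] at hij
      rw [← hij] at hj'
      -- the involution inverts the second factor
      have hz' : (v⁻¹ * z * v) ^ 2 = 1 := by
        rw [sq, show v⁻¹ * z * v * (v⁻¹ * z * v) = v⁻¹ * (z * z) * v by group, ← sq, hz2, mul_one, inv_mul_cancel]
      have h1 := involution_inverts hF hm hsx hz'
        (fun e => hz1 (by rw [show z = v * (v⁻¹ * z * v) * v⁻¹ by group, e, mul_one, mul_inv_cancel])) (hle hj')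
      have hb2 : (u * x * u⁻¹) ^ 2 = 1 := by
        rw [show u * x * u⁻¹ = z * (v * x⁻¹ * v⁻¹) by rw [hbc]; group, sq,
          show z * (v * x⁻¹ * v⁻¹) * (z * (v * x⁻¹ * v⁻¹)) = v * (((v⁻¹ * z * v) * x * (v⁻¹ * z * v)⁻¹)⁻¹ *
            ((v⁻¹ * z * v) * (v⁻¹ * z * v)) * x⁻¹) * v⁻¹ by group, ← sq, hz', h1]
        group
      exact (semi_iff hF hm).1 (hxx u) (by rw [pow_mul (u * x * u⁻¹) 2 2, hb2, one_pow])
    by_cases hj1 : j = 1
    · rw [hj1, mul_one] at hij
      rw [← hij] at hi'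
      have hz' : (u⁻¹ * z * u) ^ 2 = 1 := by
        rw [sq, show u⁻¹ * z * u * (u⁻¹ * z * u) = u⁻¹ * (z * z) * u by group, ← sq, hz2, mul_one, inv_mul_cancel]
      have h1 := involution_inverts hF hm hsx hz'
        (fun e => hz1 (by rw [show z = u * (u⁻¹ * z * u) * u⁻¹ by group, e, mul_one, mul_inv_cancel])) (hle hi')
      have hc2 : (v * x * v⁻¹) ^ 2 = 1 := by
        rw [show v * x * v⁻¹ = u * x⁻¹ * u⁻¹ * z by rw [hbc]; group, sq,
          show u * x⁻¹ * u⁻¹ * z * (u * x⁻¹ * u⁻¹ * z) = u * (x⁻¹ * ((u⁻¹ * z * u) * x * (u⁻¹ * z * u)⁻¹)⁻¹ *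
            ((u⁻¹ * z * u) * (u⁻¹ * z * u))) * u⁻¹ by group, ← sq, hz', h1]
        group
      exact (semi_iff hF hm).1 (hxx v) (by rw [pow_mul (v * x * v⁻¹) 2 2, hc2, one_pow])
    apply hzC
    rw [Subgroup.mem_centralizer_singleton_iff, ← mul_inv_eq_iff_eq_mul, hij]
    calc i * j * x * (i * j)⁻¹ = i * (j * x * j⁻¹) * i⁻¹ := by group
      _ = x := by
        rw [involution_inverts hF hm hsx hj2 hj1 (hle hj), ← conj_inv,
          involution_inverts hF hm hsx hi2 hi1 (hle hi), inv_inv]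
  · -- cyclic
    push Not at hinv
    have hC : H ≤ C[x] := fun y hy => by
      by_cases hy4 : y ^ 4 = 1
      · rw [hinv y hy (h4 y hy hy4)]
        exact one_mem _
      · exact semi_mem_of_normalizer hF hm hsx ((semi_iff hF hm).2 hy4) (hle hy)
    rcases hsx.2 with hfree | ⟨h, hh⟩
    · exact not_bin_cyclic hF hm hB hfree hxH hC
    · refine hno ⟨h • pt F m none, fun y hy => ?_⟩
      have hy' := hC hy
      rw [centralizer_eq_cj_tSub hF hm hh hsx.1, mem_cj] at hy'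
      obtain ⟨t, ht⟩ := (mem_tSub hF).1 hy'
      rw [show y = h * (h⁻¹ * y * h) * h⁻¹ by group, ht]
      exact conj_fix (tS_none hF t)

include hF in
/-- The binary coset actions. -/
theorem bin_iff (hm : 1 ≤ m) {H : Subgroup (Cfsg.Sz F m)} (hne : H ≠ ⊤) :
    Bin H ↔ H = ⊥ ∨ ∃ P : Sylow 2 (Cfsg.Sz F m),
      H = (Subgroup.center (P : Subgroup (Cfsg.Sz F m))).map (P : Subgroup (Cfsg.Sz F m)).subtype := by
  classical
  haveI := Fact.mk Nat.prime_two
  haveI := pretransitive (F := F) (m := m) hF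
  have hcenter : ∀ (P : Subgroup (Cfsg.Sz F m)) (g : Cfsg.Sz F m), P = (unip hF).map (MulAut.conj g).toMonoidHom →
      (Subgroup.center P).map P.subtype = (zSub hF).map (MulAut.conj g).toMonoidHom := by
    intro P g hg
    subst hg
    rw [← map_center_unip hF hm]
    ext y
    constructor
    · rintro ⟨⟨w, hw⟩, hc, rfl⟩
      obtain ⟨u, hu, rfl⟩ := Subgroup.mem_map.1 hw
      refine ⟨u, ⟨⟨u, hu⟩, Subgroup.mem_center_iff.2 fun v => Subtype.ext ((MulAut.conj g).injective ?_), rfl⟩, rfl⟩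
      have h := congrArg Subtype.val (Subgroup.mem_center_iff.1 hc ⟨_, Subgroup.mem_map_of_mem _ v.2⟩)
      simp only [Subgroup.coe_mul, MulEquiv.coe_toMonoidHom] at h ⊢
      rw [map_mul, map_mul]
      exact h
    · rintro ⟨u, ⟨u', hc, rfl⟩, rfl⟩
      refine ⟨⟨_, Subgroup.mem_map_of_mem _ u'.2⟩, Subgroup.mem_center_iff.2 fun v => ?_, rfl⟩
      obtain ⟨w, hw, e⟩ := Subgroup.mem_map.1 v.2
      refine Subtype.ext ?_
      show (v : Cfsg.Sz F m) * _ = _ * (v : Cfsg.Sz F m)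
      rw [← e]
      have h := congrArg (fun q : unip hF => MulAut.conj g (q : Cfsg.Sz F m)) (Subgroup.mem_center_iff.1 hc ⟨w, hw⟩)
      simp only [Subgroup.coe_mul, map_mul] at h
      exact h
  constructor
  · intro hB
    by_cases hb : H = ⊥
    · exact Or.inl hb
    refine Or.inr ?_
    have hs := isSolvable_of_bin hF hm hB hne
    have h4 : ∀ y ∈ H, y ^ 4 = 1 → y ^ 2 = 1 := fun y hy h => sq_eq_one_of_bin hF hm hB hs hy h
    obtain ⟨p, hp⟩ := fix_of_bin hF hm hB hs h4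
    obtain ⟨g, rfl⟩ := MulAction.exists_smul_eq (Cfsg.Sz F m) (pt F m none) p
    set H' := H.map (MulAut.conj g⁻¹).toMonoidHom with hH'
    have hmem : ∀ {y}, y ∈ H' ↔ g * y * g⁻¹ ∈ H := fun {y} => by rw [hH', mem_map_conj, inv_inv]
    have hle := le_zSub_of_bin hF hm (bin_conj hB g⁻¹)
      (fun y hy h => by
        have e := h4 _ (hmem.1 hy) (by rw [conj_pow, h, mul_one, mul_inv_cancel])
        rw [conj_pow] at e
        exact conj_eq_one_iff.1 e)
      (fun y hy => by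
        have h := hp _ (hmem.1 hy)
        rwa [mul_smul, mul_smul, inv_smul_smul, smul_left_cancel_iff] at h)
    have hz := eq_zSub_of_bin hF (bin_conj hB g⁻¹)
      (fun e => hb ((Subgroup.map_eq_bot_iff_of_injective H (MulAut.conj g⁻¹).injective).1 e)) hle
    refine ⟨g • sylU hF hm, ?_⟩
    rw [hcenter _ g (by rw [Sylow.coe_subgroup_smul]; rfl), ← hz, Subgroup.map_map]
    symm
    convert Subgroup.map_id H using 2
    ext y
    simp [mul_assoc]
  · rintro (rfl | ⟨P, rfl⟩)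
    · exact bin_bot
    · obtain ⟨g, hg⟩ := exists_conj_sylow hF hm P
      rw [hcenter _ g hg]
      exact bin_conj (bin_center hF hm) g

end CfsgLib.Lie.Suzuki
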