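import Cfsg.Agent.Lib.Lie.Suzuki.Solvable
import Cfsg.Agent.Lib.Lie.Suzuki.Ore

/-!
# Non-solvable subgroups of a Suzuki group: the normal form at one point

* `isSolvable_of_odd`: subgroups of odd order are solvable
* `exists_conj_involution`: involutions with distinct fixed points are conjugate
* `NF`, `exists_nf_subgroup`: after conjugation, a non-solvable subgroup meets the Borel subgroup in the
  Borel subgroup of a subfield group, or in the corresponding centre extended by the torus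
-/

set_option autoImplicit false

namespace CfsgLib.Lie.Suzuki

local notation "P∞" => pt _ _ none

variable {F : Type*} [Field F] [CharP F 2] [Fintype F] {m : ℕ}
  (hF : Fintype.card F = 2 ^ (2 * m + 1))

include hF in
theorem isSolvable_of_odd (hm : 1 ≤ m) (M : Subgroup (Cfsg.Sz F m)) (h : Odd (Nat.card M)) :
    Group.IsSolvable M := by
  haveI : IsZGroup M := ⟨fun p hp P => by
    haveI := Fact.mk hp
    by_cases hp2 : p = 2
    · have h1 : Nat.card P = 1 := by
        obtain ⟨j, hj⟩ := P.2.exists_card_eq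
        rcases Nat.eq_zero_or_pos j with rfl | hj0
        · simpa using hj
        · exact absurd ((dvd_pow_self p hj0.ne').trans (hj ▸ P.card_subgroup_dvd_card))
            (hp2 ▸ fun h2 => Nat.not_even_iff_odd.2 h (even_iff_two_dvd.2 h2))
      haveI := (Nat.card_eq_one_iff_unique.1 h1).1
      infer_instance
    · obtain ⟨Q, hQ⟩ := (P.2.map M.subtype).exists_le_sylow
      haveI := isCyclic_sylow_odd hF hm hp2 Q
      haveI : IsCyclic ((P : Subgroup M).map M.subtype) := Subgroup.isCyclic_of_le hQ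
      exact ((P : Subgroup M).equivMapOfInjective M.subtype M.subtype_injective).isCyclic.2 inferInstance⟩
  infer_instance

include hF in
theorem involution_eq_uS (hm : 1 ≤ m) {z : Cfsg.Sz F m} (h2 : z ^ 2 = 1) (h1 : z ≠ 1) (hz : z • P∞ = (P∞ : Cfsg.suzukiOvoid F m)) :
    ∃ b, b ≠ 0 ∧ z = uS hF 0 b := by
  obtain ⟨a, b, t, rfl⟩ := stab_inf hF hm hz
  have ht : t = 1 := by
    by_contra ht
    obtain ⟨c, d, hc⟩ := exists_conj_tS hF a b ht
    have h' : tS hF t ^ 2 = 1 := by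
      rw [← hc, conj_pow, mul_inv_eq_one, mul_eq_left] at h2
      exact h2
    rw [← map_pow] at h'
    have h'' := tS_injective hF (h'.trans (map_one _).symm)
    exact ht (Units.ext (frobenius_inj F 2 (by simpa [frobenius_def] using congrArg Units.val h'')))
  subst ht
  rw [map_one, mul_one] at h2 h1 ⊢
  rw [uS_sq] at h2
  have ha : a = 0 := by
    rcases mul_eq_zero.1 (uS_inj hF (h2.trans (uS_one hF).symm)).2 with h | h
    · exact (map_eq_zero (th F m)).1 h
    · exact h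
  subst ha
  exact ⟨b, fun e => h1 (by rw [e, uS_one]), rfl⟩

include hF in
theorem eq_inf_of_fix {b : F} (hb : b ≠ 0) {x : Cfsg.suzukiOvoid F m} (h : uS hF 0 b • x = x) :
    x = pt F m none :=
  uSub_unique_fix hF (g := uS hF 0 b) ⟨_, _, rfl⟩ (fun e => hb (uS_inj hF (e.trans (uS_one hF).symm)).2) h

theorem conj_fix {g z : Cfsg.Sz F m} {x : Cfsg.suzukiOvoid F m} (h : z • x = x) :
    (g * z * g⁻¹) • g • x = g • x := by
  rw [mul_smul, mul_smul, inv_smul_smul, h]

theorem conj_sq_one {G : Type*} [Group G] (g z : G) (h : z ^ 2 = 1) (h1 : z ≠ 1) :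
    (g * z * g⁻¹) ^ 2 = 1 ∧ g * z * g⁻¹ ≠ 1 :=
  ⟨by rw [conj_pow, h, mul_one, mul_inv_cancel], fun e => h1 (conj_eq_one_iff.1 e)⟩

include hF in
/-- Involutions of a subgroup with different fixed points are conjugate in it. -/
theorem exists_conj_involution (hm : 1 ≤ m) {M : Subgroup (Cfsg.Sz F m)} {z z' : Cfsg.Sz F m} (hz : z ∈ M)
    (hz' : z' ∈ M) (h2 : z ^ 2 = 1) (h1 : z ≠ 1) (h2' : z' ^ 2 = 1) (h1' : z' ≠ 1)
    {p p' : Cfsg.suzukiOvoid F m} (hp : z • p = p) (hp' : z' • p' = p') (hne : p ≠ p') :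
    ∃ g ∈ M, g * z * g⁻¹ = z' := by
  obtain ⟨x, hx⟩ : ∃ x, x = z * z' := ⟨_, rfl⟩
  have hzz : z⁻¹ = z := inv_eq_of_mul_eq_one_right (by rw [← sq, h2])
  have hzz' : z'⁻¹ = z' := inv_eq_of_mul_eq_one_right (by rw [← sq, h2'])
  have hinv : z * x * z = x⁻¹ := by
    rw [hx, mul_inv_rev, hzz, hzz', ← mul_assoc, ← sq, h2, one_mul]
  have hodd : Odd (orderOf x) := by
    by_contra hev
    rw [Nat.not_odd_iff_even] at hev
    obtain ⟨j, hj⟩ := hev
    have hj0 : 0 < j := by have := orderOf_pos x; omega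
    have hc2 : (x ^ j) ^ 2 = 1 := by rw [← pow_mul, mul_two, ← hj, pow_orderOf_eq_one]
    have hc1 : x ^ j ≠ 1 := pow_ne_one_of_lt_orderOf hj0.ne' (by omega)
    obtain ⟨r, hr, huniq⟩ := involution_fix hF hm hc2 hc1
    have hcinv : (x ^ j)⁻¹ = x ^ j := inv_eq_of_mul_eq_one_right (by rw [← sq, hc2])
    have hcz : Commute (x ^ j) z := by
      have e : z * x ^ j * z⁻¹ = (x ^ j)⁻¹ := by rw [← conj_pow, hzz, hinv, inv_pow]
      rw [hcinv, mul_inv_eq_iff_eq_mul] at e
      exact e.symm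
    have hcz' : Commute (x ^ j) z' := by
      have e : z' = z * x := by rw [hx, ← mul_assoc, ← sq, h2, one_mul]
      rw [e]
      exact hcz.mul_right ((Commute.refl x).pow_left j)
    obtain ⟨_, -, hu⟩ := involution_fix hF hm h2 h1
    obtain ⟨_, -, hu'⟩ := involution_fix hF hm h2' h1'
    have e1 : r = p := (hu _ (huniq _ (smul_of_commute hcz hr))).trans (hu _ hp).symm
    have e2 : r = p' := (hu' _ (huniq _ (smul_of_commute hcz' hr))).trans (hu' _ hp').symm
    exact hne (e1.symm.trans e2)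
  obtain ⟨j, hj⟩ := hodd
  refine ⟨(x ^ (j + 1))⁻¹, inv_mem (pow_mem (hx ▸ mul_mem hz hz') _), ?_⟩
  have e : z * x ^ (j + 1) * z = (x ^ (j + 1))⁻¹ := by
    have h' := conj_pow (a := z) (b := x) (i := j + 1)
    rw [hzz, hinv, inv_pow] at h'
    exact h'.symm
  calc (x ^ (j + 1))⁻¹ * z * (x ^ (j + 1))⁻¹⁻¹ = (z * x ^ (j + 1) * z) * z * x ^ (j + 1) := by rw [e, inv_inv]
    _ = z * x ^ (j + 1) * x ^ (j + 1) := by rw [mul_assoc (z * x ^ (j + 1)) z z, ← sq, h2, mul_one]
    _ = z * x ^ (orderOf x + 1) := by rw [mul_assoc, ← pow_add]; congr 2; omega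
    _ = z' := by rw [pow_succ, pow_orderOf_eq_one, one_mul, hx, ← mul_assoc, ← sq, h2, one_mul]

include hF in
/-- A non-solvable subgroup moves the point at infinity. -/
theorem exists_move_inf (hm : 1 ≤ m) {M : Subgroup (Cfsg.Sz F m)} (hns : ¬ Group.IsSolvable M) :
    ∃ g ∈ M, g • pt F m none ≠ pt F m none := by
  by_contra hne
  push Not at hne
  refine hns ?_
  haveI := isSolvable_stab hF hm (pt F m none)
  exact Group.isSolvable_of_isSolvable_injective (Subgroup.inclusion_injective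
    (show M ≤ MulAction.stabilizer (Cfsg.Sz F m) (pt F m none) from fun g hg => hne g hg))

include hF in
/-- All involutions of a non-solvable subgroup are conjugate. -/
theorem isConj_involution (hm : 1 ≤ m) {M : Subgroup (Cfsg.Sz F m)} (hns : ¬ Group.IsSolvable M)
    (h01 : uS hF 0 1 ∈ M) {z : Cfsg.Sz F m} (hz : z ∈ M) (h2 : z ^ 2 = 1) (h1 : z ≠ 1) :
    ∃ g ∈ M, g * uS hF 0 1 * g⁻¹ = z := by
  have hz2 : uS hF (0 : F) 1 ^ 2 = 1 := by rw [uS_sq]; simp [uS_one]
  have hz1 : uS hF (0 : F) 1 ≠ 1 := fun e => one_ne_zero (uS_inj hF (e.trans (uS_one hF).symm)).2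
  obtain ⟨p, hp, -⟩ := involution_fix hF hm h2 h1
  have hfix : uS hF (0 : F) 1 • pt F m none = pt F m none := uS_none hF 0 1
  by_cases hne : pt F m none = p
  · obtain ⟨w, hw, hwm⟩ := exists_move_inf hF hm hns
    obtain ⟨c2, c1⟩ := conj_sq_one w _ hz2 hz1
    have hcm : w * uS hF 0 1 * w⁻¹ ∈ M := mul_mem (mul_mem hw h01) (inv_mem hw)
    obtain ⟨g₁, hg₁, e₁⟩ := exists_conj_involution hF hm h01 hcm hz2 hz1 c2 c1 hfix (conj_fix hfix) hwm.symm
    obtain ⟨g₂, hg₂, e₂⟩ := exists_conj_involution hF hm hcm hz c2 c1 h2 h1 (conj_fix hfix) hp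
      (fun e => hwm (e.trans hne.symm))
    exact ⟨g₂ * g₁, mul_mem hg₂ hg₁, by rw [← e₂, ← e₁]; group⟩
  · exact exists_conj_involution hF hm h01 hz hz2 hz1 h2 h1 hfix hp hne

include hF in
theorem center_step (hm : 1 ≤ m) {M : Subgroup (Cfsg.Sz F m)} (hns : ¬ Group.IsSolvable M)
    (h01 : uS hF 0 1 ∈ M) {b : F} (hb : b ≠ 0) (hmem : uS hF 0 b ∈ M) :
    ∃ a c t, uS hF a c * tS hF t ∈ M ∧ th F m (t : F) = b := by
  have h2 : uS hF (0 : F) b ^ 2 = 1 := by rw [uS_sq]; simp [uS_one]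
  have h1 : uS hF (0 : F) b ≠ 1 := fun e => hb (uS_inj hF (e.trans (uS_one hF).symm)).2
  obtain ⟨g, hg, e⟩ := isConj_involution hF hm hns h01 hmem h2 h1
  have hfix : g • pt F m none = pt F m none := by
    refine eq_inf_of_fix hF hb ?_
    rw [← e]
    exact conj_fix (uS_none hF 0 1)
  obtain ⟨a, c, t, rfl⟩ := stab_inf hF hm hfix
  refine ⟨a, c, t, hg, ?_⟩
  have e' : uS hF a c * tS hF t * uS hF 0 1 * (uS hF a c * tS hF t)⁻¹ = uS hF 0 (th F m t) := by
    rw [mul_inv_rev, show uS hF a c * tS hF t * uS hF 0 1 * ((tS hF t)⁻¹ * (uS hF a c)⁻¹) =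
      uS hF a c * (tS hF t * uS hF 0 1 * (tS hF t)⁻¹) * (uS hF a c)⁻¹ by group, conj_uS, mul_zero, conj_uS_uS]
    congr 1
    simp
  exact (uS_inj hF (e'.symm.trans e)).2

include hF in
theorem conj_center_tS (a c b : F) (t : Fˣ) :
    uS hF a c * tS hF t * uS hF 0 b * (uS hF a c * tS hF t)⁻¹ = uS hF 0 (th F m t * b) := by
  rw [mul_inv_rev, show uS hF a c * tS hF t * uS hF 0 b * ((tS hF t)⁻¹ * (uS hF a c)⁻¹) =
    uS hF a c * (tS hF t * uS hF 0 b * (tS hF t)⁻¹) * (uS hF a c)⁻¹ by group, conj_uS, mul_zero, conj_uS_uS]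
  congr 1
  simp

include hF in
/-- The central parameters form a subfield. -/
theorem exists_subfield (hm : 1 ≤ m) {M : Subgroup (Cfsg.Sz F m)} (hns : ¬ Group.IsSolvable M)
    (h01 : uS hF 0 1 ∈ M) : ∃ L : Subfield F, ∀ b, b ∈ L ↔ uS hF 0 b ∈ M := by
  have hmul : ∀ b b', uS hF 0 b ∈ M → uS hF 0 b' ∈ M → uS hF 0 (b * b') ∈ M := fun b b' hb hb' => by
    rcases eq_or_ne b 0 with rfl | hb0
    · rwa [zero_mul]
    obtain ⟨a, c, t, h, e⟩ := center_step hF hm hns h01 hb0 hb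
    have := mul_mem (mul_mem h hb') (inv_mem h)
    rwa [conj_center_tS hF, e] at this
  have hadd : ∀ b b', uS hF 0 b ∈ M → uS hF 0 b' ∈ M → uS hF 0 (b + b') ∈ M := fun b b' hb hb' => by
    simpa [uS_mul] using mul_mem hb hb'
  have hinv : ∀ b, uS hF 0 b ∈ M → uS hF 0 b⁻¹ ∈ M := fun b hb => by
    rcases eq_or_ne b 0 with rfl | hb0
    · rwa [inv_zero]
    obtain ⟨a, c, t, h, e⟩ := center_step hF hm hns h01 hb0 hb
    have h' := mul_mem (mul_mem (inv_mem h) h01) h
    have key : (uS hF a c * tS hF t)⁻¹ * uS hF 0 1 * (uS hF a c * tS hF t) = uS hF 0 b⁻¹ := by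
      have h1 := conj_center_tS hF a c b⁻¹ t
      rw [e, mul_inv_cancel₀ hb0] at h1
      rw [← h1]; group
    rwa [key] at h'
  exact ⟨{ carrier := {b | uS hF 0 b ∈ M}
           mul_mem' := fun {x y} => hmul x y
           one_mem' := h01
           add_mem' := fun {x y} => hadd x y
           zero_mem' := by show uS hF 0 0 ∈ M; rw [uS_one]; exact one_mem _
           neg_mem' := fun {x} hx => by rwa [CharTwo.neg_eq]
           inv_mem' := fun x hx => hinv x hx }, fun b => Iff.rfl⟩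

include hF in
theorem th_mem {L : Subfield F} {x : F} (hx : x ∈ L) : th F m x ∈ L := by
  rw [th_apply]
  exact pow_mem hx _

include hF in
theorem th_surj {L : Subfield F} {x : F} (hx : th F m x ∈ L) : x ∈ L := by
  let φ : L → L := fun y => ⟨th F m y, th_mem hF y.2⟩
  have hφ : Function.Injective φ := fun y y' h => Subtype.ext ((th F m).injective (congrArg Subtype.val h))
  obtain ⟨y, hy⟩ := Finite.surjective_of_injective hφ ⟨th F m x, hx⟩
  exact (th F m).injective (congrArg Subtype.val hy) ▸ y.2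

include hF in
theorem mem_of_norm_mem {L : Subfield F} {x : F} (hx : th F m x * x ∈ L) : x ∈ L := by
  let φ : L → L := fun y => ⟨th F m y * y, mul_mem (th_mem hF y.2) y.2⟩
  have hφ : Function.Injective φ := fun y y' h =>
    Subtype.ext ((th_mul_self_bij hF).1 (congrArg Subtype.val h))
  obtain ⟨y, hy⟩ := Finite.surjective_of_injective hφ ⟨th F m x * x, hx⟩
  exact (th_mul_self_bij hF).1 (congrArg Subtype.val hy) ▸ y.2

include hF in
/-- The degree of such a subfield. -/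
theorem exists_subfield_degree (L : Subfield F) : ∃ a, a ∣ 2 * m + 1 ∧ Nat.card L = 2 ^ a := by
  have h := Module.natCard_eq_pow_finrank (K := L) (V := F)
  rw [Nat.card_eq_fintype_card, hF] at h
  have hd0 : Module.finrank L F ≠ 0 := Module.finrank_pos.ne'
  obtain ⟨a, -, ha⟩ := (Nat.dvd_prime_pow Nat.prime_two).1 (h ▸ dvd_pow_self (Nat.card L) hd0)
  rw [ha, ← pow_mul] at h
  exact ⟨a, ⟨Module.finrank L F, Nat.pow_right_injective le_rfl h⟩, ha⟩

include hF in
/-- The central parameters cannot be just two. -/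
theorem subfield_ne_two (hm : 1 ≤ m) {M : Subgroup (Cfsg.Sz F m)} (hns : ¬ Group.IsSolvable M)
    (h01 : uS hF 0 1 ∈ M) {L : Subfield F} (hL : ∀ b, b ∈ L ↔ uS hF 0 b ∈ M) : Nat.card L ≠ 2 := by
  classical
  intro h2
  have hL01 : ∀ b ∈ L, b = 0 ∨ b = 1 := fun b hb => by
    by_contra h
    push Not at h
    obtain ⟨u, v, huv, huniv⟩ := Nat.card_eq_two_iff.1 h2
    have m : ∀ w : L, w = u ∨ w = v := fun w => by
      have := Set.mem_univ w
      rw [← huniv] at this
      exact this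
    have h01' : (⟨0, zero_mem L⟩ : L) ≠ ⟨1, one_mem L⟩ := fun e => zero_ne_one (congrArg Subtype.val e)
    have hb0 : (⟨b, hb⟩ : L) ≠ ⟨0, zero_mem L⟩ := fun e => h.1 (congrArg Subtype.val e)
    have hb1 : (⟨b, hb⟩ : L) ≠ ⟨1, one_mem L⟩ := fun e => h.2 (congrArg Subtype.val e)
    rcases m ⟨b, hb⟩ with e | e <;> rcases m ⟨0, zero_mem L⟩ with e' | e' <;>
      rcases m ⟨1, one_mem L⟩ with e'' | e'' <;>
      first
        | exact hb0 (e.trans e'.symm)
        | exact hb1 (e.trans e''.symm)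
        | exact h01' (e'.trans e''.symm)
  haveI := Fact.mk Nat.prime_two
  have hsq : ∀ a, th F m a * a ∈ L → a = 0 ∨ a = 1 := fun a ha => hL01 a (mem_of_norm_mem hF ha)
  have hstab : ∀ x ∈ M, x • pt F m none = pt F m none → ∃ a c, (a = 0 ∨ a = 1) ∧ x = uS hF a c := by
    intro x hx hfix
    obtain ⟨a, c, t, rfl⟩ := stab_inf hF hm hfix
    have ht : th F m (t : F) ∈ L := (hL _).2 (by
      have := mul_mem (mul_mem hx h01) (inv_mem hx)
      rwa [conj_center_tS hF, mul_one] at this)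
    have ht1 : t = 1 := by
      rcases hL01 _ ht with e | e
      · exact absurd e (θ_ne_zero t.ne_zero)
      · exact Units.ext ((th F m).injective (e.trans (map_one _).symm))
    subst ht1
    rw [map_one, mul_one] at hx ⊢
    exact ⟨a, c, hsq a ((hL _).2 (by rw [← uS_sq hF a c]; exact pow_mem hx 2)), rfl⟩
  have hcomm : ∀ x ∈ M, ∀ y ∈ M, x • pt F m none = pt F m none → y • pt F m none = pt F m none →
      x * y = y * x := by
    intro x hx y hy fx fy
    obtain ⟨a, c, ha, rfl⟩ := hstab x hx fx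
    obtain ⟨a', c', ha', rfl⟩ := hstab y hy fy
    rw [uS_mul, uS_mul]
    congr 1
    · exact add_comm a a'
    · rcases ha with rfl | rfl <;> rcases ha' with rfl | rfl <;> simp [add_comm c c']
  -- a Sylow subgroup through the involution
  obtain ⟨z, hz⟩ : ∃ z : M, z = ⟨uS hF 0 1, h01⟩ := ⟨_, rfl⟩
  have hzp : IsPGroup 2 (Subgroup.zpowers z) := IsPGroup.of_card_dvd_pow (n := 1) (by
    rw [Nat.card_zpowers]
    exact orderOf_dvd_of_pow_eq_one (hz ▸ Subtype.ext (show uS hF (0 : F) 1 ^ 2 = 1 by rw [uS_sq]; simp [uS_one])))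
  obtain ⟨P, hP⟩ := hzp.exists_le_sylow
  have hzP : z ∈ P := hP (Subgroup.mem_zpowers z)
  have hz1 : z ≠ 1 := fun e => one_ne_zero
    (uS_inj hF (((congrArg Subtype.val hz).symm.trans (congrArg Subtype.val e)).trans (uS_one hF).symm)).2
  haveI : Nontrivial P := ⟨⟨z, hzP⟩, 1, fun e => hz1 (congrArg Subtype.val e)⟩
  haveI := P.2.center_nontrivial
  obtain ⟨⟨w, hwc⟩, hw1⟩ := _root_.exists_ne (1 : Subgroup.center P)
  obtain ⟨c, hcc, hc2, hc1⟩ : ∃ c : P, c ∈ Subgroup.center P ∧ c ^ 2 = 1 ∧ c ≠ 1 := by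
    obtain ⟨j, hj⟩ := (IsPGroup.iff_orderOf.1 P.2) w
    have hj0 : 0 < j := by
      rcases Nat.eq_zero_or_pos j with rfl | h
      · exact absurd (Subtype.ext (orderOf_eq_one_iff.1 (hj.trans (pow_zero 2)))) hw1
      · exact h
    refine ⟨w ^ 2 ^ (j - 1), pow_mem hwc _, ?_, pow_ne_one_of_lt_orderOf (by positivity) (by
      rw [hj]; exact Nat.pow_lt_pow_right (by norm_num) (by omega))⟩
    rw [← pow_mul, ← pow_succ, Nat.sub_add_cancel hj0, ← hj, pow_orderOf_eq_one]
  have hcz : Commute ((c : M) : Cfsg.Sz F m) (uS hF 0 1) := by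
    have h := congrArg (fun u : P => ((u : M) : Cfsg.Sz F m)) (Subgroup.mem_center_iff.1 hcc ⟨z, hzP⟩)
    simp only [Subgroup.coe_mul, hz] at h
    exact h.symm
  have hcfix : ((c : M) : Cfsg.Sz F m) • pt F m none = pt F m none :=
    eq_inf_of_fix hF one_ne_zero (smul_of_commute hcz.symm (uS_none hF 0 1))
  have hceq : ((c : M) : Cfsg.Sz F m) = uS hF 0 1 := by
    obtain ⟨b, hb, e⟩ := involution_eq_uS hF hm (z := ((c : M) : Cfsg.Sz F m))
      (by exact_mod_cast congrArg (fun u : P => ((u : M) : Cfsg.Sz F m)) hc2)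
      (fun e => hc1 (Subtype.ext (Subtype.ext e))) hcfix
    rcases hL01 b ((hL b).2 (e ▸ (c : M).2)) with rfl | rfl
    · exact absurd rfl hb
    · exact e
  have hPfix : ∀ u ∈ (P : Subgroup M), (u : Cfsg.Sz F m) • pt F m none = pt F m none := fun u hu => by
    refine eq_inf_of_fix hF one_ne_zero (smul_of_commute ?_ (uS_none hF 0 1))
    have h := congrArg (fun v : P => ((v : M) : Cfsg.Sz F m)) (Subgroup.mem_center_iff.1 hcc ⟨u, hu⟩)
    change (u : Cfsg.Sz F m) * ((c : M) : Cfsg.Sz F m) = ((c : M) : Cfsg.Sz F m) * (u : Cfsg.Sz F m) at h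
    rw [hceq] at h
    exact h.symm
  have hN : Subgroup.normalizer ((P : Subgroup M) : Set M) ≤ Subgroup.centralizer ((P : Subgroup M) : Set M) := by
    intro g hg
    have hgfix : (g : Cfsg.Sz F m) • pt F m none = pt F m none := by
      have hmem := (Subgroup.mem_normalizer_iff.1 hg z).1 hzP
      have h1 := hPfix _ hmem
      have h2' : ((g * z * g⁻¹ : M) : Cfsg.Sz F m) • (g : Cfsg.Sz F m) • pt F m none = (g : Cfsg.Sz F m) • pt F m none := by
        simp only [Subgroup.coe_mul, Subgroup.coe_inv, hz]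
        exact conj_fix (uS_none hF 0 1)
      obtain ⟨c2, c1⟩ := conj_sq_one (g : Cfsg.Sz F m) (uS hF 0 1) (by rw [uS_sq]; simp [uS_one])
        (fun e => one_ne_zero (uS_inj hF (e.trans (uS_one hF).symm)).2)
      obtain ⟨_, -, hu⟩ := involution_fix hF hm c2 c1
      simp only [Subgroup.coe_mul, Subgroup.coe_inv, hz] at h1 h2'
      exact (hu _ h2').trans (hu _ h1).symm
    intro u hu
    exact Subtype.ext (hcomm _ u.2 _ g.2 (hPfix u hu) hgfix)
  refine hns ?_
  have hodd : Odd (Nat.card (MonoidHom.transferSylow P hN).ker) := Nat.not_even_iff_odd.1 fun h =>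
    MonoidHom.not_dvd_card_ker_transferSylow P hN (even_iff_two_dvd.1 h)
  haveI : Group.IsSolvable (MonoidHom.transferSylow P hN).ker := by
    have h := isSolvable_of_odd hF hm ((MonoidHom.transferSylow P hN).ker.map M.subtype) (by
      rwa [Subgroup.card_map_of_injective M.subtype_injective])
    exact Group.isSolvable_of_isSolvable_injective
      (((MonoidHom.transferSylow P hN).ker.equivMapOfInjective M.subtype M.subtype_injective).injective)
      (f := ((MonoidHom.transferSylow P hN).ker.equivMapOfInjective M.subtype M.subtype_injective).toMonoidHom)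
  haveI : Group.IsSolvable P := by
    haveI := P.2.isNilpotent
    infer_instance
  exact Group.isSolvable_of_ker_le_range (MonoidHom.transferSylow P hN).ker.subtype
    (MonoidHom.transferSylow P hN) (by rw [Subgroup.range_subtype])

/-- The normal form of a non-solvable subgroup at the point at infinity. -/
structure NF (hF : Fintype.card F = 2 ^ (2 * m + 1)) (M : Subgroup (Cfsg.Sz F m)) (L : Subfield F) : Prop where
  ns : ¬ Group.IsSolvable M
  center : ∀ b, uS hF 0 b ∈ M ↔ b ∈ L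
  torus : ∀ t : Fˣ, (t : F) ∈ L → tS hF t ∈ M
  inf : ∀ x ∈ M, x • pt F m none = pt F m none → ∃ (a b : F) (t : Fˣ), a ∈ L ∧ b ∈ L ∧ (t : F) ∈ L ∧ x = uS hF a b * tS hF t
  dich : (∀ a b, uS hF a b ∈ M → a = 0) ∨ ∀ a b, a ∈ L → b ∈ L → uS hF a b ∈ M

include hF in
theorem ratio_mem {L : Subfield F} {l : F} (hl : l ∈ L) (hl0 : l ≠ 0) :
    ∃ t : Fˣ, (t : F) ∈ L ∧ (t : F) ^ 2 / th F m t = l := by
  let φ : {x : L // x ≠ 0} → {x : L // x ≠ 0} := fun x =>
    ⟨⟨((x.1 : L) : F) ^ 2 / th F m ((x.1 : L) : F), div_mem (pow_mem x.1.2 2) (th_mem hF x.1.2)⟩, fun e =>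
      x.2 (Subtype.ext (by
        have e' := congrArg Subtype.val e
        by_contra h
        exact div_ne_zero (pow_ne_zero 2 h) (θ_ne_zero h) e'))⟩
  have hφ : Function.Injective φ := fun x y h => by
    have h' : ((x.1 : L) : F) ^ 2 / th F m ((x.1 : L) : F) = ((y.1 : L) : F) ^ 2 / th F m ((y.1 : L) : F) :=
      congrArg (fun w : {x : L // x ≠ 0} => ((w.1 : L) : F)) h
    have hx : ((x.1 : L) : F) ≠ 0 := fun e => x.2 (Subtype.ext e)
    have hy : ((y.1 : L) : F) ≠ 0 := fun e => y.2 (Subtype.ext e)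
    have hθx := θ_ne_zero (θ := th F m) hx
    have hθy := θ_ne_zero (θ := th F m) hy
    refine Subtype.ext (Subtype.ext ?_)
    by_contra hne
    refine ratio_ne_one hF (t := Units.mk0 _ (div_ne_zero hx hy)) (fun e => hne ((div_eq_one_iff_eq hy).1 (congrArg Units.val e))) ?_
    show (((x.1 : L) : F) / (y.1 : L)) ^ 2 / th F m (((x.1 : L) : F) / (y.1 : L)) = 1
    rw [div_eq_div_iff hθx hθy] at h'
    rw [map_div₀, div_pow, div_div_div_eq, div_eq_one_iff_eq (mul_ne_zero (pow_ne_zero 2 hy) hθx)]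
    linear_combination h'
  obtain ⟨⟨x, hx0⟩, hx⟩ := Finite.surjective_of_injective hφ ⟨⟨l, hl⟩, fun e => hl0 (congrArg Subtype.val e)⟩
  exact ⟨Units.mk0 x (fun e => hx0 (Subtype.ext e)), x.2, congrArg (fun w : {x : L // x ≠ 0} => ((w.1 : L) : F)) hx⟩

include hF in
/-- Offsets of the unitriangular elements. -/
theorem offsets (hm : 1 ≤ m) {M : Subgroup (Cfsg.Sz F m)} {L : Subfield F} (h3 : 2 < Nat.card L)
    (hcen : ∀ b, uS hF 0 b ∈ M ↔ b ∈ L) (htor : ∀ t : Fˣ, (t : F) ∈ L → tS hF t ∈ M) :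
    (∀ a b, uS hF a b ∈ M → a ∈ L ∧ b ∈ L) ∧
      ((∀ a b, uS hF a b ∈ M → a = 0) ∨ ∀ a b, a ∈ L → b ∈ L → uS hF a b ∈ M) := by
  have h2 : (2 : F) = 0 := CharTwo.two_eq_zero
  have hA : ∀ a b, uS hF a b ∈ M → a ∈ L := fun a b h =>
    mem_of_norm_mem hF ((hcen _).1 (by rw [← uS_sq hF a b]; exact pow_mem h 2))
  by_cases hall : ∀ a b, uS hF a b ∈ M → a = 0
  · exact ⟨fun a b h => ⟨hA a b h, by have ha := hall a b h; subst ha; exact (hcen b).1 h⟩, Or.inl hall⟩
  push Not at hall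
  obtain ⟨a, b, hab, ha⟩ := hall
  have hscale : ∀ {x y : F}, uS hF x y ∈ M → ∀ l, l ∈ L → l ≠ 0 →
      uS hF (l * x) (th F m l * l * y) ∈ M := by
    intro x y h l hl hl0
    obtain ⟨t, ht, htl⟩ := ratio_mem hF hl hl0
    have := mul_mem (mul_mem (htor t ht) h) (inv_mem (htor t ht))
    rw [conj_uS, htl] at this
    convert this using 3
    rw [← htl, map_div₀, map_pow, th_tits hF]
    have hθ := θ_ne_zero (θ := th F m) t.ne_zero
    have ht2 : (t : F) ^ 2 ≠ 0 := pow_ne_zero 2 t.ne_zero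
    field_simp
  -- normalise the first parameter to one
  obtain ⟨c, hc⟩ : ∃ c, uS hF 1 c ∈ M :=
    ⟨_, by have := hscale hab a⁻¹ (inv_mem (hA a b hab)) (inv_ne_zero ha); rwa [inv_mul_cancel₀ ha] at this⟩
  have hcL : c ∈ L := by
    classical
    haveI := Fintype.ofFinite L
    rw [Nat.card_eq_fintype_card] at h3
    obtain ⟨μ, -, hμ⟩ := Finset.exists_mem_notMem_of_card_lt_card (s := ({0, 1} : Finset L)) (t := Finset.univ)
      (lt_of_le_of_lt Finset.card_le_two (by rw [Finset.card_univ]; exact h3))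
    simp only [Finset.mem_insert, Finset.mem_singleton, not_or] at hμ
    obtain ⟨hμ0, hμ1⟩ := hμ
    have hm0 : (μ : F) ≠ 0 := fun e => hμ0 (Subtype.ext e)
    have hm1 : (μ : F) + 1 ≠ 0 := fun e => hμ1 (Subtype.ext (CharTwo.add_eq_zero.1 e))
    have h1 := mul_mem hc (hscale hc μ μ.2 hm0)
    rw [uS_mul, mul_one, map_one, one_mul] at h1
    have h2' := hscale hc ((μ : F) + 1) (add_mem μ.2 (one_mem L)) hm1
    rw [mul_one] at h2'
    have h3' := mul_mem h1 (inv_mem h2')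
    rw [uS_inv, uS_mul, show 1 + (μ : F) + ((μ : F) + 1) = 0 by grind] at h3'
    have hX : th F m (μ : F) + μ ≠ 0 := fun e => by
      rcases fix_th hF (CharTwo.add_eq_zero.1 e) with h | h
      · exact hm0 h
      · exact hm1 (by rw [h]; exact CharTwo.add_self_eq_zero 1)
    have hmem := (hcen _).1 h3'
    have hθ : th F m (μ : F) ∈ L := th_mem hF μ.2
    have hθ1 : th F m (1 + (μ : F)) = 1 + th F m (μ : F) := by rw [map_add, map_one]
    have key : (th F m (μ : F) + μ) * c ∈ L := by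
      have e : (th F m (μ : F) + μ) * c = (c + th F m (μ : F) * μ * c + (μ : F) +
          (th F m ((μ : F) + 1) * ((μ : F) + 1) * c + th F m ((μ : F) + 1) * ((μ : F) + 1)) +
          th F m (1 + (μ : F)) * ((μ : F) + 1)) + (μ : F) := by
        rw [map_add (th F m) (μ : F) 1, map_one, hθ1]
        grind
      rw [e]
      exact add_mem hmem μ.2
    have := div_mem key (add_mem hθ μ.2)
    rwa [mul_div_cancel_left₀ _ hX] at this
  have hall' : ∀ x y, x ∈ L → y ∈ L → uS hF x y ∈ M := by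
    intro x y hx hy
    rcases eq_or_ne x 0 with rfl | hx0
    · exact (hcen y).2 hy
    have h1 := hscale hc x hx hx0
    rw [mul_one] at h1
    have h2' := mul_mem h1 ((hcen (y + th F m x * x * c)).2
      (add_mem hy (mul_mem (mul_mem (th_mem hF hx) hx) hcL)))
    rwa [uS_mul, add_zero, mul_zero, add_zero, show th F m x * x * c + (y + th F m x * x * c) = y by grind] at h2'
  refine ⟨fun x y h => ⟨hA x y h, ?_⟩, Or.inr hall'⟩
  have h1 := mul_mem h (inv_mem (hall' x 0 (hA x y h) (zero_mem L)))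
  rw [uS_inv, uS_mul, CharTwo.add_self_eq_zero] at h1
  have h2' := (hcen _).1 h1
  rwa [show y + (0 + th F m x * x) + th F m x * x = y by grind] at h2'

include hF in
theorem map_conj_ns {M : Subgroup (Cfsg.Sz F m)} (hns : ¬ Group.IsSolvable M) (g : Cfsg.Sz F m) :
    ¬ Group.IsSolvable (M.map (MulAut.conj g).toMonoidHom) := fun h => hns
  (Group.isSolvable_of_isSolvable_injective
    (f := (M.equivMapOfInjective (MulAut.conj g).toMonoidHom (MulAut.conj g).injective).toMonoidHom)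
    (M.equivMapOfInjective (MulAut.conj g).toMonoidHom (MulAut.conj g).injective).injective)

theorem mem_map_conj {G : Type*} [Group G] {M : Subgroup G} {g x : G} :
    x ∈ M.map (MulAut.conj g).toMonoidHom ↔ g⁻¹ * x * g ∈ M := by
  rw [Subgroup.mem_map]
  constructor
  · rintro ⟨y, hy, rfl⟩
    simpa [mul_assoc] using hy
  · exact fun h => ⟨g⁻¹ * x * g, h, by simp [mul_assoc]⟩

include hF in
/-- The normal form exists. -/
theorem exists_nf_subgroup (hm : 1 ≤ m) {M : Subgroup (Cfsg.Sz F m)} (hns : ¬ Group.IsSolvable M) :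
    ∃ (g : Cfsg.Sz F m) (k : ℕ) (L : Subfield F), 1 ≤ k ∧ 2 * k + 1 ∣ 2 * m + 1 ∧
      Nat.card L = 2 ^ (2 * k + 1) ∧ NF hF (M.map (MulAut.conj g).toMonoidHom) L := by
  classical
  haveI := Fact.mk Nat.prime_two
  have heven : 2 ∣ Nat.card M := by
    by_contra h
    exact hns (isSolvable_of_odd hF hm M (Nat.odd_iff.2 (by omega)))
  obtain ⟨⟨z, hz⟩, hzo⟩ := exists_prime_orderOf_dvd_card' 2 heven
  rw [Subgroup.orderOf_mk] at hzo
  obtain ⟨a, b, hab⟩ := exists_conj_uS hF hm (g := z) (by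
    rw [pow_mul z 2 2, ← hzo, pow_orderOf_eq_one, one_pow])
  obtain ⟨g₀, hg₀⟩ := isConj_iff.1 hab
  obtain ⟨c2, c1⟩ := conj_sq_one g₀ z (hzo ▸ pow_orderOf_eq_one z) (fun e => by simp [e] at hzo)
  rw [hg₀] at c2 c1
  obtain ⟨b', hb', e⟩ := involution_eq_uS hF hm c2 c1 (uS_none hF a b)
  obtain ⟨t, ht⟩ := th_unit_surjective (m := m) b'⁻¹ (inv_ne_zero hb')
  obtain ⟨g₁, hg₁⟩ : ∃ g₁, g₁ = tS hF t * g₀ := ⟨_, rfl⟩
  obtain ⟨M₁, hM₁⟩ : ∃ M₁, M₁ = M.map (MulAut.conj g₁).toMonoidHom := ⟨_, rfl⟩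
  have hns₁ : ¬ Group.IsSolvable M₁ := hM₁ ▸ map_conj_ns hF hns g₁
  have h01 : uS hF 0 1 ∈ M₁ := by
    rw [hM₁, mem_map_conj]
    have : tS hF t * uS hF 0 b' * (tS hF t)⁻¹ = uS hF 0 1 := by
      rw [conj_uS, mul_zero, ht, inv_mul_cancel₀ hb']
    rw [← this, ← e, ← hg₀, hg₁]
    simpa [mul_assoc] using hz
  obtain ⟨L, hL⟩ := exists_subfield hF hm hns₁ h01
  obtain ⟨d, hd, hLd⟩ := exists_subfield_degree hF L
  have hd1 : d ≠ 1 := fun e => subfield_ne_two hF hm hns₁ h01 hL (by rw [hLd, e, pow_one])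
  obtain ⟨k, rfl⟩ : Odd d := Odd.of_dvd_nat (odd_two_mul_add_one m) hd
  have hk : 1 ≤ k := by omega
  have h8 : 8 ≤ Nat.card L := by
    rw [hLd]
    exact le_trans (by norm_num) (Nat.pow_le_pow_right (n := 2) (by norm_num) (show 3 ≤ 2 * k + 1 by omega))
  -- a generator of the torus
  haveI := Fintype.ofFinite L
  obtain ⟨γ, hγ⟩ := IsCyclic.exists_generator (α := Lˣ)
  obtain ⟨t₀, ht₀⟩ : ∃ t₀ : Fˣ, t₀ = Units.map (L.subtype : L →* F) γ := ⟨_, rfl⟩
  have ht₀L : (t₀ : F) ∈ L := ht₀ ▸ (γ : L).2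
  have ht₀1 : t₀ ≠ 1 := fun e => by
    have hγ1 : γ = 1 := Units.map_injective (f := (L.subtype : L →* F)) Subtype.val_injective
      ((ht₀.symm.trans e).trans (map_one _).symm)
    have h : Fintype.card Lˣ ≤ 1 := Fintype.card_le_one_iff.2 fun u v => by
      have hu := hγ u
      have hv := hγ v
      rw [hγ1, Subgroup.zpowers_one_eq_bot, Subgroup.mem_bot] at hu hv
      rw [hu, hv]
    rw [Fintype.card_units, ← Nat.card_eq_fintype_card (α := L)] at h
    omega
  obtain ⟨x, y, t', hxy, ht'⟩ := center_step hF hm hns₁ h01 (θ_ne_zero t₀.ne_zero) ((hL _).1 (th_mem hF ht₀L))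
  have htt : t' = t₀ := Units.ext ((th F m).injective ht')
  subst htt
  obtain ⟨u, v, huv⟩ := exists_conj_tS hF x y ht₀1
  obtain ⟨M₂, hM₂⟩ : ∃ M₂, M₂ = M₁.map (MulAut.conj (uS hF u v)⁻¹).toMonoidHom := ⟨_, rfl⟩
  have hns₂ : ¬ Group.IsSolvable M₂ := hM₂ ▸ map_conj_ns hF hns₁ _
  have hcen : ∀ b, uS hF 0 b ∈ M₂ ↔ b ∈ L := fun b => by
    rw [hM₂, mem_map_conj, inv_inv, hL, ← uS_comm_zero hF, mul_inv_cancel_right]
  have htor0 : tS hF t' ∈ M₂ := by
    rw [hM₂, mem_map_conj, inv_inv, huv]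
    exact hxy
  have htor : ∀ t : Fˣ, (t : F) ∈ L → tS hF t ∈ M₂ := fun t ht => by
    obtain ⟨j, hj⟩ := Subgroup.mem_zpowers_iff.1 (hγ (Units.mk0 ⟨(t : F), ht⟩ fun e => t.ne_zero (congrArg Subtype.val e)))
    have e : t = t' ^ j := by
      rw [ht₀, ← map_zpow, hj]
      exact Units.ext rfl
    rw [e, map_zpow]
    exact zpow_mem htor0 j
  obtain ⟨hoff, hdich⟩ := offsets hF hm (by omega) hcen htor
  refine ⟨(uS hF u v)⁻¹ * g₁, k, L, hk, hd, hLd, ?_⟩
  have hmap : M.map (MulAut.conj ((uS hF u v)⁻¹ * g₁)).toMonoidHom = M₂ := by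
    ext w
    rw [hM₂, hM₁, mem_map_conj, mem_map_conj, mem_map_conj]
    simp [mul_assoc]
  rw [hmap]
  refine ⟨hns₂, hcen, htor, fun w hw hfix => ?_, hdich⟩
  obtain ⟨a', b'', t, rfl⟩ := stab_inf hF hm hfix
  have hθt : th F m (t : F) ∈ L := (hcen _).1 (by
    have h := mul_mem (mul_mem hw ((hcen 1).2 (one_mem L))) (inv_mem hw)
    rwa [conj_center_tS hF, mul_one] at h)
  have htL := th_surj hF hθt
  have := mul_mem hw (inv_mem (htor t htL))
  rw [mul_inv_cancel_right] at this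
  exact ⟨a', b'', t, (hoff _ _ this).1, (hoff _ _ this).2, htL, rfl⟩

end CfsgLib.Lie.Suzuki
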