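import Cfsg.Agent.Lib.Lie.Suzuki.BinaryCriteria
import Cfsg.Agent.Lib.Lie.Suzuki.SubgroupNormal

/-!
# Subgroups of the centre of a Sylow 2-subgroup of a Suzuki group and binary actions

* `exists_triple`: an additive subgroup other than `0` and the field has two multiples in general position
* `eq_top_of_bin`: a binary action with stabiliser inside the centre
* `bin_center`: the centre gives a binary action
-/

set_option autoImplicit false

namespace CfsgLib.Lie.Suzuki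

section Triple

variable {F : Type*} [Field F] [CharP F 2] [Fintype F] [Algebra (ZMod 2) F]

omit [CharP F 2] in
theorem exists_small {V : Submodule (ZMod 2) F} (hb : V ≠ ⊥)
    (hcard : Nat.card V * Nat.card V ≤ Fintype.card F) :
    ∃ l μ w v : F, l ≠ 0 ∧ μ ≠ 0 ∧ w ∈ V ∧ v ∈ V ∧ (∀ y ∈ V, l⁻¹ * y ∈ V → y = 0) ∧
      μ⁻¹ * (w + l * v) ∈ V ∧ μ⁻¹ * w ∉ V := by
  classical
  obtain ⟨w, hw, hw0⟩ := Submodule.exists_mem_ne_zero_of_ne_bot hb
  let S : Finset F := (Finset.univ.filter fun x => x ∈ V).erase 0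
  have hS : S.card + 1 = Nat.card V := by
    rw [Finset.card_erase_add_one (Finset.mem_filter.2 ⟨Finset.mem_univ _, zero_mem V⟩), Nat.card_eq_fintype_card,
      ← Fintype.card_subtype]
  have hmem : ∀ {y}, y ∈ V → y ≠ 0 → y ∈ S := fun hy h0 =>
    Finset.mem_erase.2 ⟨h0, Finset.mem_filter.2 ⟨Finset.mem_univ _, hy⟩⟩
  obtain ⟨l, -, hl⟩ := Finset.exists_mem_notMem_of_card_lt_card
    (s := insert (0 : F) ((S ×ˢ S).image fun p => p.1 / p.2)) (t := Finset.univ) (by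
      rw [Finset.card_univ]
      refine lt_of_le_of_lt (Finset.card_insert_le _ _) ?_
      have h1 : ((S ×ˢ S).image fun p => p.1 / p.2).card ≤ S.card * S.card :=
        Finset.card_image_le.trans (Finset.card_product _ _).le
      have h2 : 1 ≤ S.card := Finset.card_pos.2 ⟨w, hmem hw hw0⟩
      rw [← hS] at hcard
      nlinarith)
  simp only [Finset.mem_insert, not_or] at hl
  obtain ⟨hl0, hlR⟩ := hl
  have hdis : ∀ y ∈ V, l⁻¹ * y ∈ V → y = 0 := fun y hy hy' => by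
    by_contra h0
    refine hlR (Finset.mem_image.2 ⟨(y, l⁻¹ * y), Finset.mem_product.2
      ⟨hmem hy h0, hmem hy' (mul_ne_zero (inv_ne_zero hl0) h0)⟩, ?_⟩)
    show y / (l⁻¹ * y) = l
    field_simp
  obtain ⟨μ, hμ, hμ'⟩ := Finset.exists_mem_notMem_of_card_lt_card (s := S.image fun v => w / v)
    (t := (Finset.univ.filter fun x => x ∈ V).image fun v => (w + l * v) / w) (by
      refine lt_of_le_of_lt Finset.card_image_le ?_
      rw [Finset.card_image_of_injective _ (fun a b h =>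
        mul_left_cancel₀ hl0 (add_left_cancel ((div_left_inj' hw0).1 h)))]
      exact Finset.card_erase_lt_of_mem (Finset.mem_filter.2 ⟨Finset.mem_univ _, zero_mem V⟩))
  obtain ⟨v, hv, rfl⟩ := Finset.mem_image.1 hμ
  have hv' := (Finset.mem_filter.1 hv).2
  have hne : w + l * v ≠ 0 := fun e => hw0 (hdis w hw (by
    rw [eq_neg_of_add_eq_zero_left e, mul_neg, inv_mul_cancel_left₀ hl0]
    exact neg_mem hv'))
  refine ⟨l, (w + l * v) / w, w, v, hl0, div_ne_zero hne hw0, hw, hv', hdis, ?_, fun h => ?_⟩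
  · rwa [inv_div, div_mul_cancel₀ _ hne]
  · refine hμ' (Finset.mem_image.2 ⟨((w + l * v) / w)⁻¹ * w, hmem h
      (mul_ne_zero (inv_ne_zero (div_ne_zero hne hw0)) hw0), ?_⟩)
    field_simp

/-- Two multiples in general position. -/
theorem exists_triple {V : Submodule (ZMod 2) F} (hb : V ≠ ⊥) (ht : V ≠ ⊤) :
    ∃ x s₁ s₂ : F, s₁ ≠ 0 ∧ s₂ ≠ 0 ∧ (∃ v ∈ V, s₁⁻¹ * (x + v) ∈ V) ∧ (∃ v ∈ V, s₂⁻¹ * (x + v) ∈ V) ∧
      ∀ v ∈ V, ¬ (s₁⁻¹ * (x + v) ∈ V ∧ s₂⁻¹ * (x + v) ∈ V) := by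
  classical
  haveI : Fact (Nat.Prime 2) := ⟨Nat.prime_two⟩
  by_cases hsmall : Nat.card V * Nat.card V ≤ Fintype.card F
  · obtain ⟨l, μ, w, v, hl, hμ, hw, hv, hdis, h1, h2⟩ := exists_small hb hsmall
    refine ⟨l⁻¹ * w, l⁻¹, μ / l, inv_ne_zero hl, div_ne_zero hμ hl, ⟨0, zero_mem V, ?_⟩, ⟨v, hv, ?_⟩, ?_⟩
    · rwa [inv_inv, add_zero, mul_inv_cancel_left₀ hl]
    · convert h1 using 1
      field_simp
    · intro v' hv' ⟨e1, e2⟩
      rw [inv_inv, mul_add, mul_inv_cancel_left₀ hl] at e1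
      have e3 : l * v' = 0 := hdis _ ((V.add_mem_iff_right hw).1 e1) (by rwa [inv_mul_cancel_left₀ hl])
      rw [(mul_eq_zero.1 e3).resolve_left hl, add_zero] at e2
      refine h2 ?_
      convert e2 using 1
      field_simp
  -- pass to the annihilator
  let B : LinearMap.BilinForm (ZMod 2) F := Algebra.traceForm (ZMod 2) F
  have hnd : B.Nondegenerate := traceForm_nondegenerate (ZMod 2) F
  have hsym : B.IsRefl := (Algebra.traceForm_isSymm (ZMod 2) (S := F)).isRefl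
  have hB : ∀ a y z : F, B (a * y) z = B y (a * z) := fun a y z => by
    simp only [B, Algebra.traceForm_apply]; congr 1; ring
  let W := B.orthogonal V
  have hWW : B.orthogonal W = V := LinearMap.BilinForm.orthogonal_orthogonal hnd hsym V
  have hWb : W ≠ ⊥ := fun e => ht (by
    rw [← hWW, e]
    exact eq_top_iff.2 fun y _ => LinearMap.BilinForm.mem_orthogonal_iff.2 fun n hn => by
      rw [Submodule.mem_bot] at hn
      simp [hn])
  have hprod : Nat.card W * Nat.card V = Fintype.card F := by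
    have hF : Fintype.card F = Nat.card (ZMod 2) ^ Module.finrank (ZMod 2) F := by
      rw [← Nat.card_eq_fintype_card, ← Module.natCard_eq_pow_finrank]
    rw [Module.natCard_eq_pow_finrank (K := ZMod 2) (V := W), Module.natCard_eq_pow_finrank (K := ZMod 2) (V := V), hF,
      ← pow_add, LinearMap.BilinForm.finrank_orthogonal hnd]
    congr 1
    have := Submodule.finrank_le V
    omega
  have hWsmall : Nat.card W * Nat.card W ≤ Fintype.card F := by
    rw [← hprod] at hsmall ⊢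
    have h : Nat.card W < Nat.card V := by
      by_contra h
      exact hsmall (Nat.mul_le_mul_right _ (not_lt.1 h))
    exact Nat.mul_le_mul_left _ h.le
  obtain ⟨l, μ, w, w₁, hl, hμ, hw, hw₁, hdis, h1, h2⟩ := exists_small hWb hWsmall
  -- multiples of the annihilator
  have hmul : ∀ {s : F}, s ≠ 0 → ∀ {y : F}, (∀ v ∈ V, B (s * v) y = 0) → s * y ∈ W := fun hs y hy =>
    LinearMap.BilinForm.mem_orthogonal_iff.2 fun v hv => by rw [← hB]; exact hy v hv
  let T : F → Submodule (ZMod 2) F := fun s => V.map (LinearMap.mulLeft (ZMod 2) s)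
  have hT : ∀ {s y : F}, s ≠ 0 → y ∈ T s → s⁻¹ * y ∈ V := fun hs hy => by
    obtain ⟨v, hv, rfl⟩ := hy
    rwa [LinearMap.mulLeft_apply, inv_mul_cancel_left₀ hs]
  have hsplit : ∀ {s x : F}, s ≠ 0 → x ∈ V ⊔ T s → ∃ v ∈ V, s⁻¹ * (x + v) ∈ V := fun hs hx => by
    obtain ⟨v, hv, u, hu, rfl⟩ := Submodule.mem_sup.1 hx
    refine ⟨v, hv, ?_⟩
    rw [show v + u + v = u + (v + v) by ring, CharTwo.add_self_eq_zero, add_zero]
    exact hT hs hu
  have horth : ∀ {s y : F}, s ≠ 0 → y ∈ B.orthogonal (V ⊔ T s⁻¹) → y ∈ W ∧ s⁻¹ * y ∈ W := fun hs hy =>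
    ⟨LinearMap.BilinForm.orthogonal_le le_sup_left hy,
      hmul (inv_ne_zero hs) fun v hv => hy _ (Submodule.mem_sup_right ⟨v, hv, rfl⟩)⟩
  let U : Submodule (ZMod 2) F := W ⊓ W.comap (LinearMap.mulLeft (ZMod 2) μ⁻¹)
  obtain ⟨x, hxU, hxw⟩ : ∃ x ∈ B.orthogonal U, B w x ≠ 0 := by
    by_contra h
    push Not at h
    have hwU : w ∈ U := by
      rw [← LinearMap.BilinForm.orthogonal_orthogonal hnd hsym U]
      exact fun x hx => hsym _ _ (h x hx)
    exact h2 hwU.2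
  refine ⟨x, l⁻¹, μ⁻¹, inv_ne_zero hl, inv_ne_zero hμ, hsplit (inv_ne_zero hl) ?_, hsplit (inv_ne_zero hμ) ?_, ?_⟩
  · have : B.orthogonal (V ⊔ T l⁻¹) = ⊥ := by
      rw [eq_bot_iff]
      intro y hy
      rw [Submodule.mem_bot]
      obtain ⟨e1, e2⟩ := horth hl hy
      exact hdis y e1 e2
    rw [← LinearMap.BilinForm.orthogonal_orthogonal hnd hsym (V ⊔ T l⁻¹), this]
    exact LinearMap.BilinForm.mem_orthogonal_iff.2 fun n hn => by
      rw [Submodule.mem_bot] at hn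
      simp [hn]
  · rw [← LinearMap.BilinForm.orthogonal_orthogonal hnd hsym (V ⊔ T μ⁻¹)]
    refine LinearMap.BilinForm.orthogonal_le ?_ hxU
    exact fun y hy => horth hμ hy
  · intro v hv ⟨e1, e2⟩
    rw [inv_inv] at e1 e2
    refine hxw ?_
    have key : B w (x + v) = 0 := by
      have e : B w (x + v) = B (w + l * w₁) (x + v) - B (l * w₁) (x + v) := by
        rw [← LinearMap.sub_apply, ← map_sub, add_sub_cancel_right]
      have ea : B (l * w₁) (x + v) = 0 := by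
        rw [hB]
        exact hsym _ _ (LinearMap.BilinForm.mem_orthogonal_iff.1 hw₁ _ e1)
      have eb : B (w + l * w₁) (x + v) = 0 := by
        rw [show w + l * w₁ = μ * (μ⁻¹ * (w + l * w₁)) by rw [mul_inv_cancel_left₀ hμ], hB]
        exact hsym _ _ (LinearMap.BilinForm.mem_orthogonal_iff.1 h1 _ e2)
      rw [e, ea, eb, sub_zero]
    rwa [map_add, hsym _ _ (LinearMap.BilinForm.mem_orthogonal_iff.1 hw v hv), add_zero] at key

end Triple

variable {F : Type*} [Field F] [CharP F 2] [Fintype F] {m : ℕ}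
  (hF : Fintype.card F = 2 ^ (2 * m + 1))

/-- The centre of the unipotent group at infinity. -/
def zSub (hF : Fintype.card F = 2 ^ (2 * m + 1)) : Subgroup (Cfsg.Sz F m) where
  carrier := {g | ∃ b, g = uS hF 0 b}
  one_mem' := ⟨0, (uS_one hF).symm⟩
  mul_mem' := by
    rintro _ _ ⟨b, rfl⟩ ⟨c, rfl⟩
    exact ⟨b + c, by rw [uS_mul]; simp⟩
  inv_mem' := by
    rintro _ ⟨b, rfl⟩
    exact ⟨b, by rw [uS_inv]; simp⟩

theorem mem_zSub {g : Cfsg.Sz F m} : g ∈ zSub hF ↔ ∃ b, g = uS hF 0 b := Iff.rfl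

include hF in
theorem map_center_unip (hm : 1 ≤ m) : (Subgroup.center (unip hF)).map (unip hF).subtype = zSub hF := by
  ext g
  constructor
  · rintro ⟨u, hu, rfl⟩
    exact (center_unip hF hm u).1 hu
  · rintro ⟨b, rfl⟩
    exact ⟨⟨uS hF 0 b, uS_mem hF 0 b⟩, (center_unip hF hm _).2 ⟨b, rfl⟩, rfl⟩

include hF in
/-- A binary action with point stabiliser inside the centre. -/
theorem eq_zSub_of_bin {H : Subgroup (Cfsg.Sz F m)} (hB : Bin H) (hb : H ≠ ⊥) (hle : H ≤ zSub hF) :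
    H = zSub hF := by
  classical
  haveI : Fact (Nat.Prime 2) := ⟨Nat.prime_two⟩
  let _ : Algebra (ZMod 2) F := ZMod.algebra F 2
  let V₀ : AddSubgroup F :=
    { carrier := {b | uS hF 0 b ∈ H}
      zero_mem' := by show uS hF 0 0 ∈ H; rw [uS_one]; exact one_mem H
      add_mem' := fun {a b} (ha : uS hF 0 a ∈ H) (hb : uS hF 0 b ∈ H) => by
        show uS hF 0 (a + b) ∈ H
        simpa [uS_mul] using mul_mem ha hb
      neg_mem' := fun {a} ha => by rwa [CharTwo.neg_eq] }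
  let V : Submodule (ZMod 2) F := AddSubgroup.toZModSubmodule 2 V₀
  have hV : ∀ {b : F}, b ∈ V ↔ uS hF 0 b ∈ H := fun {b} => Iff.rfl
  by_contra hne
  have hVb : V ≠ ⊥ := fun e => hb (eq_bot_iff.2 fun g hg => by
    obtain ⟨b, rfl⟩ := hle hg
    have : b ∈ V := hV.2 hg
    rw [e, Submodule.mem_bot] at this
    rw [this, uS_one]
    exact one_mem _)
  have hVt : V ≠ ⊤ := fun e => hne (le_antisymm hle fun g hg => by
    obtain ⟨b, rfl⟩ := hg
    exact hV.1 (e ▸ Submodule.mem_top))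
  obtain ⟨x, s₁, s₂, hs₁, hs₂, ⟨v₁, hv₁, e₁⟩, ⟨v₂, hv₂, e₂⟩, hno⟩ := exists_triple hVb hVt
  obtain ⟨t₁, ht₁⟩ := th_unit_surjective (m := m) s₁ hs₁
  obtain ⟨t₂, ht₂⟩ := th_unit_surjective (m := m) s₂ hs₂
  have key : ∀ (t : Fˣ) (v y : F), (uS hF 0 y * tS hF t)⁻¹ * uS hF 0 v * tS hF t =
      uS hF 0 ((th F m (t : F))⁻¹ * (y + v)) := fun t v y => by
    rw [mul_inv_rev, uS_inv, map_zero, zero_mul, add_zero, mul_assoc _ (uS hF 0 y), uS_mul, map_zero, zero_mul, add_zero, add_zero]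
    have h := conj_uS hF t⁻¹ 0 (y + v)
    rw [mul_zero, map_inv, inv_inv, Units.val_inv_eq_inv_val, map_inv₀] at h
    exact h
  obtain ⟨g, h0, h1, h2⟩ := hB.three (a := 1) (b := tS hF t₁) (c := tS hF t₂) (a' := 1)
    (b' := uS hF 0 x * tS hF t₁) (c' := uS hF 0 x * tS hF t₂)
    ⟨uS hF 0 v₁, by simpa using hV.1 hv₁, by rw [key, ht₁]; exact hV.1 e₁⟩
    ⟨uS hF 0 v₂, by simpa using hV.1 hv₂, by rw [key, ht₂]; exact hV.1 e₂⟩
    ⟨uS hF 0 x, by rw [key, CharTwo.add_self_eq_zero, mul_zero, uS_one]; exact one_mem H,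
      by rw [key, CharTwo.add_self_eq_zero, mul_zero, uS_one]; exact one_mem H⟩
  simp only [inv_one, one_mul, mul_one] at h0
  obtain ⟨v, rfl⟩ := hle h0
  rw [key, ht₁] at h1
  rw [key, ht₂] at h2
  exact hno v (hV.2 h0) ⟨hV.2 h1, hV.2 h2⟩

include hF in
/-- An element of a conjugate of the centre. -/
theorem zSub_conj_data {g a : Cfsg.Sz F m} (h : a⁻¹ * g * a ∈ zSub hF) :
    g ^ 2 = 1 ∧ g • a • pt F m none = a • pt F m none ∧
      (g ≠ 1 → ∀ y, g • y = y → y = a • pt F m none) := by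
  obtain ⟨b, hb⟩ := h
  have hg : g = a * uS hF 0 b * a⁻¹ := by rw [← hb]; group
  subst hg
  refine ⟨by rw [conj_pow, uS_sq]; simp [uS_one], conj_fix (uS_none hF 0 b), fun h1 y hy => ?_⟩
  have hb0 : b ≠ 0 := fun e => h1 (by rw [e, uS_one, mul_one, mul_inv_cancel])
  rw [mul_smul, mul_smul] at hy
  have := eq_inf_of_fix hF hb0 (eq_inv_smul_iff.2 hy)
  rw [← this, smul_inv_smul]

include hF in
/-- The centre of a Sylow subgroup gives a binary action. -/
theorem bin_center (hm : 1 ≤ m) : Bin (zSub hF) := by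
  classical
  intro n I J hn hloc
  choose a ha using fun i => QuotientGroup.mk_surjective (I i)
  have hfix : ∀ {g : Cfsg.Sz F m} {i : Fin n}, g • I i = I i ↔ (a i)⁻¹ * g * a i ∈ zSub hF := fun {g i} => by
    rw [← ha i]; exact smul_coset_eq_iff
  obtain ⟨i₀, hi₀⟩ : ∃ i : Fin n, i.1 = 0 := ⟨⟨0, by omega⟩, rfl⟩
  -- the conjugates of the centre at the same point agree
  have hsame : ∀ {g : Cfsg.Sz F m} {i j : Fin n}, a i • pt F m none = a j • pt F m none →
      g • I i = I i → g • I j = I j := by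
    intro g i j he hg
    obtain ⟨b, hb⟩ := hfix.1 hg
    obtain ⟨c, d, t, ht⟩ := stab_inf hF hm (g := (a j)⁻¹ * a i) (by rw [mul_smul, he, inv_smul_smul])
    refine hfix.2 ⟨th F m t * b, ?_⟩
    rw [← conj_center_tS hF c d b t, ← ht, ← hb]
    group
  by_cases hall : ∀ i, a i • pt F m none = a i₀ • pt F m none
  · obtain ⟨g, hg, -⟩ := hloc i₀ ⟨1, by omega⟩ (fun e => by have := congrArg Fin.val e; simp only at this; omega)
    refine ⟨g, fun j => ?_⟩
    by_cases hj : j = i₀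
    · rw [hj]; exact hg
    obtain ⟨g', hg', hj'⟩ := hloc i₀ j (Ne.symm hj)
    have : (g'⁻¹ * g) • I j = I j := hsame (hall j).symm (by rw [mul_smul, hg, inv_smul_eq_iff, hg'])
    rwa [mul_smul, inv_smul_eq_iff, hj'] at this
  push Not at hall
  obtain ⟨i, hi⟩ := hall
  have hii : i ≠ i₀ := fun e => hi (by rw [e])
  obtain ⟨g, hg0, hgi⟩ := hloc i₀ i hii.symm
  refine ⟨g, fun j => ?_⟩
  by_cases hj : j = i₀
  · rw [hj]; exact hg0
  by_cases hji : j = i
  · rw [hji]; exact hgi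
  obtain ⟨g', hg'0, hg'j⟩ := hloc i₀ j (Ne.symm hj)
  have hh0 : (g⁻¹ * g') • I i₀ = I i₀ := by rw [mul_smul, hg'0, inv_smul_eq_iff, hg0]
  by_cases hpj : a i₀ • pt F m none = a j • pt F m none
  · have := hsame hpj hh0
    rw [mul_smul, inv_smul_eq_iff, hg'j] at this
    exact this.symm
  obtain ⟨f, hfi, hfj⟩ := hloc i j (Ne.symm hji)
  have hki : (g⁻¹ * f) • I i = I i := by rw [mul_smul, hfi, inv_smul_eq_iff, hgi]
  have hkj : (g'⁻¹ * f) • I j = I j := by rw [mul_smul, hfj, inv_smul_eq_iff, hg'j]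
  obtain ⟨-, hp, hu⟩ := zSub_conj_data hF (hfix.1 hh0)
  obtain ⟨hk2, hkp, hku⟩ := zSub_conj_data hF (hfix.1 hki)
  obtain ⟨hk'2, hk'p, hk'u⟩ := zSub_conj_data hF (hfix.1 hkj)
  by_cases h1 : g⁻¹ * g' = 1
  · rw [inv_mul_eq_one.1 h1]; exact hg'j
  exfalso
  have e : g⁻¹ * g' = (g⁻¹ * f) * (g'⁻¹ * f)⁻¹ := by group
  by_cases hk1 : g⁻¹ * f = 1
  · rw [hk1, one_mul] at e
    refine hpj ((hu h1 _ ?_).symm)
    rw [e, inv_smul_eq_iff, hk'p]
  by_cases hk'1 : g'⁻¹ * f = 1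
  · rw [hk'1, inv_one, mul_one] at e
    exact hi (hu h1 _ (by rw [e, hkp]))
  -- two involutions with an involution as product commute
  obtain ⟨h2, -, -⟩ := zSub_conj_data hF (hfix.1 hh0)
  have hki' : (g⁻¹ * f)⁻¹ = g⁻¹ * f := inv_eq_of_mul_eq_one_right (by rw [← sq, hk2])
  have hk'i : (g'⁻¹ * f)⁻¹ = g'⁻¹ * f := inv_eq_of_mul_eq_one_right (by rw [← sq, hk'2])
  have hcomm : Commute (g⁻¹ * f) (g'⁻¹ * f) := by
    have hh : (g⁻¹ * g')⁻¹ = g⁻¹ * g' := inv_eq_of_mul_eq_one_right (by rw [← sq, h2])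
    rw [e, mul_inv_rev, inv_inv, hki', hk'i] at hh
    exact hh.symm
  have e1 : (g⁻¹ * f) • a j • pt F m none = a j • pt F m none :=
    hk'u hk'1 _ (smul_of_commute hcomm.symm hk'p)
  have e2 : a j • pt F m none = a i • pt F m none := hku hk1 _ e1
  refine hi (hu h1 _ ?_)
  rw [e, mul_smul, hk'i, ← e2, hk'p, e1]

end CfsgLib.Lie.Suzuki
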