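import Mathlib

/-!
# Criteria against binary coset actions

* `Bin`: the coset action is binary
* `Bin.product`: products of elements of two conjugates inside the subgroup
* `Bin.triangle`: no triangle in an orbital when three does not divide the order
* `Bin.three`: compatible partial maps of three points
* `bin_map`: transport along an isomorphism
-/

set_option autoImplicit false

namespace CfsgLib.Lie.Suzuki

/-- The action on the cosets of `H` is binary. -/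
def Bin {G : Type*} [Group G] (H : Subgroup G) : Prop :=
  ∀ (n : ℕ) (I J : Fin n → G ⧸ H), 2 ≤ n →
    (∀ i j : Fin n, i ≠ j → ∃ g : G, g • I i = J i ∧ g • I j = J j) → ∃ g : G, ∀ i, g • I i = J i

variable {G : Type*} [Group G] {H : Subgroup G}

theorem smul_coset_eq_iff {g a b : G} : g • (a : G ⧸ H) = (b : G ⧸ H) ↔ b⁻¹ * g * a ∈ H := by
  rw [MulAction.Quotient.smul_coe, smul_eq_mul, eq_comm, QuotientGroup.eq, mul_assoc]

theorem Bin.three (hB : Bin H) {a b c a' b' c' : G}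
    (h1 : ∃ g, a'⁻¹ * g * a ∈ H ∧ b'⁻¹ * g * b ∈ H) (h2 : ∃ g, a'⁻¹ * g * a ∈ H ∧ c'⁻¹ * g * c ∈ H)
    (h3 : ∃ g, b'⁻¹ * g * b ∈ H ∧ c'⁻¹ * g * c ∈ H) :
    ∃ g, a'⁻¹ * g * a ∈ H ∧ b'⁻¹ * g * b ∈ H ∧ c'⁻¹ * g * c ∈ H := by
  obtain ⟨g, hg⟩ := hB 3 ![(a : G ⧸ H), b, c] ![(a' : G ⧸ H), b', c'] (by norm_num) fun i j hij => by
    obtain ⟨g₁, hg₁⟩ := h1
    obtain ⟨g₂, hg₂⟩ := h2
    obtain ⟨g₃, hg₃⟩ := h3
    fin_cases i <;> fin_cases j
    · exact absurd rfl hij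
    · exact ⟨g₁, smul_coset_eq_iff.2 hg₁.1, smul_coset_eq_iff.2 hg₁.2⟩
    · exact ⟨g₂, smul_coset_eq_iff.2 hg₂.1, smul_coset_eq_iff.2 hg₂.2⟩
    · exact ⟨g₁, smul_coset_eq_iff.2 hg₁.2, smul_coset_eq_iff.2 hg₁.1⟩
    · exact absurd rfl hij
    · exact ⟨g₃, smul_coset_eq_iff.2 hg₃.1, smul_coset_eq_iff.2 hg₃.2⟩
    · exact ⟨g₂, smul_coset_eq_iff.2 hg₂.2, smul_coset_eq_iff.2 hg₂.1⟩
    · exact ⟨g₃, smul_coset_eq_iff.2 hg₃.2, smul_coset_eq_iff.2 hg₃.1⟩
    · exact absurd rfl hij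
  exact ⟨g, smul_coset_eq_iff.1 (hg 0), smul_coset_eq_iff.1 (hg 1), smul_coset_eq_iff.1 (hg 2)⟩

/-- An element of the subgroup that is a product from two conjugates is a product from the two meets. -/
theorem Bin.product (hB : Bin H) {x y h b c : G} (hh : h ∈ H) (hb : x⁻¹ * b * x ∈ H) (hc : y⁻¹ * c * y ∈ H)
    (e : h = b * c) : ∃ i j, i ∈ H ∧ x⁻¹ * i * x ∈ H ∧ j ∈ H ∧ y⁻¹ * j * y ∈ H ∧ h = i * j := by
  obtain ⟨g, h0, h1, h2⟩ := hB.three (a := 1) (b := x) (c := y) (a' := 1) (b' := x) (c' := h * y)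
    ⟨1, by simp, by simp⟩ ⟨h, by simpa using hh, by simp [mul_assoc]⟩
    ⟨b, hb, by simpa [e, mul_assoc] using inv_mem hc⟩
  simp only [inv_one, one_mul, mul_one] at h0
  refine ⟨g, g⁻¹ * h, h0, h1, mul_mem (inv_mem h0) hh, ?_, (mul_inv_cancel_left g h).symm⟩
  simpa [mul_assoc] using inv_mem h2

/-- There is no triangle inside an orbital. -/
theorem Bin.triangle [Finite G] (hB : Bin H) (h3 : ¬ 3 ∣ Nat.card G) {b u : G} (hu : u ∈ H)
    (hv : b * b * u * b ∈ H) : b ∈ H := by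
  obtain ⟨g, h0, h1, h2⟩ := hB.three (a := 1) (b := b) (c := b⁻¹) (a' := b) (b' := b⁻¹) (c' := 1)
    ⟨b * u, by simpa [mul_assoc] using hu, by simpa [mul_assoc] using hv⟩
    ⟨b, by simp, by simp⟩
    ⟨(b * u * b)⁻¹, by simpa [mul_assoc] using inv_mem hu, by simpa [mul_assoc] using inv_mem hv⟩
  have hcube : g * g * g ∈ H := by
    have h := mul_mem (mul_mem h2 h1) h0
    simpa [mul_assoc] using h
  have hco : (orderOf g).Coprime 3 := by
    rw [Nat.coprime_comm, Nat.Prime.coprime_iff_not_dvd Nat.prime_three]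
    exact fun h => h3 (h.trans (orderOf_dvd_natCard g))
  have hg : g ∈ H := by
    obtain ⟨j, hj⟩ := exists_pow_eq_self_of_coprime (x := g) (n := 3) hco.symm
    rw [← hj]
    refine pow_mem ?_ j
    rwa [pow_succ, pow_two]
  have := mul_mem hg (inv_mem (show b⁻¹ * g ∈ H by simpa using h0))
  simpa using this

theorem bin_map {G' : Type*} [Group G'] (e : G ≃* G') (hB : Bin H) : Bin (H.map e.toMonoidHom) := by
  intro n I J hn hloc
  choose a ha using fun i => QuotientGroup.mk_surjective (I i)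
  choose b hb using fun i => QuotientGroup.mk_surjective (J i)
  have key : ∀ (i : Fin n) (g : G'), g • I i = J i ↔ (e.symm (b i))⁻¹ * e.symm g * e.symm (a i) ∈ H := by
    intro i g
    rw [← ha i, ← hb i, smul_coset_eq_iff, Subgroup.mem_map]
    constructor
    · rintro ⟨x, hx, he⟩
      have he' : x = e.symm ((b i)⁻¹ * g * a i) := by rw [← he]; exact (e.symm_apply_apply x).symm
      rwa [he', map_mul, map_mul, map_inv] at hx
    · intro h
      exact ⟨_, h, by simp⟩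
  obtain ⟨g, hg⟩ := hB n (fun i => (e.symm (a i) : G ⧸ H)) (fun i => (e.symm (b i) : G ⧸ H)) hn fun i j hij => by
    obtain ⟨g, h1, h2⟩ := hloc i j hij
    exact ⟨e.symm g, smul_coset_eq_iff.2 ((key i g).1 h1), smul_coset_eq_iff.2 ((key j g).1 h2)⟩
  exact ⟨e g, fun i => (key i _).2 (by simpa using smul_coset_eq_iff.1 (hg i))⟩

theorem bin_map_iff {G' : Type*} [Group G'] (e : G ≃* G') : Bin (H.map e.toMonoidHom) ↔ Bin H := by
  refine ⟨fun h => ?_, bin_map e⟩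
  have h' := bin_map e.symm h
  rwa [Subgroup.map_map, show e.symm.toMonoidHom.comp e.toMonoidHom = MonoidHom.id G from
    MonoidHom.ext fun x => e.symm_apply_apply x, Subgroup.map_id] at h'

theorem bin_bot : Bin (⊥ : Subgroup G) := by
  intro n I J hn hloc
  obtain ⟨g, hg, -⟩ := hloc ⟨0, by omega⟩ ⟨1, by omega⟩ (by simp)
  refine ⟨g, fun i => ?_⟩
  by_cases hi : i = ⟨0, by omega⟩
  · rw [hi]; exact hg
  obtain ⟨g', h1, h2⟩ := hloc ⟨0, by omega⟩ i (Ne.symm hi)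
  obtain ⟨a, ha⟩ := QuotientGroup.mk_surjective (I ⟨0, by omega⟩)
  obtain ⟨b, hb⟩ := QuotientGroup.mk_surjective (J ⟨0, by omega⟩)
  rw [← ha, ← hb] at hg h1
  have e1 := Subgroup.mem_bot.1 (smul_coset_eq_iff.1 hg)
  have e2 := Subgroup.mem_bot.1 (smul_coset_eq_iff.1 h1)
  have e : g = g' := mul_left_cancel (mul_right_cancel (e1.trans e2.symm))
  rw [e]
  exact h2

end CfsgLib.Lie.Suzuki
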