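import Mathlib

/-!
# Representations with an eigenline of a point stabiliser

If a stabiliser of a transitive action has an eigenvector in an irreducible representation, the degree is
at most the number of points; if it is one less and the group is perfect, the vector is fixed.
-/

set_option autoImplicit false

namespace CfsgLib.Lie.Suzuki

variable {G : Type*} [Group G] {X : Type*} [MulAction G X] [Fintype X]
  {V : Type*} [AddCommGroup V] [Module ℂ V] [FiniteDimensional ℂ V] (ρ : Representation ℂ G V)

/-- The main statement. -/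
theorem eigenline (hperf : commutator G = ⊤) (htr : MulAction.IsPretransitive G X) [hirr : ρ.IsIrreducible]
    (x : X) {v : V} (hv : v ≠ 0) (lam : MulAction.stabilizer G x → ℂ)
    (heig : ∀ b : MulAction.stabilizer G x, ρ (b : G) v = lam b • v) :
    Module.finrank ℂ V ≤ Fintype.card X ∧
      (Module.finrank ℂ V + 1 = Fintype.card X → ∀ b, lam b = 1) := by
  classical
  let s : X → G := fun p => if p = x then 1 else Classical.choose (htr.exists_smul_eq x p)
  have hs : ∀ p, s p • x = p := fun p => by
    simp only [s]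
    split_ifs with h
    · rw [one_smul, h]
    · exact Classical.choose_spec (htr.exists_smul_eq x p)
  have hsx : s x = 1 := if_pos rfl
  have hb : ∀ g p, (s (g • p))⁻¹ * g * s p ∈ MulAction.stabilizer G x := fun g p => by
    rw [MulAction.mem_stabilizer_iff, mul_smul, mul_smul, hs, inv_smul_eq_iff, hs]
  let μ : G → X → ℂ := fun g p => lam ⟨_, hb g p⟩
  let w : X → V := fun p => ρ (s p) v
  have hw : ∀ g p, ρ g (w p) = μ g p • w (g • p) := fun g p => by
    have h := heig ⟨_, hb g p⟩
    show ρ g (ρ (s p) v) = μ g p • ρ (s (g • p)) v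
    rw [← map_smul, show μ g p • v = _ from h.symm, ← Module.End.mul_apply, ← map_mul,
      ← Module.End.mul_apply, ← map_mul]
    congr 2
    show g * s p = s (g • p) * ((s (g • p))⁻¹ * g * s p)
    group
  let L : (X → ℂ) →ₗ[ℂ] V := Fintype.linearCombination ℂ w
  have hL : ∀ c, L c = ∑ p, c p • w p := fun c => rfl
  let T : G → (X → ℂ) → (X → ℂ) := fun g c p => μ g (g⁻¹ • p) * c (g⁻¹ • p)
  have hLT : ∀ g c, L (T g c) = ρ g (L c) := fun g c => by
    rw [hL, hL, map_sum]
    refine Fintype.sum_equiv (MulAction.toPerm g⁻¹) _ _ fun p => ?_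
    simp only [T, MulAction.toPerm_apply, map_smul, hw, smul_inv_smul, smul_smul, mul_comm, ← mul_smul g g⁻¹ p, mul_inv_cancel, inv_mul_cancel, one_smul]
  have hlam : ∀ a b : MulAction.stabilizer G x, lam (a * b) = lam a * lam b := fun a b => by
    refine smul_left_injective ℂ hv ?_
    show lam (a * b) • v = (lam a * lam b) • v
    rw [← heig, Subgroup.coe_mul, map_mul, Module.End.mul_apply, heig b, map_smul, heig a, smul_smul,
      mul_comm]
  -- surjectivity
  have hsurj : Function.Surjective L := by
    rw [← LinearMap.range_eq_top]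
    haveI := hirr
    rcases IsSimpleOrder.eq_bot_or_eq_top (⟨LinearMap.range L, fun g u hu => by
      obtain ⟨c, rfl⟩ := hu
      exact ⟨T g c, hLT g c⟩⟩ : Subrepresentation ρ) with e | e
    · exfalso
      have h0 : w x ∈ LinearMap.range L := ⟨Pi.single x 1, by
        rw [hL, Finset.sum_eq_single x (fun p _ hp => by rw [Pi.single_eq_of_ne hp, zero_smul]) (by simp),
          Pi.single_eq_same, one_smul]⟩
      rw [show LinearMap.range L = ⊥ from congrArg Subrepresentation.toSubmodule e, Submodule.mem_bot] at h0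
      simp only [w, hsx, map_one, Module.End.one_apply] at h0
      exact hv h0
    · exact congrArg Subrepresentation.toSubmodule e
  have hle := LinearMap.finrank_le_finrank_of_injective (f := L.dualMap)
    (LinearMap.dualMap_injective_of_surjective hsurj)
  rw [Subspace.dual_finrank_eq, Subspace.dual_finrank_eq, Module.finrank_fintype_fun_eq_card] at hle
  refine ⟨hle, fun heq => ?_⟩
  -- the kernel is a line
  have hker : Module.finrank ℂ (LinearMap.ker L) = 1 := by
    have h := L.finrank_range_add_finrank_ker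
    rw [LinearMap.range_eq_top.2 hsurj, finrank_top, Module.finrank_fintype_fun_eq_card] at h
    omega
  obtain ⟨⟨c₀, hc₀⟩, hne, hspan⟩ := finrank_eq_one_iff'.1 hker
  have hc₀ne : c₀ ≠ 0 := fun h => hne (Subtype.ext h)
  have hT1 : ∀ c, T 1 c = c := fun c => by
    funext p
    have e : (⟨_, hb 1 p⟩ : MulAction.stabilizer G x) = 1 := Subtype.ext (by
      show (s ((1 : G) • p))⁻¹ * 1 * s p = 1
      rw [one_smul]; group)
    have h1 : lam 1 = 1 := smul_left_injective ℂ hv (show lam 1 • v = (1 : ℂ) • v by
      rw [← heig, Subgroup.coe_one, map_one, Module.End.one_apply, one_smul])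
    show μ 1 ((1 : G)⁻¹ • p) * c ((1 : G)⁻¹ • p) = c p
    rw [inv_one, one_smul, show μ 1 p = 1 from (congrArg lam e).trans h1, one_mul]
  have hμ : ∀ g h p, μ (g * h) p = μ g (h • p) * μ h p := fun g h p => by
    show lam _ = lam _ * lam _
    rw [← hlam]
    congr 1
    refine Subtype.ext ?_
    show (s ((g * h) • p))⁻¹ * (g * h) * s p =
      ((s (g • (h • p)))⁻¹ * g * s (h • p)) * ((s (h • p))⁻¹ * h * s p)
    rw [mul_smul]; group
  have hTmul : ∀ g h c, T (g * h) c = T g (T h c) := fun g h c => by
    funext p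
    simp only [T, mul_inv_rev, mul_smul, hμ, smul_inv_smul, mul_assoc]
  have hTsmul : ∀ g (a : ℂ) c, T g (a • c) = a • T g c := fun g a c => by
    funext p
    simp only [T, Pi.smul_apply, smul_eq_mul]
    ring
  have hω : ∀ g, ∃ a : ℂ, a • c₀ = T g c₀ := fun g => by
    obtain ⟨a, ha⟩ := hspan ⟨T g c₀, by rw [LinearMap.mem_ker, hLT, LinearMap.mem_ker.1 hc₀, map_zero]⟩
    exact ⟨a, congrArg Subtype.val ha⟩
  choose ω hω using hω
  let Ω : G →* ℂ :=
    { toFun := ω
      map_one' := smul_left_injective ℂ hc₀ne (show ω 1 • c₀ = (1 : ℂ) • c₀ by rw [hω, hT1, one_smul])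
      map_mul' := fun g h => smul_left_injective ℂ hc₀ne (show ω (g * h) • c₀ = (ω g * ω h) • c₀ by
        rw [hω, hTmul, ← hω h, hTsmul, ← hω g, smul_smul, mul_comm]) }
  have hΩ : ∀ g, ω g = 1 := fun g => by
    have h := Abelianization.commutator_subset_ker Ω.toHomUnits (hperf ▸ Subgroup.mem_top g)
    exact congrArg Units.val (MonoidHom.mem_ker.1 h)
  have hx0 : c₀ x ≠ 0 := by
    intro h0
    refine hc₀ne (funext fun p => ?_)
    obtain ⟨g, rfl⟩ := htr.exists_smul_eq x p
    have := congrFun (hω g) (g • x)
    simp only [T, inv_smul_smul, h0, mul_zero, hΩ, one_smul] at this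
    exact this
  intro b
  have hb' : (b : G) • x = x := b.2
  have := congrFun (hω b) x
  simp only [T, hΩ, one_smul, inv_smul_eq_iff.2 hb'.symm] at this
  have e : (⟨_, hb (b : G) x⟩ : MulAction.stabilizer G x) = b := Subtype.ext (by
    show (s ((b : G) • x))⁻¹ * (b : G) * s x = b
    rw [hb', hsx]; group)
  simp only [μ, e] at this
  exact (mul_left_eq_self₀.1 this.symm).resolve_right hx0

end CfsgLib.Lie.Suzuki
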