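import Cfsg.Agent.Lib.Lie.Suzuki.Trace
import Cfsg.Agent.Lib.Lie.Suzuki.Eigenline
import Cfsg.Agent.Lib.Char.DefectZero
import Cfsg.Agent.Lib.Char.Brauer
import Cfsg.Agent.Lib.Char.Perm
import Cfsg.Agent.Lib.Char.Central
import Cfsg.Agent.Lib.CharDegree.Counting

/-!
# Gow's theorem for the Suzuki groups

The product of two classes of elements of odd order contains every non-identity element of odd order:
the Steinberg character is the only one of `2`-defect zero, so the structure constant is odd up to a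
`2`-integral factor.
-/

set_option autoImplicit false

namespace CfsgLib.Lie.Suzuki

open CfsgLib.Char

variable {F : Type*} [Field F] [CharP F 2] [Fintype F] {m : ℕ}
  (hF : Fintype.card F = 2 ^ (2 * m + 1))

include hF in
/-- An element of odd order fixing infinity is conjugate to a torus element. -/
theorem conj_torus_of_fix (hm : 1 ≤ m) {g : Cfsg.Sz F m} (hg : g ^ 4 ≠ 1)
    (h : g • pt F m none = pt F m none) : ∃ t : Fˣ, t ≠ 1 ∧ IsConj (tS hF t) g := by
  obtain ⟨a, b, t, rfl⟩ := stab_inf hF hm h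
  have ht : t ≠ 1 := fun e => hg (by rw [e, map_one, mul_one, uS_pow_four])
  obtain ⟨c, d, hc⟩ := exists_conj_tS hF a b ht
  exact ⟨t, ht, isConj_iff.2 ⟨_, hc⟩⟩

include hF in
theorem card_fixedBy_tS (hm : 1 ≤ m) {t : Fˣ} (ht : t ≠ 1) :
    Nat.card (MulAction.fixedBy (Cfsg.suzukiOvoid F m) (tS hF t)) = 2 := by
  have e : MulAction.fixedBy (Cfsg.suzukiOvoid F m) (tS hF t) =
      {pt F m none, pt F m (some ((0 : F), (0 : F)))} := by
    ext x
    simp only [MulAction.mem_fixedBy, Set.mem_insert_iff, Set.mem_singleton_iff]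
    refine ⟨fun hx => ?_, fun hx => by rcases hx with rfl | rfl; exacts [tS_none hF t, tS_zero hF t]⟩
    obtain ⟨_ | ⟨a, b⟩, rfl⟩ := (pt F m).surjective x
    · exact Or.inl rfl
    right
    rw [tS_some, EmbeddingLike.apply_eq_iff_eq, Option.some.injEq, Prod.mk.injEq] at hx
    have hν : th F m (t : F) ≠ 1 := fun e => ht (Units.ext ((th F m).injective (e.trans (map_one _).symm)))
    have ha : a = 0 := (mul_eq_zero.1 (show ((t : F) ^ 2 / th F m t - 1) * a = 0 by
      rw [sub_mul, hx.1, one_mul, sub_self])).resolve_left (sub_ne_zero.2 (ratio_ne_one hF ht))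
    have hb : b = 0 := (mul_eq_zero.1 (show (th F m t - 1) * b = 0 by
      rw [sub_mul, hx.2, one_mul, sub_self])).resolve_left (sub_ne_zero.2 hν)
    rw [ha, hb]
  rw [e, Nat.card_coe_set_eq, Set.ncard_pair (by simp)]

include hF in
/-- An element of odd order fixes no point or two. -/
theorem card_fixedBy_ss (hm : 1 ≤ m) {g : Cfsg.Sz F m} (hg : g ^ 4 ≠ 1) :
    Nat.card (MulAction.fixedBy (Cfsg.suzukiOvoid F m) g) = 0 ∨
      Nat.card (MulAction.fixedBy (Cfsg.suzukiOvoid F m) g) = 2 := by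
  rcases Set.eq_empty_or_nonempty (MulAction.fixedBy (Cfsg.suzukiOvoid F m) g) with h | ⟨x, hx⟩
  · left
    rw [h]
    simp
  right
  haveI := pretransitive hF (m := m)
  obtain ⟨k, rfl⟩ := MulAction.exists_smul_eq (Cfsg.Sz F m) (pt F m none) x
  have hx' : (k⁻¹ * g * k) • pt F m none = pt F m none := by
    rw [mul_smul, mul_smul, show g • k • pt F m none = k • pt F m none from hx, inv_smul_smul]
  have hg' : (k⁻¹ * g * k) ^ 4 ≠ 1 := by
    rw [show k⁻¹ * g * k = MulAut.conj k⁻¹ g by simp [MulAut.conj_apply], ← map_pow]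
    exact fun e => hg ((map_eq_one_iff _ (MulAut.conj k⁻¹).injective).1 e)
  obtain ⟨t, ht, hc⟩ := conj_torus_of_fix hF hm hg' hx'
  obtain ⟨c, hc⟩ := isConj_iff.1 hc
  rw [← card_fixedBy_tS hF hm ht]
  have e : g = (k * c) * tS hF t * (k * c)⁻¹ := by
    rw [show (k * c) * tS hF t * (k * c)⁻¹ = k * (c * tS hF t * c⁻¹) * k⁻¹ by group, hc]; group
  refine Nat.card_congr ((MulAction.toPerm (k * c)⁻¹).subtypeEquiv fun y => ?_)
  simp only [MulAction.mem_fixedBy, MulAction.toPerm_apply]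
  rw [eq_inv_smul_iff, ← mul_smul, ← mul_smul, ← e]

include hF in
/-- The centraliser of an element of odd order has odd order. -/
theorem odd_centralizer (hm : 1 ≤ m) {g : Cfsg.Sz F m} (hg : g ^ 4 ≠ 1) :
    ¬ 2 ∣ Nat.card (Subgroup.centralizer ({g} : Set (Cfsg.Sz F m))) := by
  intro h
  haveI := Fact.mk Nat.prime_two
  obtain ⟨⟨s, hs⟩, hs2⟩ := exists_prime_orderOf_dvd_card' 2 h
  have hs' : orderOf s = 2 := by rw [← hs2]; exact (Subgroup.orderOf_mk _ _).symm
  have hpg : IsPGroup 2 (Subgroup.zpowers s) := IsPGroup.of_card (n := 1) (by rw [Nat.card_zpowers, hs', pow_one])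
  obtain ⟨P, hP⟩ := hpg.exists_le_sylow
  obtain ⟨k, hk⟩ := exists_conj_sylow hF hm P
  have hsP : s ∈ (unip hF).map (MulAut.conj k).toMonoidHom := hk ▸ hP (Subgroup.mem_zpowers s)
  obtain ⟨u, ⟨a, b, rfl⟩, hu⟩ := hsP
  have hu' : k * uS hF a b * k⁻¹ = s := hu
  have h2 : uS hF a b ^ 2 = 1 := by
    refine (map_eq_one_iff _ (MulAut.conj k).injective).1 ?_
    rw [map_pow, MulAut.conj_apply, hu', ← hs']
    exact pow_orderOf_eq_one s
  have ha : a = 0 := by
    rw [uS_sq, ← uS_one hF] at h2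
    by_contra ha
    exact mul_ne_zero (θ_ne_zero ha) ha (uS_inj hF h2).2
  subst ha
  have hb : b ≠ 0 := by
    rintro rfl
    rw [uS_one, mul_one, mul_inv_cancel] at hu'
    rw [← hu', orderOf_one] at hs'
    exact absurd hs' (by norm_num)
  have hcomm : g * s = s * g := (Subgroup.mem_centralizer_singleton_iff.1 hs).symm
  obtain ⟨g', hg'⟩ : ∃ g', g' = k⁻¹ * g * k := ⟨_, rfl⟩
  have hc' : g' * uS hF 0 b = uS hF 0 b * g' := by
    rw [show uS hF 0 b = k⁻¹ * s * k by rw [← hu']; group, hg',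
      show k⁻¹ * g * k * (k⁻¹ * s * k) = k⁻¹ * (g * s) * k by group, hcomm]
    group
  have hfix : g' • pt F m none = pt F m none := by
    obtain ⟨_ | ⟨x, y⟩, ho⟩ := (pt F m).surjective (g' • pt F m none)
    · exact ho.symm
    · have e : uS hF 0 b • g' • pt F m none = g' • pt F m none := by
        rw [← mul_smul, ← hc', mul_smul, uS_none]
      rw [← ho, uS_some, EmbeddingLike.apply_eq_iff_eq, Option.some.injEq, Prod.mk.injEq] at e
      exact absurd (by simpa using e.2) hb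
  obtain ⟨c, d, t, h'⟩ := stab_inf hF hm hfix
  have h3 : uS hF c d * tS hF t * uS hF 0 b * (uS hF c d * tS hF t)⁻¹ = uS hF 0 b := by
    rw [← h', hc', mul_inv_cancel_right]
  rw [mul_inv_rev, show uS hF c d * tS hF t * uS hF 0 b * ((tS hF t)⁻¹ * (uS hF c d)⁻¹) =
    uS hF c d * (tS hF t * uS hF 0 b * (tS hF t)⁻¹) * (uS hF c d)⁻¹ by group, conj_uS, mul_zero, conj_uS_uS,
    mul_zero, map_zero, zero_mul, add_zero, add_zero] at h3
  have h4 := (uS_inj hF h3).2
  have ht : t = 1 := Units.ext ((th F m).injective (by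
    rw [Units.val_one, map_one]
    exact mul_right_cancel₀ hb (by rw [one_mul]; exact h4)))
  rw [ht, map_one, mul_one] at h'
  refine hg ((map_eq_one_iff _ (MulAut.conj k⁻¹).injective).1 ?_)
  rw [map_pow, MulAut.conj_apply, inv_inv, ← hg', h', uS_pow_four]

include hF in
theorem two_le_card_ovoid : 2 ≤ Nat.card (Cfsg.suzukiOvoid F m) := by
  have h : 1 < Nat.card (Cfsg.suzukiOvoid F m) := Finite.one_lt_card_iff_nontrivial.2
    ⟨⟨pt F m none, pt F m (some ((0 : F), (0 : F))), by simp⟩⟩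
  omega

include hF in
theorem card_ovoid_eq : Nat.card (Cfsg.suzukiOvoid F m) = Fintype.card F ^ 2 + 1 := by
  rw [← Nat.card_congr (pt F m), Finite.card_option, Nat.card_prod, Nat.card_eq_fintype_card, sq]

/-- The Steinberg character. -/
noncomputable def stChar (hF : Fintype.card F = 2 ^ (2 * m + 1)) : Cfsg.IrrCharacter (Cfsg.Sz F m) :=
  ⟨fun g => permChar (Cfsg.Sz F m) (Cfsg.suzukiOvoid F m) g - 1,
    (haveI := pretransitive hF (m := m)
     (isIrrCharacter_permChar_sub_one_iff _ (two_le_card_ovoid hF)).2 (two_pretransitive hF))⟩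

theorem stChar_one : (stChar hF : Cfsg.Sz F m → ℂ) 1 = (Fintype.card F ^ 2 : ℕ) := by
  show permChar (Cfsg.Sz F m) (Cfsg.suzukiOvoid F m) 1 - 1 = _
  rw [permChar, MulAction.fixedBy_one_eq_univ, Nat.card_coe_set_eq, Set.ncard_univ, card_ovoid_eq hF]
  push_cast
  ring

theorem stChar_ss (hm : 1 ≤ m) {g : Cfsg.Sz F m} (hg : g ^ 4 ≠ 1) :
    (stChar hF : Cfsg.Sz F m → ℂ) g = 1 ∨ (stChar hF : Cfsg.Sz F m → ℂ) g = -1 := by
  have e : (stChar hF : Cfsg.Sz F m → ℂ) g = (Nat.card (MulAction.fixedBy (Cfsg.suzukiOvoid F m) g) : ℂ) - 1 := rfl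
  rcases card_fixedBy_ss hF hm hg with h | h
  · right; rw [e, h]; norm_num
  · left; rw [e, h]; norm_num

include hF in
theorem two_part (hm : 1 ≤ m) :
    Fintype.card F ^ 2 = 2 ^ (2 * (2 * m + 1)) ∧ 2 ^ (2 * (2 * m + 1)) ∣ Nat.card (Cfsg.Sz F m) ∧
      ¬ 2 ^ (2 * (2 * m + 1) + 1) ∣ Nat.card (Cfsg.Sz F m) := by
  have e1 : Fintype.card F ^ 2 = 2 ^ (2 * (2 * m + 1)) := by rw [hF, ← pow_mul]; ring_nf
  have h := (unip hF).index_mul_card
  rw [card_unip, e1] at h
  refine ⟨e1, ⟨_, by rw [← h, mul_comm]⟩, fun hd => ?_⟩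
  rw [← h, pow_succ, mul_comm (2 ^ _) 2] at hd
  exact Nat.not_even_iff_odd.2 (odd_index_unip hF hm)
    (even_iff_two_dvd.2 (Nat.dvd_of_mul_dvd_mul_right (by positivity) hd))

include hF in
/-- The Steinberg character is the only one of `2`-defect zero. -/
theorem eq_stChar (hm : 1 ≤ m) (χ : Cfsg.IrrCharacter (Cfsg.Sz F m))
    (hd : Fintype.card F ^ 2 ∣ Cfsg.charDegree (χ : Cfsg.Sz F m → ℂ)) : χ = stChar hF := by
  classical
  haveI := Fintype.ofFinite (Cfsg.Sz F m)
  haveI := pretransitive hF (m := m)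
  obtain ⟨n, ρ, hρ, hχ, hn⟩ := CharDegree.exists_rep χ
  haveI := hρ
  obtain ⟨e1, e2, e3⟩ := two_part hF hm
  rw [← hn] at hd
  have hfr : Module.finrank ℂ (Fin n → ℂ) = n := Module.finrank_fin_fun ℂ
  have hn0 : 0 < n := hfr ▸ CfsgLib.Char.finrank_pos_of_irreducible ρ
  have hvan : ∀ g : Cfsg.Sz F m, 2 ∣ orderOf g → ρ.character g = 0 := fun g hg =>
    CfsgLib.Char.character_eq_zero_of_defect_zero
      (fun θ hθ hE => CfsgLib.Brauer.isGeneralizedCharacter_of_elementary hθ hE) ρ Nat.prime_two e2 e3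
      (by rw [hfr, ← e1]; exact hd) hg
  -- fixed vectors of the unipotent group
  let σ : Representation ℂ (unip hF) (Fin n → ℂ) := ρ.comp (unip hF).subtype
  have havg := FDRep.average_char_eq_finrank_invariants (FDRep.of σ)
  have hsum : ∑ u : unip hF, (FDRep.of σ).character u = (n : ℂ) := by
    rw [Finset.sum_eq_single 1 (fun u _ hu => ?_) (by simp)]
    · show σ.character 1 = _
      rw [Representation.char_one, hfr]
    · show ρ.character (u : Cfsg.Sz F m) = 0
      refine hvan _ ?_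
      have h4 : (u : Cfsg.Sz F m) ^ (2 ^ 2) = 1 := by
        obtain ⟨a, b, h⟩ := u.2
        rw [h]; exact uS_pow_four hF a b
      obtain ⟨k, -, hk⟩ := (Nat.dvd_prime_pow Nat.prime_two).1 (orderOf_dvd_of_pow_eq_one h4)
      rcases Nat.eq_zero_or_pos k with h0 | h0
      · rw [h0, pow_zero, orderOf_eq_one_iff] at hk
        exact absurd (Subtype.ext hk) hu
      · exact hk ▸ dvd_pow_self 2 h0.ne'
  rw [hsum] at havg
  have hW : Representation.invariants σ ≠ ⊥ := by
    intro h0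
    have h1 : ((Nat.card (unip hF) : ℂ))⁻¹ * (n : ℂ) = 0 := by
      rw [havg]
      show ((Module.finrank ℂ (Representation.invariants σ) : ℕ) : ℂ) = 0
      rw [h0, finrank_bot, Nat.cast_zero]
    rcases mul_eq_zero.1 h1 with h | h
    · exact Nat.card_pos.ne' (Nat.cast_eq_zero.1 (inv_eq_zero.1 h))
    · exact hn0.ne' (Nat.cast_eq_zero.1 h)
  -- an eigenvector of the Borel subgroup
  obtain ⟨γ, hγ⟩ := IsCyclic.exists_generator (α := Fˣ)
  have hWinv : ∀ v ∈ Representation.invariants σ, ρ (tS hF γ) v ∈ Representation.invariants σ := by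
    intro v hv u
    show ρ (u : Cfsg.Sz F m) (ρ (tS hF γ) v) = ρ (tS hF γ) v
    have hu : (tS hF γ)⁻¹ * (u : Cfsg.Sz F m) * tS hF γ ∈ unip hF := by
      simpa using conj_mem_unip hF hm (inv_mem (tS_mem_borel hF γ)) u.2
    conv_rhs => rw [← show ρ ((tS hF γ)⁻¹ * (u : Cfsg.Sz F m) * tS hF γ) v = v from hv ⟨_, hu⟩]
    rw [← Module.End.mul_apply, ← Module.End.mul_apply, ← map_mul, ← map_mul]
    congr 2
    group
  haveI : Nontrivial (Representation.invariants σ) := Submodule.nontrivial_iff_ne_bot.2 hW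
  obtain ⟨c, hc⟩ := Module.End.exists_eigenvalue
    ((ρ (tS hF γ)).restrict hWinv : Module.End ℂ (Representation.invariants σ))
  obtain ⟨⟨v, hvW⟩, hv⟩ := hc.exists_hasEigenvector
  have hv0 : v ≠ 0 := fun h => hv.2 (Subtype.ext h)
  have hvγ : ρ (tS hF γ) v = c • v := congrArg Subtype.val hv.apply_eq_smul
  have heig : ∀ b : MulAction.stabilizer (Cfsg.Sz F m) (pt F m none), ∃ l : ℂ, ρ (b : Cfsg.Sz F m) v = l • v := by
    rintro ⟨b, hb⟩
    obtain ⟨a', b', t, rfl⟩ := stab_inf hF hm hb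
    obtain ⟨k, rfl⟩ : t ∈ Submonoid.powers γ := (isOfFinOrder_of_finite γ).mem_powers_iff_mem_zpowers.2 (hγ t)
    refine ⟨c ^ k, ?_⟩
    have hk : ∀ k : ℕ, ρ (tS hF γ ^ k) v = c ^ k • v := fun k => by
      induction k with
      | zero => simp
      | succ k ih => rw [pow_succ, map_mul, Module.End.mul_apply, hvγ, map_smul, ih, smul_smul, pow_succ']
    rw [map_mul, Module.End.mul_apply, map_pow (tS hF), hk, map_smul]
    congr 1
    exact hvW ⟨_, uS_mem hF a' b'⟩
  choose lam hlam using heig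
  haveI := Fintype.ofFinite (Cfsg.suzukiOvoid F m)
  obtain ⟨hle, hlam1⟩ := eigenline ρ (perfect hF hm) inferInstance (pt F m none) hv0 lam hlam
  rw [hfr, ← Nat.card_eq_fintype_card, card_ovoid_eq hF] at hle
  have hn' : n = Fintype.card F ^ 2 := by
    obtain ⟨j, rfl⟩ := hd
    have h8 : 2 ≤ Fintype.card F ^ 2 := le_trans (by norm_num) (Nat.pow_le_pow_left (card_ge_eight hF hm) 2)
    have hj2 : j < 2 := by
      by_contra hj
      have := Nat.mul_le_mul_left (Fintype.card F ^ 2) (Nat.le_of_not_lt hj)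
      omega
    rcases Nat.eq_zero_or_pos j with rfl | hj
    · simp at hn0
    · rw [show j = 1 by omega, mul_one]
  have hfix := hlam1 (by rw [hfr, ← Nat.card_eq_fintype_card, card_ovoid_eq hF, hn'])
  -- it occurs in the permutation character
  let τ : Representation ℂ (MulAction.stabilizer (Cfsg.Sz F m) (pt F m none)) (Fin n → ℂ) :=
    ρ.comp (Subgroup.subtype _)
  have hinv : v ∈ Representation.invariants τ := fun b => by
    show ρ (b : Cfsg.Sz F m) v = v
    rw [hlam b, hfix b, one_smul]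
  have hB : ∑ b : MulAction.stabilizer (Cfsg.Sz F m) (pt F m none), ρ.character b ≠ 0 := fun h0 => by
    have h1 := FDRep.average_char_eq_finrank_invariants (FDRep.of τ)
    rw [show ∑ b, (FDRep.of τ).character b = 0 from h0, mul_zero] at h1
    have h2 : Module.finrank ℂ (Representation.invariants τ) = 0 := Nat.cast_eq_zero.1 h1.symm
    have h3 := Submodule.finrank_eq_zero.1 h2
    rw [h3, Submodule.mem_bot] at hinv
    exact hv0 hinv
  have hπ : ∑ g : Cfsg.Sz F m, ρ.character g * permChar (Cfsg.Sz F m) (Cfsg.suzukiOvoid F m) g =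
      (Fintype.card (Cfsg.suzukiOvoid F m) : ℂ) *
        ∑ b : MulAction.stabilizer (Cfsg.Sz F m) (pt F m none), ρ.character b := by
    have e : ∀ g, permChar (Cfsg.Sz F m) (Cfsg.suzukiOvoid F m) g =
        ∑ p : Cfsg.suzukiOvoid F m, if g • p = p then (1 : ℂ) else 0 := fun g => by
      rw [permChar, Finset.sum_boole, Nat.card_coe_set_eq, ← Set.ncard_coe_finset]
      congr 2
      ext x
      simp
    simp only [e, Finset.mul_sum, mul_ite, mul_one, mul_zero]
    rw [Finset.sum_comm, ← Finset.mul_sum,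
      Finset.sum_congr rfl (g := fun _ => ∑ b : MulAction.stabilizer (Cfsg.Sz F m) (pt F m none), ρ.character b)
        fun p _ => ?_, Finset.sum_const, Finset.card_univ, nsmul_eq_mul]
    obtain ⟨k, rfl⟩ := MulAction.exists_smul_eq (Cfsg.Sz F m) (pt F m none) p
    rw [← (MulAut.conj k).toEquiv.sum_comp]
    simp only [MulEquiv.toEquiv_eq_coe, MulEquiv.coe_toEquiv, MulAut.conj_apply, Representation.char_conj,
      mul_smul, inv_smul_smul, smul_left_cancel_iff]
    rw [← Finset.sum_filter]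
    exact Finset.sum_subtype _ (fun x => by simp [MulAction.mem_stabilizer_iff]) ρ.character
  -- so it is the Steinberg character
  by_contra hne
  have h1 := classInner_irr_of_ne hne
  have htriv : χ ≠ trivChar (Cfsg.Sz F m) := by
    intro e
    have := congrFun hχ 1
    rw [Representation.char_one, hfr, e, trivChar_apply, Nat.cast_eq_one, hn'] at this
    have := Nat.pow_le_pow_left (card_ge_eight hF hm) 2
    omega
  have h2 := classInner_irr_of_ne htriv
  have hreal : ∀ g, (starRingEnd ℂ) (permChar (Cfsg.Sz F m) (Cfsg.suzukiOvoid F m) g) =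
      permChar (Cfsg.Sz F m) (Cfsg.suzukiOvoid F m) g := fun g => map_natCast _ _
  have h3 : Cfsg.classInner (χ : Cfsg.Sz F m → ℂ) (stChar hF : Cfsg.Sz F m → ℂ) +
      Cfsg.classInner (χ : Cfsg.Sz F m → ℂ) (trivChar (Cfsg.Sz F m) : Cfsg.Sz F m → ℂ) =
      (Nat.card (Cfsg.Sz F m) : ℂ)⁻¹ *
        ∑ g : Cfsg.Sz F m, ρ.character g * permChar (Cfsg.Sz F m) (Cfsg.suzukiOvoid F m) g := by
    simp only [Cfsg.classInner, ← mul_add, ← Finset.sum_add_distrib, hχ]
    congr 1
    refine Finset.sum_congr rfl fun g _ => ?_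
    show (χ : Cfsg.Sz F m → ℂ) g * ((starRingEnd ℂ) (permChar (Cfsg.Sz F m) (Cfsg.suzukiOvoid F m) g - 1) +
      (starRingEnd ℂ) 1) = _
    rw [map_sub, hreal, map_one]
    ring
  rw [h1, h2, add_zero, hπ, eq_comm, mul_eq_zero, mul_eq_zero] at h3
  rcases h3 with h | h | h
  · exact Nat.card_pos.ne' (Nat.cast_eq_zero.1 (inv_eq_zero.1 h))
  · haveI : Nonempty (Cfsg.suzukiOvoid F m) := ⟨pt F m none⟩
    exact Fintype.card_ne_zero (Nat.cast_eq_zero.1 h)
  · exact hB h

include hF in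
/-- Gow's theorem. -/
theorem gow (hm : 1 ≤ m) {x y g : Cfsg.Sz F m} (hx : x ^ 4 ≠ 1) (hy : y ^ 4 ≠ 1) (hg : g ^ 4 ≠ 1) :
    ∃ u v : Cfsg.Sz F m, g = u * x * u⁻¹ * (v * y * v⁻¹) := by
  classical
  haveI := Fintype.ofFinite (Cfsg.Sz F m)
  haveI := Fintype.ofFinite (Cfsg.IrrCharacter (Cfsg.Sz F m))
  by_contra hne
  push Not at hne
  haveI : IsEmpty {p : Cfsg.Sz F m × Cfsg.Sz F m //
      p.1 * x * p.1⁻¹ * (p.2 * y * p.2⁻¹ * g⁻¹) = 1} := ⟨fun p => hne p.1.1 p.1.2 (by
    have := p.2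
    rw [← mul_assoc, mul_inv_eq_one] at this
    exact this.symm)⟩
  have h := CharDegree.sum_three x y g⁻¹
  rw [Nat.card_of_isEmpty (α := {p : Cfsg.Sz F m × Cfsg.Sz F m //
      p.1 * x * p.1⁻¹ * (p.2 * y * p.2⁻¹ * g⁻¹) = 1}), Nat.cast_zero, Finset.mul_sum] at h
  have hg' : g⁻¹ ^ 4 ≠ 1 := by rwa [inv_pow, ne_eq, inv_eq_one]
  have hterm : ∀ χ : Cfsg.IrrCharacter (Cfsg.Sz F m), χ ≠ stChar hF → ∃ I : ℂ, IsIntegral ℤ I ∧
      (Nat.card (Cfsg.Sz F m) : ℂ) * ((χ : Cfsg.Sz F m → ℂ) x * (χ : Cfsg.Sz F m → ℂ) y *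
        (χ : Cfsg.Sz F m → ℂ) g⁻¹ / (χ : Cfsg.Sz F m → ℂ) 1) = 2 * I := by
    intro χ hχ
    obtain ⟨e, he⟩ := CharDegree.charDegree_dvd_card χ
    obtain ⟨n, ρ, hρ, hρχ, hn⟩ := CharDegree.exists_rep χ
    rw [← hn] at he
    have heven : 2 ∣ e := by
      by_contra ho
      refine hχ (eq_stChar hF hm χ ?_)
      rw [← hn, (two_part hF hm).1]
      have hd := (two_part hF hm).2.1
      rw [he] at hd
      exact (Nat.Coprime.pow_left _ ((Nat.prime_two.coprime_iff_not_dvd).2 ho)).dvd_of_dvd_mul_right hd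
    obtain ⟨e', rfl⟩ := heven
    have h1 : (χ : Cfsg.Sz F m → ℂ) 1 = (n : ℂ) := by rw [← hρχ, Representation.char_one, Module.finrank_fin_fun]
    have hn0 : (n : ℂ) ≠ 0 := h1 ▸ IsIrr.apply_one_ne_zero χ.2
    have hint : ∀ z, IsIntegral ℤ ((χ : Cfsg.Sz F m → ℂ) z) := fun z =>
      IsChar.isIntegral (IsIrr.isCharacter χ.2) z
    refine ⟨(e' : ℂ) * ((χ : Cfsg.Sz F m → ℂ) x * (χ : Cfsg.Sz F m → ℂ) y * (χ : Cfsg.Sz F m → ℂ) g⁻¹),
      IsIntegral.mul (isIntegral_natCast e') (((hint x).mul (hint y)).mul (hint g⁻¹)), ?_⟩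
    rw [h1, he]
    push_cast
    field_simp
  choose! I hI1 hI2 using hterm
  obtain ⟨O, hO, hOst⟩ : ∃ O : ℕ, Odd O ∧ ((Nat.card (Cfsg.Sz F m) : ℂ) * ((stChar hF : Cfsg.Sz F m → ℂ) x *
      (stChar hF : Cfsg.Sz F m → ℂ) y * (stChar hF : Cfsg.Sz F m → ℂ) g⁻¹ /
        (stChar hF : Cfsg.Sz F m → ℂ) 1) = (O : ℂ) ∨ (Nat.card (Cfsg.Sz F m) : ℂ) * ((stChar hF : Cfsg.Sz F m → ℂ) x *
      (stChar hF : Cfsg.Sz F m → ℂ) y * (stChar hF : Cfsg.Sz F m → ℂ) g⁻¹ /
        (stChar hF : Cfsg.Sz F m → ℂ) 1) = -(O : ℂ)) := by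
    refine ⟨(unip hF).index, odd_index_unip hF hm, ?_⟩
    have hq : (Fintype.card F : ℂ) ≠ 0 := Nat.cast_ne_zero.2 Fintype.card_ne_zero
    have hc : (Nat.card (Cfsg.Sz F m) : ℂ) = ((unip hF).index : ℂ) * (Fintype.card F : ℂ) ^ 2 := by
      rw [← (unip hF).index_mul_card, card_unip]; push_cast; ring
    have h1 := stChar_ss hF hm hx
    have h2 := stChar_ss hF hm hy
    have h3 := stChar_ss hF hm hg'
    rw [stChar_one, hc]
    push_cast
    rcases h1 with h1 | h1 <;> rcases h2 with h2 | h2 <;> rcases h3 with h3 | h3 <;> rw [h1, h2, h3]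
    all_goals field_simp
    all_goals simp
  rw [← Finset.add_sum_erase _ _ (Finset.mem_univ (stChar hF)),
    Finset.sum_congr rfl (fun χ hχ => hI2 χ (Finset.ne_of_mem_erase hχ)), ← Finset.mul_sum] at h
  have hJ : IsIntegral ℤ (∑ χ ∈ Finset.univ.erase (stChar hF), I χ) :=
    IsIntegral.sum _ fun χ hχ => hI1 χ (Finset.ne_of_mem_erase hχ)
  generalize hJdef : ∑ χ ∈ Finset.univ.erase (stChar hF), I χ = J at h hJ
  have hd : (2 : ℕ) ∣ O := by
    refine CfsgLib.CharIntegral.dvd_of_isIntegral_div two_ne_zero ?_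
    rcases hOst with e | e <;> rw [e] at h
    · rw [show ((O : ℕ) : ℂ) / ((2 : ℕ) : ℂ) = -J by push_cast; linear_combination h / 2]
      exact hJ.neg
    · rw [show ((O : ℕ) : ℂ) / ((2 : ℕ) : ℂ) = J by push_cast; linear_combination -h / 2]
      exact hJ
  exact Nat.not_even_iff_odd.2 hO (even_iff_two_dvd.2 hd)

end CfsgLib.Lie.Suzuki
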