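import Cfsg.Agent.Lib.Lie.Suzuki.Trace
import Cfsg.Agent.Lib.Lie.Suzuki.Gow
import Cfsg.Agent.Lib.Lie.Suzuki.Partition

/-!
# The classes of elements of odd order in a Suzuki group are separated by the trace

* `card_ss_classes`: there are at most `q - 1` such classes
* `isConj_of_mtr`: two of them with equal trace are conjugate
* `real_ss`: they are real
* `four_le_conj`: an element without fixed points has four conjugates among its own powers
-/

set_option autoImplicit false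

namespace CfsgLib.Lie.Suzuki

local notation "C[" g "]" => Subgroup.centralizer ({g} : Set (Cfsg.Sz _ _))

variable {F : Type*} [Field F] [CharP F 2] [Fintype F] {m : ℕ}
  (hF : Fintype.card F = 2 ^ (2 * m + 1))

include hF in
/-- The conjugates of an element of a torus inside it. -/
theorem conj_map_injective (hm : 1 ≤ m) {g a : Cfsg.Sz F m} (hg : Free g) (ha : a ∈ C[g]) (h1 : a ≠ 1) :
    ∃ f : ↥(Subgroup.normalizer (C[g] : Set (Cfsg.Sz F m))) ⧸
        (C[g]).subgroupOf (Subgroup.normalizer (C[g] : Set (Cfsg.Sz F m))) → Cfsg.Sz F m,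
      Function.Injective f ∧ ∀ c, f c ∈ C[g] ∧ IsConj a (f c) := by
  have hCa := (centralizer_eq hF hm hg ha h1).2
  refine ⟨Quotient.lift (fun n => (n : Cfsg.Sz F m) * a * (n : Cfsg.Sz F m)⁻¹) ?_, ?_, ?_⟩
  · intro n n' h
    have h' : (n : Cfsg.Sz F m)⁻¹ * n' ∈ C[g] := Subgroup.mem_subgroupOf.1 (QuotientGroup.leftRel_apply.1 h)
    replace h' := Subgroup.mem_centralizer_singleton_iff.1 ((SetLike.ext_iff.1 hCa _).2 h')
    show (n : Cfsg.Sz F m) * a * (n : Cfsg.Sz F m)⁻¹ = (n' : Cfsg.Sz F m) * a * (n' : Cfsg.Sz F m)⁻¹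
    calc (n : Cfsg.Sz F m) * a * (n : Cfsg.Sz F m)⁻¹
        = (n : Cfsg.Sz F m) * (((n : Cfsg.Sz F m)⁻¹ * n') * a * ((n : Cfsg.Sz F m)⁻¹ * n')⁻¹) *
            (n : Cfsg.Sz F m)⁻¹ := by rw [h', mul_inv_cancel_right]
      _ = _ := by group
  · intro c c'
    induction c using Quotient.inductionOn' with | _ n => ?_
    induction c' using Quotient.inductionOn' with | _ n' => ?_
    intro h
    change (n : Cfsg.Sz F m) * a * (n : Cfsg.Sz F m)⁻¹ = (n' : Cfsg.Sz F m) * a * (n' : Cfsg.Sz F m)⁻¹ at h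
    refine Quotient.sound' (QuotientGroup.leftRel_apply.2 (Subgroup.mem_subgroupOf.2 ?_))
    show (n : Cfsg.Sz F m)⁻¹ * n' ∈ C[g]
    refine (SetLike.ext_iff.1 hCa _).1 (Subgroup.mem_centralizer_singleton_iff.2 ?_)
    calc (n : Cfsg.Sz F m)⁻¹ * n' * a
        = (n : Cfsg.Sz F m)⁻¹ * ((n' : Cfsg.Sz F m) * a * (n' : Cfsg.Sz F m)⁻¹) * n' := by group
      _ = a * ((n : Cfsg.Sz F m)⁻¹ * n') := by rw [← h]; group
  · intro c
    induction c using Quotient.inductionOn' with | _ n => ?_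
    exact ⟨(Subgroup.mem_normalizer_iff.1 n.2 a).1 ha, isConj_iff.2 ⟨_, rfl⟩⟩

include hF in
theorem index_normalizer (hm : 1 ≤ m) {g : Cfsg.Sz F m} (hg : Free g) :
    Nat.card (↥(Subgroup.normalizer (C[g] : Set (Cfsg.Sz F m))) ⧸
      (C[g]).subgroupOf (Subgroup.normalizer (C[g] : Set (Cfsg.Sz F m)))) = 4 := by
  have h := ((C[g]).subgroupOf (Subgroup.normalizer (C[g] : Set (Cfsg.Sz F m)))).index_mul_card
  rw [Nat.card_congr (Subgroup.subgroupOfEquivOfLe Subgroup.le_normalizer).toEquiv,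
    free_normalizer_card hF hm hg] at h
  exact Nat.eq_of_mul_eq_mul_right Nat.card_pos h

include hF in
/-- Four conjugates of an element without fixed points are powers of it. -/
theorem four_le_conj (hm : 1 ≤ m) {a : Cfsg.Sz F m} (ha : Free a) :
    4 ≤ Nat.card {b : Cfsg.Sz F m // b ∈ Subgroup.zpowers a ∧ IsConj a b} := by
  have hmem : a ∈ C[a] := Subgroup.mem_centralizer_singleton_iff.2 rfl
  have h1 : a ≠ 1 := ha.ne_one hF
  obtain ⟨f, hf, hfc⟩ := conj_map_injective hF hm ha hmem h1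
  haveI := (free_centralizer hF hm ha).1
  refine (index_normalizer hF hm ha).symm.le.trans ?_
  refine Nat.card_le_card_of_injective (fun c => ⟨f c, ?_, (hfc c).2⟩) fun c c' h => hf (congrArg Subtype.val h)
  have ho : orderOf (⟨f c, (hfc c).1⟩ : C[a]) = orderOf (⟨a, hmem⟩ : C[a]) := by
    refine (Subgroup.orderOf_coe _).symm.trans (Eq.trans ?_ (Subgroup.orderOf_coe (⟨a, hmem⟩ : C[a])))
    show orderOf (f c) = orderOf a
    obtain ⟨k, hk⟩ := isConj_iff.1 (hfc c).2
    rw [← hk, ← MulAut.conj_apply]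
    exact orderOf_injective (MulAut.conj k).toMonoidHom (MulAut.conj k).injective a
  classical
  haveI := Fintype.ofFinite (C[a])
  let x : C[a] := ⟨a, hmem⟩
  have hsub : (Finset.range (orderOf x)).image (fun k => x ^ k) ⊆
      (Finset.univ : Finset (C[a])).filter fun y => y ^ orderOf x = 1 := fun y hy => by
    obtain ⟨k, -, rfl⟩ := Finset.mem_image.1 hy
    exact Finset.mem_filter.2 ⟨Finset.mem_univ _, by rw [← pow_mul, mul_comm, pow_mul, pow_orderOf_eq_one, one_pow]⟩
  have heq := Finset.eq_of_subset_of_card_le hsub (by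
    rw [Finset.card_image_of_injOn (fun i hi j hj h => pow_injOn_Iio_orderOf (Finset.mem_range.1 hi)
      (Finset.mem_range.1 hj) h), Finset.card_range]
    exact IsCyclic.card_pow_eq_one_le (orderOf_pos x))
  have hy : (⟨f c, (hfc c).1⟩ : C[a]) ∈ (Finset.univ : Finset (C[a])).filter fun y => y ^ orderOf x = 1 :=
    Finset.mem_filter.2 ⟨Finset.mem_univ _, ho ▸ pow_orderOf_eq_one _⟩
  rw [← heq] at hy
  obtain ⟨k, -, hk⟩ := Finset.mem_image.1 hy
  exact Subgroup.mem_zpowers_iff.2 ⟨k, by simpa [x] using congrArg Subtype.val hk⟩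

include hF in
theorem conj_free_torus (hm : 1 ≤ m) {g₀ g : Cfsg.Sz F m} (hg₀ : Free g₀) (hg : g ∈ cls C[g₀]) :
    ∃ a : Cfsg.Sz F m, a ∈ C[g₀] ∧ a ≠ 1 ∧ ConjClasses.mk a = ConjClasses.mk g := by
  obtain ⟨h1, h, hh⟩ := hg
  refine ⟨_, hh, conj_ne_one h1, ConjClasses.mk_eq_mk_iff_isConj.2 (isConj_iff.2 ⟨h, by group⟩)⟩

open scoped Classical in
include hF in
/-- At most `q - 1` classes of elements of odd order. -/
theorem card_ss_classes (hm : 1 ≤ m) :
    (((Finset.univ : Finset (Cfsg.Sz F m)).filter fun g => g ^ 4 ≠ 1).image ConjClasses.mk).card ≤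
      Fintype.card F - 1 := by
  classical
  obtain ⟨g₁, g₂, hg₁, hg₂, -, hall, e1, e2, -, -⟩ := tori_structure hF hm
  let T : Finset Fˣ := Finset.univ.erase 1
  let A : Cfsg.Sz F m → Finset (Cfsg.Sz F m) := fun g => Finset.univ.filter fun a => a ∈ C[g] ∧ a ≠ 1
  have hsub : ((Finset.univ : Finset (Cfsg.Sz F m)).filter fun g => g ^ 4 ≠ 1).image ConjClasses.mk ⊆
      T.image (fun t => ConjClasses.mk (tS hF t)) ∪
        ((A g₁).image ConjClasses.mk ∪ (A g₂).image ConjClasses.mk) := by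
    intro c hc
    obtain ⟨g, hg, rfl⟩ := Finset.mem_image.1 hc
    have hg4 := (Finset.mem_filter.1 hg).2
    simp only [Finset.mem_union, Finset.mem_image]
    rcases cases_of_ne_one hF hm g with h | ⟨h, hu⟩ | ⟨h, ht⟩
    · rcases hall g h with hc | hc
      · obtain ⟨a, ha, ha1, he⟩ := conj_free_torus hF hm hg₁ hc
        exact Or.inr (Or.inl ⟨a, Finset.mem_filter.2 ⟨Finset.mem_univ _, ha, ha1⟩, he⟩)
      · obtain ⟨a, ha, ha1, he⟩ := conj_free_torus hF hm hg₂ hc
        exact Or.inr (Or.inr ⟨a, Finset.mem_filter.2 ⟨Finset.mem_univ _, ha, ha1⟩, he⟩)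
    · exfalso
      obtain ⟨a, b, hab⟩ := mem_cj.1 hu
      refine hg4 ?_
      have : (h⁻¹ * g * h) ^ 4 = 1 := by rw [hab]; exact uS_pow_four hF a b
      rw [show h⁻¹ * g * h = MulAut.conj h⁻¹ g by simp [MulAut.conj_apply], ← map_pow] at this
      exact (map_eq_one_iff _ (MulAut.conj h⁻¹).injective).1 this
    · obtain ⟨t, ht⟩ := mem_tSub hF |>.1 (mem_cj.1 ht)
      refine Or.inl ⟨t, Finset.mem_erase.2 ⟨fun e => hg4 ?_, Finset.mem_univ _⟩,
        ConjClasses.mk_eq_mk_iff_isConj.2 (isConj_iff.2 ⟨h, by rw [← ht]; group⟩)⟩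
      rw [e, map_one] at ht
      rw [show g = h * (h⁻¹ * g * h) * h⁻¹ by group, ht, mul_one, mul_inv_cancel, one_pow]
  have hT : 2 * (T.image fun t => ConjClasses.mk (tS hF t)).card ≤ T.card := by
    refine Finset.mul_card_image_le_card _ 2 fun c hc => ?_
    obtain ⟨t, ht, rfl⟩ := Finset.mem_image.1 hc
    have ht1 := Finset.ne_of_mem_erase ht
    have hne : t ≠ t⁻¹ := fun e => ht1 (Units.ext (frobenius_inj F 2 (by
      have : t * t = 1 := by nth_rw 2 [e]; rw [mul_inv_cancel]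
      simpa [frobenius_def, sq] using congrArg Units.val this)))
    refine le_trans (Finset.card_pair hne).ge (Finset.card_le_card fun u hu => ?_)
    rcases Finset.mem_insert.1 hu with rfl | hu
    · exact Finset.mem_filter.2 ⟨ht, rfl⟩
    · rw [Finset.mem_singleton.1 hu]
      refine Finset.mem_filter.2 ⟨Finset.mem_erase.2 ⟨inv_ne_one.2 ht1, Finset.mem_univ _⟩,
        ConjClasses.mk_eq_mk_iff_isConj.2 (isConj_iff.2 ⟨wS hF, ?_⟩)⟩
      rw [inv_eq_of_mul_eq_one_right (wS_mul_self hF), wS_tS, map_inv, inv_inv]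
  have hA : ∀ {g}, Free g → 4 * ((A g).image ConjClasses.mk).card ≤ Nat.card C[g] - 1 := by
    intro g hg
    have hc : (A g).card = Nat.card C[g] - 1 := by
      have : A g = ((Finset.univ : Finset (Cfsg.Sz F m)).filter fun a => a ∈ C[g]).erase 1 := by
        ext a; simp [A, and_comm]
      rw [this, Finset.card_erase_of_mem (by simp), Nat.card_eq_fintype_card, Fintype.card_subtype]
    rw [← hc]
    refine Finset.mul_card_image_le_card _ 4 fun c hc => ?_
    obtain ⟨a, ha, rfl⟩ := Finset.mem_image.1 hc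
    obtain ⟨-, hac, ha1⟩ := Finset.mem_filter.1 ha
    obtain ⟨f, hf, hfc⟩ := conj_map_injective hF hm hg hac ha1
    have h4 := index_normalizer hF hm hg
    haveI := Fintype.ofFinite (↥(Subgroup.normalizer (C[g] : Set (Cfsg.Sz F m))) ⧸
      (C[g]).subgroupOf (Subgroup.normalizer (C[g] : Set (Cfsg.Sz F m))))
    rw [Nat.card_eq_fintype_card, ← Finset.card_univ, ← Finset.card_image_of_injective _ hf] at h4
    refine le_trans h4.ge (Finset.card_le_card fun b hb => ?_)
    obtain ⟨c', -, rfl⟩ := Finset.mem_image.1 hb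
    refine Finset.mem_filter.2 ⟨Finset.mem_filter.2 ⟨Finset.mem_univ _, (hfc c').1, fun e => ha1 ?_⟩,
      (ConjClasses.mk_eq_mk_iff_isConj.2 (hfc c').2).symm⟩
    obtain ⟨k, hk⟩ := isConj_iff.1 (hfc c').2
    rw [e] at hk
    exact conj_eq_one_iff.1 hk
  have hb := (Finset.card_le_card hsub).trans ((Finset.card_union_le _ _).trans
    (Nat.add_le_add_left (Finset.card_union_le _ _) _))
  have hb1 := hA hg₁
  have hb2 := hA hg₂
  rw [e1] at hb1
  rw [e2] at hb2
  have hTc : T.card = Fintype.card F - 2 := by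
    rw [Finset.card_erase_of_mem (Finset.mem_univ _), Finset.card_univ, Fintype.card_units]
    omega
  rw [hTc] at hT
  have hle : 2 ^ (m + 1) ≤ 2 ^ (2 * m + 1) := Nat.pow_le_pow_right (by norm_num) (by omega)
  have h8 := card_ge_eight hF hm
  have heven : 2 ∣ Fintype.card F := hF ▸ dvd_pow_self 2 (by omega)
  rw [hF] at *
  omega

include hF in
theorem exists_mtr {τ : F} : ∃ g : Cfsg.Sz F m, mtr g = τ := by
  obtain ⟨B, hB⟩ := (th_bij (F := F) (m := m)).2 τ
  exact ⟨wS hF * uS hF 0 B, by rw [mtr_nf_one, fQ, map_zero]; simpa using hB⟩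

include hF in
/-- Elements of odd order with equal traces are conjugate. -/
theorem isConj_of_mtr (hm : 1 ≤ m) {g g' : Cfsg.Sz F m} (hg : mtr g ≠ 0) (h : mtr g = mtr g') :
    IsConj g g' := by
  classical
  let S := ((Finset.univ : Finset (Cfsg.Sz F m)).filter fun g => g ^ 4 ≠ 1).image ConjClasses.mk
  let φ : ConjClasses (Cfsg.Sz F m) → F := Quotient.lift mtr fun a b hab => by
    obtain ⟨c, rfl⟩ := isConj_iff.1 hab
    exact (mtr_conj a c).symm
  have hmaps : Set.SurjOn φ (S : Set (ConjClasses (Cfsg.Sz F m))) ((Finset.univ.erase (0 : F)) : Finset F) := by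
    intro τ hτ
    obtain ⟨k, hk⟩ := exists_mtr hF (τ := τ)
    refine ⟨ConjClasses.mk k, ?_, hk⟩
    simp only [S, Finset.coe_image, Set.mem_image, Finset.coe_filter, Finset.mem_univ, true_and, Set.mem_setOf_eq]
    exact ⟨k, fun e => Finset.ne_of_mem_erase (Finset.mem_coe.1 hτ) (hk.symm.trans ((mtr_eq_zero_iff hF hm k).2 e)), rfl⟩
  have hinto : Set.MapsTo φ (S : Set (ConjClasses (Cfsg.Sz F m))) ((Finset.univ.erase (0 : F)) : Finset F) := by
    intro c hc
    obtain ⟨k, hk, rfl⟩ := Finset.mem_image.1 (Finset.mem_coe.1 hc)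
    exact Finset.mem_coe.2 (Finset.mem_erase.2
      ⟨fun e => (Finset.mem_filter.1 hk).2 ((mtr_eq_zero_iff hF hm k).1 e), Finset.mem_univ _⟩)
  have hinj := Finset.injOn_of_surjOn_of_card_le φ hinto hmaps (by
    rw [Finset.card_erase_of_mem (Finset.mem_univ _), Finset.card_univ]
    exact card_ss_classes hF hm)
  have hmem : ∀ k, mtr k ≠ 0 → ConjClasses.mk k ∈ S := fun k hk =>
    Finset.mem_image.2 ⟨k, Finset.mem_filter.2 ⟨Finset.mem_univ _, fun e => hk ((mtr_eq_zero_iff hF hm k).2 e)⟩, rfl⟩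
  exact ConjClasses.mk_eq_mk_iff_isConj.1
    (hinj (Finset.mem_coe.2 (hmem g hg)) (Finset.mem_coe.2 (hmem g' (h ▸ hg))) h)

include hF in
/-- Elements of odd order are real. -/
theorem real_ss (hm : 1 ≤ m) {g : Cfsg.Sz F m} (hg : g ^ 4 ≠ 1) : IsConj g g⁻¹ :=
  isConj_of_mtr hF hm (fun e => hg ((mtr_eq_zero_iff hF hm g).1 e)) (mtr_inv hF hm g).symm

end CfsgLib.Lie.Suzuki
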