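import Cfsg.Agent.Lib.Lie.Suzuki.Free

/-!
# Counting elements without fixed points

* `two_mul_card_free`: twice the number of elements without fixed points
* `cls`, `card_cls`: the elements whose centraliser is conjugate to a given one
-/

set_option autoImplicit false

namespace CfsgLib.Lie.Suzuki

variable {F : Type*} [Field F] [CharP F 2] [Fintype F] {m : ℕ}
  (hF : Fintype.card F = 2 ^ (2 * m + 1))

local notation "P∞" => pt F m none
local notation "P₀" => pt F m (some ((0 : F), (0 : F)))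

include hF in
theorem card_stab (hm : 1 ≤ m) (x : Cfsg.suzukiOvoid F m) :
    Nat.card (MulAction.stabilizer (Cfsg.Sz F m) x) =
      Fintype.card F ^ 2 * (Fintype.card F - 1) := by
  haveI := pretransitive hF
  obtain ⟨h, rfl⟩ := MulAction.exists_smul_eq (Cfsg.Sz F m) P∞ x
  rw [← card_stab_inf hF hm]
  exact (Nat.card_congr (MulAction.stabilizerEquivStabilizer (g := h) rfl).toEquiv).symm

include hF in
theorem card_fix_two (hm : 1 ≤ m) {x y : Cfsg.suzukiOvoid F m} (hxy : x ≠ y) :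
    Nat.card {g : Cfsg.Sz F m // g • x = x ∧ g • y = y} = Fintype.card F - 1 := by
  obtain ⟨h, rfl, rfl⟩ := exists_move hF hxy
  rw [← card_tSub hF]
  refine Nat.card_congr ((MulAut.conj h⁻¹).toEquiv.subtypeEquiv fun g => ?_)
  show _ ↔ h⁻¹ * g * h⁻¹⁻¹ ∈ tSub hF
  rw [le_stab_two hF hm, inv_inv]
  simp only [mul_smul, inv_smul_eq_iff]

include hF in
/-- The number of elements without fixed points. -/
theorem two_mul_card_free (hm : 1 ≤ m) :
    (2 : ℤ) * Nat.card {g : Cfsg.Sz F m // Free g} =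
      Nat.card (Cfsg.Sz F m) - (Fintype.card F : ℤ) ^ 2 * ((Fintype.card F : ℤ) ^ 2 - 1) := by
  classical
  letI := Fintype.ofFinite (Cfsg.Sz F m)
  letI := Fintype.ofFinite (Cfsg.suzukiOvoid F m)
  set q : ℤ := ((Fintype.card F : ℕ) : ℤ) with hq
  set T : ℤ := ((Nat.card (Cfsg.Sz F m) : ℕ) : ℤ) with hT
  have hN : (Finset.univ : Finset (Cfsg.suzukiOvoid F m)).card = Fintype.card F ^ 2 + 1 := by
    rw [Finset.card_univ, ← Nat.card_eq_fintype_card, card_ovoid hF]
  let f : Cfsg.Sz F m → ℤ := fun g =>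
    ((Finset.univ.filter fun x : Cfsg.suzukiOvoid F m => g • x = x).card : ℤ)
  have hTq : T = q ^ 2 * (q ^ 2 + 1) * (q - 1) := by
    rw [hT, nat_card hF hm]
    push_cast [Nat.cast_sub (Fintype.card_pos : 1 ≤ Fintype.card F)]
    rfl
  have hqs : ((Fintype.card F - 1 : ℕ) : ℤ) = q - 1 := by
    push_cast [Nat.cast_sub (Fintype.card_pos : 1 ≤ Fintype.card F)]
    rfl
  have hS1 : ∑ g : Cfsg.Sz F m, f g = T := by
    simp only [f, ← Finset.sum_boole]
    rw [Finset.sum_comm]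
    have : ∀ x : Cfsg.suzukiOvoid F m,
        (∑ g : Cfsg.Sz F m, if g • x = x then (1 : ℤ) else 0) = q ^ 2 * (q - 1) := fun x => by
      rw [Finset.sum_boole, ← Fintype.card_subtype, ← Nat.card_eq_fintype_card,
        show Nat.card {g : Cfsg.Sz F m // g • x = x} = _ from card_stab hF hm x]
      push_cast
      rw [hqs]
    rw [Finset.sum_congr rfl fun x _ => this x, Finset.sum_const, hN, nsmul_eq_mul, hTq]
    push_cast
    ring
  have hS2 : ∑ g : Cfsg.Sz F m, f g * f g = 2 * T := by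
    simp only [f, ← Finset.sum_boole, Finset.sum_mul_sum]
    rw [Finset.sum_comm]
    have : ∀ x : Cfsg.suzukiOvoid F m,
        (∑ g : Cfsg.Sz F m, ∑ y : Cfsg.suzukiOvoid F m,
          (if g • x = x then (1 : ℤ) else 0) * if g • y = y then 1 else 0) =
        q ^ 2 * (q - 1) + q ^ 2 * (q - 1) := fun x => by
      rw [Finset.sum_comm, ← Finset.add_sum_erase _ _ (Finset.mem_univ x)]
      congr 1
      · rw [Finset.sum_congr rfl (g := fun g : Cfsg.Sz F m => if g • x = x then (1 : ℤ) else 0)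
          fun g _ => by split_ifs <;> simp]
        rw [Finset.sum_boole, ← Fintype.card_subtype, ← Nat.card_eq_fintype_card,
          show Nat.card {g : Cfsg.Sz F m // g • x = x} = _ from card_stab hF hm x]
        push_cast
        rw [hqs]
      · rw [Finset.sum_congr rfl (g := fun _ => q - 1) fun y hy => ?_, Finset.sum_const,
          Finset.card_erase_of_mem (Finset.mem_univ x), hN, nsmul_eq_mul]
        · push_cast
          ring
        · rw [Finset.sum_congr rfl
            (g := fun g : Cfsg.Sz F m => if g • x = x ∧ g • y = y then (1 : ℤ) else 0) fun g _ => by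
              split_ifs <;> simp_all]
          rw [Finset.sum_boole, ← Fintype.card_subtype, ← Nat.card_eq_fintype_card,
            card_fix_two hF hm (Finset.ne_of_mem_erase hy).symm, hqs]
    rw [Finset.sum_congr rfl fun x _ => this x, Finset.sum_const, hN, nsmul_eq_mul, hTq]
    push_cast
    ring
  have hind : ∀ g : Cfsg.Sz F m, (1 - f g) * (2 - f g) = (if Free g then 2 else 0) +
      (if g = 1 then (1 - (q ^ 2 + 1)) * (2 - (q ^ 2 + 1)) else 0) := by
    intro g
    by_cases h1 : g = 1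
    · subst h1
      rw [if_neg (fun h : Free (1 : Cfsg.Sz F m) => h.ne_one hF rfl), if_pos rfl, zero_add]
      simp [f, hN, hq]
    · rw [if_neg h1, add_zero]
      by_cases hg : Free g
      · rw [if_pos hg, show f g = 0 by
          simp only [f, Nat.cast_eq_zero, Finset.card_eq_zero, Finset.filter_eq_empty_iff]
          exact fun {x} _ => hg x]
        ring
      · rw [if_neg hg]
        have hle : f g ≤ 2 := by
          simp only [f]
          norm_cast
          by_contra h3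
          push Not at h3
          obtain ⟨a, b, c, ha, hb, hc, hab, hac, hbc⟩ := Finset.two_lt_card_iff.mp h3
          simp only [Finset.mem_filter, Finset.mem_univ, true_and] at ha hb hc
          exact h1 (eq_one_of_fix hF hm hab hbc hac ha hb hc)
        have hpos : 1 ≤ f g := by
          simp only [f]
          norm_cast
          rw [Nat.one_le_iff_ne_zero]
          intro e
          rw [Finset.card_eq_zero, Finset.filter_eq_empty_iff] at e
          exact hg fun x => e (Finset.mem_univ x)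
        rcases eq_or_lt_of_le hle with h | h
        · rw [h]; ring
        · rw [show f g = 1 by omega]; ring
  have htot : ∑ g : Cfsg.Sz F m, (1 - f g) * (2 - f g) = T := by
    have e : ∀ g : Cfsg.Sz F m, (1 - f g) * (2 - f g) = 2 - 3 * f g + f g * f g := fun g => by ring
    rw [Finset.sum_congr rfl fun g _ => e g, Finset.sum_add_distrib, Finset.sum_sub_distrib,
      ← Finset.mul_sum, hS1, hS2, Finset.sum_const, nsmul_eq_mul, Finset.card_univ,
      ← Nat.card_eq_fintype_card, ← hT]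
    ring
  rw [Finset.sum_congr rfl fun g _ => hind g, Finset.sum_add_distrib, Finset.sum_ite_eq',
    if_pos (Finset.mem_univ _)] at htot
  have hfree : ∑ g : Cfsg.Sz F m, (if Free g then (2 : ℤ) else 0) =
      2 * Nat.card {g : Cfsg.Sz F m // Free g} := by
    rw [← Finset.sum_filter, Finset.sum_const, nsmul_eq_mul, Nat.card_eq_fintype_card,
      Fintype.card_subtype]
    ring
  linear_combination htot - hfree

/-- The elements with centraliser conjugate to `A`. -/
def cls (A : Subgroup (Cfsg.Sz F m)) : Set (Cfsg.Sz F m) :=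
  {g | g ≠ 1 ∧ ∃ h : Cfsg.Sz F m, h⁻¹ * g * h ∈ A}

include hF in
theorem free_of_mem_cls (hm : 1 ≤ m) {g₀ : Cfsg.Sz F m} (hg₀ : Free g₀) {g : Cfsg.Sz F m}
    (hg : g ∈ cls (Subgroup.centralizer ({g₀} : Set (Cfsg.Sz F m)))) : Free g := by
  obtain ⟨h1, h, hh⟩ := hg
  have hne : h⁻¹ * g * h ≠ 1 := fun e => h1 (by
    calc g = h * (h⁻¹ * g * h) * h⁻¹ := by group
      _ = 1 := by rw [e]; group)
  have := ((centralizer_eq hF hm hg₀ hh hne).1).conj h⁻¹
  rwa [show h⁻¹⁻¹ * (h⁻¹ * g * h) * h⁻¹ = g by group] at this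

include hF in
theorem normalizer_of_conj_mem (hm : 1 ≤ m) {g₀ : Cfsg.Sz F m} (hg₀ : Free g₀)
    {a n : Cfsg.Sz F m} (ha : a ∈ Subgroup.centralizer ({g₀} : Set (Cfsg.Sz F m))) (h1 : a ≠ 1)
    (hn : n⁻¹ * a * n ∈ Subgroup.centralizer ({g₀} : Set (Cfsg.Sz F m))) :
    n ∈ Subgroup.normalizer (Subgroup.centralizer ({g₀} : Set (Cfsg.Sz F m)) : Set (Cfsg.Sz F m)) := by
  obtain ⟨-, e1⟩ := centralizer_eq hF hm hg₀ ha h1
  have hne : n⁻¹ * a * n ≠ 1 := fun e => h1 (by
    calc a = n * (n⁻¹ * a * n) * n⁻¹ := by group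
      _ = 1 := by rw [e]; group)
  obtain ⟨-, e2⟩ := centralizer_eq hF hm hg₀ hn hne
  rw [Subgroup.mem_normalizer_iff]
  intro b
  constructor
  · intro hb
    rw [← e2, Subgroup.mem_centralizer_singleton_iff] at hb
    rw [← e1, Subgroup.mem_centralizer_singleton_iff]
    calc n * b * n⁻¹ * a = n * (b * (n⁻¹ * a * n)) * n⁻¹ := by group
      _ = a * (n * b * n⁻¹) := by rw [hb]; group
  · intro hb
    rw [← e1, Subgroup.mem_centralizer_singleton_iff] at hb
    rw [← e2, Subgroup.mem_centralizer_singleton_iff]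
    calc b * (n⁻¹ * a * n) = n⁻¹ * ((n * b * n⁻¹) * a) * n := by group
      _ = n⁻¹ * a * n * b := by rw [hb]; group

include hF in
theorem card_cls (hm : 1 ≤ m) {g₀ : Cfsg.Sz F m} (hg₀ : Free g₀) :
    Nat.card (cls (Subgroup.centralizer ({g₀} : Set (Cfsg.Sz F m)))) *
      Nat.card (Subgroup.normalizer
        (Subgroup.centralizer ({g₀} : Set (Cfsg.Sz F m)) : Set (Cfsg.Sz F m))) =
    Nat.card (Cfsg.Sz F m) *
      (Nat.card (Subgroup.centralizer ({g₀} : Set (Cfsg.Sz F m))) - 1) := by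
  classical
  set A := Subgroup.centralizer ({g₀} : Set (Cfsg.Sz F m)) with hA
  set N := Subgroup.normalizer (A : Set (Cfsg.Sz F m)) with hN
  choose h₀ hh₀ using fun g : cls A => g.2.2
  have hNmem : ∀ {a n : Cfsg.Sz F m}, n ∈ N → a ∈ A → n⁻¹ * a * n ∈ A := fun {a n} hn ha => by
    have := (Subgroup.mem_normalizer_iff.mp (N.inv_mem hn) a).mp ha
    rwa [inv_inv] at this
  have hA1 : Nat.card {a : A // a ≠ 1} = Nat.card A - 1 := by
    letI := Fintype.ofFinite A
    rw [Nat.card_eq_fintype_card, Nat.card_eq_fintype_card, Fintype.card_subtype_compl,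
      Fintype.card_subtype_eq]
  rw [← hA1, ← Nat.card_prod, ← Nat.card_prod]
  let Φ : cls A × N → Cfsg.Sz F m × {a : A // a ≠ 1} := fun p =>
    (h₀ p.1 * (p.2 : Cfsg.Sz F m),
      ⟨⟨(p.2 : Cfsg.Sz F m)⁻¹ * ((h₀ p.1)⁻¹ * (p.1 : Cfsg.Sz F m) * h₀ p.1) * p.2,
        hNmem p.2.2 (hh₀ p.1)⟩, fun e => p.1.2.1 (by
          have e' : (p.2 : Cfsg.Sz F m)⁻¹ * ((h₀ p.1)⁻¹ * (p.1 : Cfsg.Sz F m) * h₀ p.1) * p.2 = 1 :=
            congrArg Subtype.val e
          calc (p.1 : Cfsg.Sz F m) = h₀ p.1 * p.2 * ((p.2 : Cfsg.Sz F m)⁻¹ *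
                ((h₀ p.1)⁻¹ * (p.1 : Cfsg.Sz F m) * h₀ p.1) * p.2) * (h₀ p.1 * p.2)⁻¹ := by group
            _ = 1 := by rw [e']; group)⟩)
  refine Nat.card_eq_of_bijective Φ ⟨?_, ?_⟩
  · rintro ⟨g, n⟩ ⟨g', n'⟩ h
    have e1 : h₀ g * (n : Cfsg.Sz F m) = h₀ g' * n' := congrArg Prod.fst h
    have e2 : (n : Cfsg.Sz F m)⁻¹ * ((h₀ g)⁻¹ * (g : Cfsg.Sz F m) * h₀ g) * n =
        (n' : Cfsg.Sz F m)⁻¹ * ((h₀ g')⁻¹ * (g' : Cfsg.Sz F m) * h₀ g') * n' :=
      congrArg (fun p : Cfsg.Sz F m × {a : A // a ≠ 1} => ((p.2 : A) : Cfsg.Sz F m)) h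
    have eg : g = g' := Subtype.ext (by
      calc (g : Cfsg.Sz F m) = h₀ g * n * ((n : Cfsg.Sz F m)⁻¹ *
            ((h₀ g)⁻¹ * (g : Cfsg.Sz F m) * h₀ g) * n) * (h₀ g * n)⁻¹ := by group
        _ = (g' : Cfsg.Sz F m) := by rw [e1, e2]; group)
    subst eg
    exact Prod.ext rfl (Subtype.ext (mul_left_cancel e1))
  · rintro ⟨h, ⟨⟨a, ha⟩, ha1⟩⟩
    have hg : h * a * h⁻¹ ∈ cls A := ⟨fun e => ha1 (Subtype.ext (by
      calc a = h⁻¹ * (h * a * h⁻¹) * h := by group
        _ = 1 := by rw [e]; group)), h, by rwa [show h⁻¹ * (h * a * h⁻¹) * h = a by group]⟩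
    set g : cls A := ⟨_, hg⟩ with hgdef
    have hn : (h₀ g)⁻¹ * h ∈ N := by
      refine normalizer_of_conj_mem hF hm hg₀ (hh₀ g) ?_ ?_
      · intro e
        refine g.2.1 ?_
        calc (g : Cfsg.Sz F m) = h₀ g * ((h₀ g)⁻¹ * g * h₀ g) * (h₀ g)⁻¹ := by group
          _ = 1 := by rw [e]; group
      · rwa [show ((h₀ g)⁻¹ * h)⁻¹ * ((h₀ g)⁻¹ * (g : Cfsg.Sz F m) * h₀ g) * ((h₀ g)⁻¹ * h) =
          h⁻¹ * (h * a * h⁻¹) * h by rw [hgdef]; group,
          show h⁻¹ * (h * a * h⁻¹) * h = a by group]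
    refine ⟨(g, ⟨_, hn⟩), Prod.ext (mul_inv_cancel_left _ _) (Subtype.ext (Subtype.ext ?_))⟩
    show ((h₀ g)⁻¹ * h)⁻¹ * ((h₀ g)⁻¹ * (g : Cfsg.Sz F m) * h₀ g) * ((h₀ g)⁻¹ * h) = a
    rw [hgdef]
    group

end CfsgLib.Lie.Suzuki
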