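import Cfsg.Agent.Lib.Lie.Suzuki.Partition
import Cfsg.Prelude.Def_Transfer

/-!
# Elementary abelian TI subgroups of the Suzuki groups
-/

set_option autoImplicit false

namespace CfsgLib.Lie.Suzuki

variable {F : Type*} [Field F] [CharP F 2] [Fintype F] {m : ℕ}
  (hF : Fintype.card F = 2 ^ (2 * m + 1))

local notation "P∞" => pt F m none

theorem conj_center (a c : F) (t : Fˣ) (b : F) :
    uS hF a c * tS hF t * uS hF 0 b * (uS hF a c * tS hF t)⁻¹ = uS hF 0 (th F m (t : F) * b) := by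
  rw [mul_inv_eq_iff_eq_mul, mul_assoc, tS_conj_uS, mul_zero, ← mul_assoc, ← mul_assoc, uS_mul,
    uS_mul]
  simp only [map_zero, zero_mul, add_zero, zero_add, mul_zero]
  rw [add_comm c]

theorem pow_sub_one_dvd_iff {n k : ℕ} (hn : 2 ≤ n) (h : 2 ^ n - 1 ∣ 2 ^ k - 1) : n ∣ k := by
  have h1 := Nat.pow_sub_one_gcd_pow_sub_one 2 n k
  rw [Nat.gcd_eq_left h] at h1
  have h2 : 2 ^ Nat.gcd n k = 2 ^ n := by
    have := Nat.one_le_two_pow (n := n)
    have := Nat.one_le_two_pow (n := Nat.gcd n k)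
    omega
  exact (Nat.pow_right_injective le_rfl h2).symm.dvd.trans (Nat.gcd_dvd_right n k)

include hF in
theorem exists_ti_of_dvd (hm : 1 ≤ m) {n : ℕ} (hn : 2 ≤ n) (hd : n ∣ 2 * m + 1) :
    ∃ E : Subgroup (Cfsg.Sz F m), Cfsg.IsElementaryAbelian 2 E ∧ Nat.card E = 2 ^ n ∧
      ∀ x : Cfsg.Sz F m, E ⊓ E.map (MulAut.conj x).toMonoidHom ≠ ⊥ →
        x ∈ Subgroup.normalizer (E : Set (Cfsg.Sz F m)) := by
  classical
  let fr : F →+* F := iterateFrobenius F 2 n
  have hfr : ∀ b : F, fr b = b ^ 2 ^ n := fun b => iterateFrobenius_def 2 n b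
  let E : Subgroup (Cfsg.Sz F m) :=
    { carrier := {g | ∃ b, fr b = b ∧ g = uS hF 0 b}
      one_mem' := ⟨0, map_zero fr, (uS_zero_zero hF).symm⟩
      mul_mem' := by
        rintro _ _ ⟨b, hb, rfl⟩ ⟨c, hc, rfl⟩
        exact ⟨b + c, by rw [map_add, hb, hc], by
          rw [uS_mul, map_zero, zero_mul, add_zero, add_zero]⟩
      inv_mem' := by
        rintro _ ⟨b, hb, rfl⟩
        exact ⟨b, hb, by rw [uS_inv, map_zero, zero_mul, add_zero]⟩ }
  have hmem : ∀ g, g ∈ E ↔ ∃ b, fr b = b ∧ g = uS hF 0 b := fun g => Iff.rfl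
  refine ⟨E, ⟨isMulCommutative_iff.mpr fun x y => Subtype.ext ?_, ?_⟩, ?_, ?_⟩
  · obtain ⟨b, -, hb⟩ := x.2
    obtain ⟨c, -, hc⟩ := y.2
    show (x : Cfsg.Sz F m) * y = y * x
    rw [hb, hc, uS_mul, uS_mul, map_zero, zero_mul, add_zero, add_zero, add_zero, add_comm b]
  · rintro a ⟨b, -, rfl⟩
    rw [uS_sq, map_zero, zero_mul, uS_zero_zero]
  · -- the order
    have h1 : Nat.card E = Nat.card {b : F // fr b = b} :=
      (Nat.card_eq_of_bijective (fun b : {b : F // fr b = b} => (⟨uS hF 0 b.1, b.1, b.2, rfl⟩ : E))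
        ⟨fun b c h => Subtype.ext (uS_inj hF (congrArg Subtype.val h)).2,
         fun ⟨g, b, hb, h⟩ => ⟨⟨b, hb⟩, Subtype.ext h.symm⟩⟩).symm
    have hk : Nat.card (powMonoidHom (2 ^ n - 1) : Fˣ →* Fˣ).ker = 2 ^ n - 1 := by
      rw [IsCyclic.card_powMonoidHom_ker, Nat.card_units, Nat.card_eq_fintype_card, hF]
      exact Nat.gcd_eq_right (Nat.pow_sub_one_dvd_pow_sub_one 2 hd)
    let e : Option (powMonoidHom (2 ^ n - 1) : Fˣ →* Fˣ).ker → {b : F // fr b = b} := fun o =>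
      match o with
      | none => ⟨0, map_zero fr⟩
      | some u => ⟨((u : Fˣ) : F), by
          have hu : (u : Fˣ) ^ (2 ^ n - 1) = 1 := u.2
          rw [hfr, ← pow_sub_one_mul (pow_ne_zero n two_ne_zero), ← Units.val_pow_eq_pow_val, hu,
            Units.val_one, one_mul]⟩
    have he : Function.Bijective e := by
      constructor
      · rintro (_ | u) (_ | v) h
        · rfl
        · exact absurd (congrArg Subtype.val h).symm (v : Fˣ).ne_zero
        · exact absurd (congrArg Subtype.val h) (u : Fˣ).ne_zero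
        · exact congrArg some (Subtype.ext (Units.ext (congrArg Subtype.val h)))
      · rintro ⟨b, hb⟩
        by_cases hb0 : b = 0
        · exact ⟨none, Subtype.ext hb0.symm⟩
        · refine ⟨some ⟨Units.mk0 b hb0, Units.ext ?_⟩, Subtype.ext rfl⟩
          rw [powMonoidHom_apply, Units.val_pow_eq_pow_val, Units.val_mk0, Units.val_one]
          refine mul_right_cancel₀ hb0 ?_
          rw [← pow_succ, Nat.sub_add_cancel Nat.one_le_two_pow, one_mul, ← hfr, hb]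
    rw [h1, ← Nat.card_eq_of_bijective e he, Finite.card_option, hk,
      Nat.sub_add_cancel Nat.one_le_two_pow]
  · intro x hx
    obtain ⟨g, hg, hg1⟩ := (Subgroup.bot_or_exists_ne_one _).resolve_left hx
    obtain ⟨⟨b₂, hb₂, rfl⟩, hg'⟩ := hg
    obtain ⟨_, ⟨b₁, hb₁, rfl⟩, hxe⟩ := hg'
    change x * uS hF 0 b₁ * x⁻¹ = uS hF 0 b₂ at hxe
    have hfix : uS hF 0 b₂ • (x • P∞) = x • P∞ := by
      rw [← hxe, mul_smul, mul_smul, inv_smul_smul, uS_none]
    obtain ⟨a, c, t, rfl⟩ := stab_inf hF hm (g := x) (uSub_unique_fix hF (uS_mem_uSub hF 0 b₂) hg1 hfix)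
    rw [conj_center] at hxe
    have hμ := (uS_inj hF hxe).2
    have hb₁0 : b₁ ≠ 0 := by
      rintro rfl
      rw [mul_zero] at hμ
      exact hg1 (by rw [← hμ, uS_zero_zero])
    have hfix' : fr (th F m (t : F)) = th F m (t : F) := by
      have : fr (th F m (t : F)) * b₁ = th F m (t : F) * b₁ := by
        conv_lhs => rw [← hb₁]
        rw [← map_mul, hμ, hb₂]
      exact mul_right_cancel₀ hb₁0 this
    rw [Subgroup.mem_normalizer_iff]
    intro y
    constructor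
    · rintro ⟨b, hb, rfl⟩
      exact ⟨_, by rw [map_mul, hfix', hb], conj_center hF a c t b⟩
    · rintro ⟨b, hb, hy⟩
      refine ⟨b / th F m (t : F), by rw [map_div₀, hfix', hb], ?_⟩
      have := conj_center hF a c t (b / th F m (t : F))
      rw [mul_div_cancel₀ _ (θ_ne_zero t.ne_zero), ← hy] at this
      exact (mul_left_cancel (mul_right_cancel this)).symm

include hF in
theorem dvd_of_ti (hm : 1 ≤ m) {n : ℕ} (hn : 2 ≤ n) {E : Subgroup (Cfsg.Sz F m)}
    (hE : Cfsg.IsElementaryAbelian 2 E) (hcard : Nat.card E = 2 ^ n)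
    (hti : ∀ x : Cfsg.Sz F m, E ⊓ E.map (MulAut.conj x).toMonoidHom ≠ ⊥ →
        x ∈ Subgroup.normalizer (E : Set (Cfsg.Sz F m))) : n ∣ 2 * m + 1 := by
  classical
  obtain ⟨hcomm, hexp⟩ := hE
  have hne : E ≠ ⊥ := fun e => by
    rw [e, Subgroup.card_bot] at hcard
    have : 1 < 2 ^ n := Nat.one_lt_pow (by omega) (by norm_num)
    omega
  obtain ⟨e₁, he₁, he₁1⟩ := (Subgroup.bot_or_exists_ne_one E).resolve_left hne
  obtain ⟨h, hu⟩ : ∃ h, e₁ ∈ cj h (uSub hF) := by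
    rcases cases_of_ne_one hF hm e₁ with hfree | h | ⟨h, ht⟩
    · obtain ⟨p, hp, -⟩ := involution_fix hF hm (hexp e₁ he₁) he₁1
      exact absurd hp (hfree p)
    · exact h
    · exfalso
      have h2 : orderOf e₁ = 2 := orderOf_eq_prime (hexp e₁ he₁) he₁1
      have h3 : orderOf e₁ ∣ Fintype.card F - 1 := by
        rw [← card_tSub hF, ← card_cj h, ← Subgroup.orderOf_mk e₁ ht]
        exact orderOf_dvd_natCard _
      exact (Nat.not_even_iff_odd.mpr (odd_card_sub_one hF)) (even_iff_two_dvd.mpr (h2 ▸ h3))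
  have hform : ∀ e ∈ E, ∃ b, e = h * uS hF 0 b * h⁻¹ := by
    intro e he
    obtain ⟨a, b, hab⟩ := mem_cj.mp (centralizer_cj_uS hF hm hu he₁1
      (congrArg Subtype.val ((isMulCommutative_iff.mp hcomm) ⟨e₁, he₁⟩ ⟨e, he⟩)))
    have h2 : uS hF a b ^ 2 = 1 := by
      rw [← hab, sq, show h⁻¹ * e * h * (h⁻¹ * e * h) = h⁻¹ * (e * e) * h by group, ← sq, hexp e he]
      group
    rw [uS_sq, uS_eq_one_iff, mul_eq_zero, map_eq_zero, or_self] at h2
    exact ⟨b, by rw [← h2.2, ← hab]; group⟩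
  let W : Set F := {b | h * uS hF 0 b * h⁻¹ ∈ E}
  have hW0 : (0 : F) ∈ W := by simp [W, uS_zero_zero]
  have hWadd : ∀ b ∈ W, ∀ c ∈ W, b + c ∈ W := fun b hb c hc => by
    have := E.mul_mem hb hc
    rwa [show h * uS hF 0 b * h⁻¹ * (h * uS hF 0 c * h⁻¹) = h * (uS hF 0 b * uS hF 0 c) * h⁻¹ by
      group, uS_mul, map_zero, zero_mul, add_zero, add_zero] at this
  have hmulW : ∀ μ b₁ : F, b₁ ∈ W → b₁ ≠ 0 → μ * b₁ ∈ W → μ ≠ 0 → ∀ b ∈ W, μ * b ∈ W := by
    intro μ b₁ hb₁ hb₁0 hb₂ hμ b hb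
    obtain ⟨t0, ht0⟩ := (th_bij (F := F) (m := m)).2 μ
    have ht00 : t0 ≠ 0 := fun e => hμ (by rw [← ht0, e, map_zero])
    set t := Units.mk0 t0 ht00
    set x := h * (uS hF 0 0 * tS hF t) * h⁻¹ with hx
    have hconj : ∀ b : F, x * (h * uS hF 0 b * h⁻¹) * x⁻¹ = h * uS hF 0 (μ * b) * h⁻¹ := fun b => by
      rw [← ht0, show th F m t0 = th F m (t : F) from rfl, ← conj_center hF 0 0 t b, hx]
      group
    have hmem : h * uS hF 0 (μ * b₁) * h⁻¹ ∈ E ⊓ E.map (MulAut.conj x).toMonoidHom :=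
      ⟨hb₂, _, hb₁, hconj b₁⟩
    have hxN := hti x fun e => by
      rw [e, Subgroup.mem_bot] at hmem
      have h1 : uS hF 0 (μ * b₁) = 1 := by
        calc uS hF 0 (μ * b₁) = h⁻¹ * (h * uS hF 0 (μ * b₁) * h⁻¹) * h := by group
          _ = 1 := by rw [hmem]; group
      exact mul_ne_zero hμ hb₁0 ((uS_eq_one_iff hF).mp h1).2
    show h * uS hF 0 (μ * b) * h⁻¹ ∈ E
    rw [← hconj]
    exact (Subgroup.mem_normalizer_iff.mp hxN _).mp hb
  have hcardW : Nat.card W = 2 ^ n := by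
    rw [← hcard]
    refine Nat.card_eq_of_bijective (fun b : W => (⟨_, b.2⟩ : E)) ⟨fun b c e => ?_, fun ⟨e, he⟩ => ?_⟩
    · exact Subtype.ext (uS_inj hF (mul_left_cancel (mul_right_cancel (congrArg Subtype.val e)))).2
    · obtain ⟨b, hb⟩ := hform e he
      exact ⟨⟨b, show h * uS hF 0 b * h⁻¹ ∈ E from hb ▸ he⟩, Subtype.ext hb.symm⟩
  obtain ⟨b₁, hb₁, hb₁0⟩ : ∃ b ∈ W, b ≠ 0 := by
    obtain ⟨b, hb⟩ := hform e₁ he₁
    refine ⟨b, show h * uS hF 0 b * h⁻¹ ∈ E from hb ▸ he₁, ?_⟩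
    rintro rfl
    exact he₁1 (by rw [hb, uS_zero_zero]; group)
  let K : Submonoid Fˣ :=
    { carrier := {u | (u : F) * b₁ ∈ W}
      one_mem' := show ((1 : Fˣ) : F) * b₁ ∈ W by rwa [Units.val_one, one_mul]
      mul_mem' := fun {u v} hu hv => show ((u * v : Fˣ) : F) * b₁ ∈ W by
        rw [Units.val_mul, mul_assoc]
        exact hmulW u b₁ hb₁ hb₁0 hu u.ne_zero _ hv }
  let e : Option K → W := fun o => match o with
    | none => ⟨0, hW0⟩
    | some u => ⟨((u : Fˣ) : F) * b₁, u.2⟩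
  have he : Function.Bijective e := by
    constructor
    · rintro (_ | u) (_ | v) h'
      · rfl
      · exact absurd (congrArg Subtype.val h').symm (mul_ne_zero (v : Fˣ).ne_zero hb₁0)
      · exact absurd (congrArg Subtype.val h') (mul_ne_zero (u : Fˣ).ne_zero hb₁0)
      · exact congrArg some (Subtype.ext (Units.ext (mul_right_cancel₀ hb₁0 (congrArg Subtype.val h'))))
    · rintro ⟨b, hb⟩
      by_cases hb0 : b = 0
      · exact ⟨none, Subtype.ext hb0.symm⟩
      · refine ⟨some ⟨Units.mk0 (b / b₁) (div_ne_zero hb0 hb₁0), ?_⟩, Subtype.ext ?_⟩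
        · show b / b₁ * b₁ ∈ W
          rwa [div_mul_cancel₀ _ hb₁0]
        · exact div_mul_cancel₀ _ hb₁0
  have hinv : ∀ {u : Fˣ}, u ∈ K → u⁻¹ ∈ K := fun {u} hu => by
    rw [inv_eq_of_mul_eq_one_right (show u * u ^ (orderOf u - 1) = 1 by
      rw [← pow_succ', Nat.sub_add_cancel (orderOf_pos u), pow_orderOf_eq_one])]
    exact pow_mem hu _
  let H : Subgroup Fˣ := { K with inv_mem' := hinv }
  have hK : Nat.card H = 2 ^ n - 1 := by
    have := Nat.card_eq_of_bijective e he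
    rw [Finite.card_option, hcardW] at this
    rw [show Nat.card H = Nat.card K from rfl]
    omega
  refine pow_sub_one_dvd_iff hn ?_
  rw [← hK, ← hF, ← Fintype.card_units, ← Nat.card_eq_fintype_card]
  exact H.card_subgroup_dvd_card

end CfsgLib.Lie.Suzuki
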