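import Mathlib

/-!
# Elements of odd prime order dividing `q ^ 2 + 1` in four-dimensional linear groups

Over a field with `q` elements such a matrix has irreducible minimal polynomial of degree four, and
the matrices commuting with it form the field `F[M]`.

* `not_small_degree`: `q` has order four modulo `p`
* `exists_commutant_field`: the commutant
-/

set_option autoImplicit false

namespace CfsgLib.Lie.Suzuki

open Polynomial

theorem not_small_degree {q p d : ℕ} (hp : p.Prime) (hp2 : p ≠ 2) (hdvd : p ∣ q ^ 2 + 1)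
    (hd : d = 1 ∨ d = 2 ∨ d = 3) : ¬ p ∣ q ^ d - 1 := by
  intro h
  haveI := Fact.mk hp
  have h1 : ((q : ZMod p)) ^ 2 + 1 = 0 := by
    have := (ZMod.natCast_eq_zero_iff (q ^ 2 + 1) p).mpr hdvd
    push_cast at this
    exact this
  have h2 : ((q : ZMod p)) ^ d = 1 := by
    have hq : 1 ≤ q ^ d := by
      rcases Nat.eq_zero_or_pos q with rfl | hq
      · simp at h1
      · exact Nat.one_le_pow _ _ hq
    have := (ZMod.natCast_eq_zero_iff (q ^ d - 1) p).mpr h
    rw [Nat.cast_sub hq, sub_eq_zero] at this
    push_cast at this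
    exact this
  have htwo : (2 : ZMod p) ≠ 0 := fun e => hp2 ((Nat.prime_dvd_prime_iff_eq hp Nat.prime_two).mp
    ((ZMod.natCast_eq_zero_iff 2 p).mp (by exact_mod_cast e)))
  rcases hd with rfl | rfl | rfl
  · rw [pow_one] at h2
    rw [h2] at h1
    exact htwo (by linear_combination h1)
  · rw [h2] at h1
    exact htwo (by linear_combination h1)
  · have h3 : (q : ZMod p) = -1 := by linear_combination (q : ZMod p) * h1 - h2
    rw [h3] at h1
    exact htwo (by linear_combination h1)

variable {F : Type*} [Field F] [Fintype F]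

/-- The matrices commuting with an element of order `p` form a field. -/
theorem exists_commutant_field {M : Matrix (Fin 4) (Fin 4) F} {p : ℕ} [hp : Fact p.Prime]
    (hMp : M ^ p = 1) (hM1 : M ≠ 1) (hdvd : p ∣ Fintype.card F ^ 2 + 1) (hpF : (p : F) ≠ 0)
    (hp2 : p ≠ 2) :
    ∃ (f : F[X]) (_ : Fact (Irreducible f)) (φ : AdjoinRoot f →ₐ[F] Matrix (Fin 4) (Fin 4) F),
      f.natDegree = 4 ∧ Polynomial.aeval M f = 0 ∧ Function.Injective φ ∧
      φ (AdjoinRoot.root f) = M ∧ ∀ Y, Commute M Y → ∃ k, φ k = Y := by
  classical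
  have hint : IsIntegral F M := Algebra.IsIntegral.isIntegral M
  set f := minpoly F M with hf
  have hmonic : f.Monic := minpoly.monic hint
  have hdeg : f.natDegree ≤ 4 := by
    refine (Polynomial.natDegree_le_of_dvd (Matrix.minpoly_dvd_charpoly M)
      (Matrix.charpoly_monic M).ne_zero).trans ?_
    rw [Matrix.charpoly_natDegree_eq_dim]
    simp
  have hfX : f ∣ X ^ p - 1 := minpoly.dvd F M (by simp [hMp])
  have hsq : Squarefree f := by
    refine Squarefree.squarefree_of_dvd hfX (Polynomial.Separable.squarefree ?_)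
    exact Polynomial.X_pow_sub_one_separable_iff.mpr hpF
  -- irreducible factors
  have hfac : ∀ r : F[X], Irreducible r → r ∣ f → r.natDegree = 4 ∨ Associated r (X - 1) := by
    intro r hr hrf
    haveI := Fact.mk hr
    let b := AdjoinRoot.powerBasis hr.ne_zero
    haveI : Module.Finite F (AdjoinRoot r) := b.finite
    haveI : Finite (AdjoinRoot r) := Module.finite_of_finite F
    letI := Fintype.ofFinite (AdjoinRoot r)
    have hcard : Fintype.card (AdjoinRoot r) = Fintype.card F ^ r.natDegree := by
      rw [← Nat.card_eq_fintype_card, ← Nat.card_eq_fintype_card,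
        Module.natCard_eq_pow_finrank (K := F) (V := AdjoinRoot r), b.finrank,
        AdjoinRoot.powerBasis_dim]
    set z := AdjoinRoot.root r with hz
    have hzp : z ^ p = 1 := by
      have h : AdjoinRoot.mk r (X ^ p - 1) = 0 := AdjoinRoot.mk_eq_zero.mpr (hrf.trans hfX)
      rw [map_sub, map_pow, AdjoinRoot.mk_X, map_one, sub_eq_zero] at h
      exact h
    by_cases hz1 : z = 1
    · refine Or.inr ?_
      have h : AdjoinRoot.mk r (X - 1) = 0 := by rw [map_sub, AdjoinRoot.mk_X, map_one, sub_eq_zero]; exact hz1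
      have hX : Irreducible (X - 1 : F[X]) := by
        simpa using Polynomial.irreducible_X_sub_C (1 : F)
      exact hr.associated_of_dvd hX (AdjoinRoot.mk_eq_zero.mp h)
    · refine Or.inl ?_
      have hz0 : z ≠ 0 := fun e => by simp [e, zero_pow hp.out.ne_zero] at hzp
      have hord : orderOf z = p := orderOf_eq_prime hzp hz1
      have hd : p ∣ Fintype.card F ^ r.natDegree - 1 := by
        rw [← hcard, ← hord]
        exact orderOf_dvd_of_pow_eq_one (FiniteField.pow_card_sub_one_eq_one z hz0)
      have h1 : 0 < r.natDegree := Irreducible.natDegree_pos hr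
      have h2 : r.natDegree ≤ 4 := (Polynomial.natDegree_le_of_dvd hrf hmonic.ne_zero).trans hdeg
      by_contra h4
      exact not_small_degree hp.out hp2 hdvd (by omega) hd
  -- the minimal polynomial is irreducible of degree four
  have key : Irreducible f ∧ f.natDegree = 4 := by
    have hnu : ¬ IsUnit f := minpoly.not_isUnit F M
    by_cases hex : ∃ r : F[X], Irreducible r ∧ r ∣ f ∧ r.natDegree = 4
    · obtain ⟨r, hr, ⟨g, hg⟩, hr4⟩ := hex
      have hg0 : g ≠ 0 := fun e => hmonic.ne_zero (by rw [hg, e, mul_zero])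
      have hdg : f.natDegree = r.natDegree + g.natDegree := by
        rw [hg, Polynomial.natDegree_mul hr.ne_zero hg0]
      have hgu : IsUnit g := by
        rw [Polynomial.isUnit_iff_degree_eq_zero, Polynomial.degree_eq_natDegree hg0]
        simp
        omega
      exact ⟨(show Associated r f from ⟨hgu.unit, by rw [IsUnit.unit_spec, hg]⟩).irreducible hr,
        by omega⟩
    · exfalso
      push Not at hex
      obtain ⟨r, hr, hrf⟩ := WfDvdMonoid.exists_irreducible_factor hnu hmonic.ne_zero
      have hX : X - 1 ∣ f := ((hfac r hr hrf).resolve_left (hex r hr hrf)).symm.dvd.trans hrf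
      obtain ⟨g, hg⟩ := hX
      by_cases hgu : IsUnit g
      · obtain ⟨c, -, hc⟩ := Polynomial.isUnit_iff.mp hgu
        have h := minpoly.aeval F M
        rw [← hf, hg, ← hc] at h
        simp only [map_mul, map_sub, aeval_X, map_one, aeval_C] at h
        have hcu : IsUnit (algebraMap F (Matrix (Fin 4) (Fin 4) F) c) := by
          refine IsUnit.map (algebraMap F (Matrix (Fin 4) (Fin 4) F)) ?_
          refine Ne.isUnit fun e => hmonic.ne_zero ?_
          rw [hg, ← hc, e, map_zero, mul_zero]
        exact hM1 (sub_eq_zero.mp (hcu.mul_left_eq_zero.mp h))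
      · obtain ⟨s, hs, hsg⟩ := WfDvdMonoid.exists_irreducible_factor hgu
          (fun e => hmonic.ne_zero (by rw [hg, e, mul_zero]))
        have hsf : s ∣ f := hg ▸ hsg.mul_left _
        have hXg : X - 1 ∣ g := ((hfac s hs hsf).resolve_left (hex s hs hsf)).symm.dvd.trans hsg
        have : IsUnit (X - 1 : F[X]) := hsq _ (hg ▸ mul_dvd_mul_left (X - 1) hXg)
        exact Polynomial.not_isUnit_X_sub_C (1 : F) (by simpa using this)
  obtain ⟨hirr, hdeg4⟩ := key
  haveI := Fact.mk hirr
  let φ : AdjoinRoot f →ₐ[F] Matrix (Fin 4) (Fin 4) F :=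
    Ideal.Quotient.liftₐ (Ideal.span {f}) (Polynomial.aeval M) fun g hg => by
      obtain ⟨c, rfl⟩ := Ideal.mem_span_singleton'.mp hg
      rw [map_mul, show Polynomial.aeval M f = 0 from minpoly.aeval F M, mul_zero]
  have hφroot : φ (AdjoinRoot.root f) = M := Polynomial.aeval_X M
  have hφinj : Function.Injective φ := φ.toRingHom.injective
  refine ⟨f, ⟨hirr⟩, φ, hdeg4, minpoly.aeval F M, hφinj, hφroot, fun Y hY => ?_⟩
  have hcomm : ∀ k, Commute (φ k) Y := by
    intro k
    induction k using AdjoinRoot.induction_on with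
    | ih g =>
      induction g using Polynomial.induction_on' with
      | add a b ha hb => rw [map_add, map_add]; exact ha.add_left hb
      | monomial n c =>
        rw [← Polynomial.C_mul_X_pow_eq_monomial, map_mul, map_mul, map_pow, AdjoinRoot.mk_X,
          map_pow, hφroot, AdjoinRoot.mk_C, ← AdjoinRoot.algebraMap_eq, φ.commutes]
        exact (Algebra.commute_algebraMap_left c Y).mul_left (hY.pow_left n)
  let v : Fin 4 → F := Pi.single 0 1
  have hv : v ≠ 0 := fun e => by simpa [v] using congrFun e 0
  let L : AdjoinRoot f →ₗ[F] (Fin 4 → F) :=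
    { toFun := fun k => (φ k).mulVec v
      map_add' := fun a b => by rw [map_add, Matrix.add_mulVec]
      map_smul' := fun c a => by rw [map_smul, Matrix.smul_mulVec, RingHom.id_apply] }
  have hLinj : Function.Injective L := by
    rw [injective_iff_map_eq_zero]
    intro k hk
    by_contra hk0
    apply hv
    have h : (φ k⁻¹).mulVec ((φ k).mulVec v) = v := by
      rw [Matrix.mulVec_mulVec, ← map_mul, inv_mul_cancel₀ hk0, map_one, Matrix.one_mulVec]
    rw [← h, show (φ k).mulVec v = 0 from hk, Matrix.mulVec_zero]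
  let b := AdjoinRoot.powerBasis hirr.ne_zero
  haveI : Module.Finite F (AdjoinRoot f) := b.finite
  have hfr : Module.finrank F (AdjoinRoot f) = Module.finrank F (Fin 4 → F) := by
    rw [Module.finrank_fin_fun, b.finrank, AdjoinRoot.powerBasis_dim, hdeg4]
  have hLsurj : Function.Surjective L :=
    (LinearMap.injective_iff_surjective_of_finrank_eq_finrank hfr).mp hLinj
  obtain ⟨k, hk⟩ := hLsurj (Y.mulVec v)
  refine ⟨k, Matrix.toLin'.injective (LinearMap.ext fun w => ?_)⟩
  obtain ⟨j, rfl⟩ := hLsurj w
  rw [Matrix.toLin'_apply, Matrix.toLin'_apply]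
  show (φ k).mulVec ((φ j).mulVec v) = Y.mulVec ((φ j).mulVec v)
  rw [Matrix.mulVec_mulVec, Matrix.mulVec_mulVec, ← map_mul, mul_comm k j, map_mul,
    ← (hcomm j).eq, ← Matrix.mulVec_mulVec, ← Matrix.mulVec_mulVec,
    show (φ k).mulVec v = Y.mulVec v from hk]

theorem aeval_semiconj {R : Type*} [Ring R] [Algebra F R] {N M M' : R} (h : N * M = M' * N)
    (g : F[X]) : N * Polynomial.aeval M g = Polynomial.aeval M' g * N := by
  induction g using Polynomial.induction_on' with
  | add a b ha hb => rw [map_add, map_add, mul_add, add_mul, ha, hb]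
  | monomial n c =>
    rw [Polynomial.aeval_monomial, Polynomial.aeval_monomial, ← mul_assoc,
      ← Algebra.commutes c N, mul_assoc, (SemiconjBy.pow_right (show SemiconjBy N M M' from h) n).eq,
      mul_assoc]

end CfsgLib.Lie.Suzuki
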