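import Cfsg.Agent.Lib.Lie.Suzuki.Borel

/-!
# Fixed points of the elements of the Suzuki groups

* `uSub`, `tSub`: the unitriangular subgroup and the split torus
* `trichotomy`: an element is free of fixed points, conjugate into `uSub`, or conjugate into `tSub`
* `centralizer_uS`, `centralizer_tS`: centralisers of elements with fixed points
* `orderOf_dvd_of_free`: an element without fixed points has order dividing `q ^ 2 + 1`
-/

set_option autoImplicit false

namespace CfsgLib.Lie.Suzuki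

open scoped Matrix

variable {F : Type*} [Field F] [CharP F 2] [Fintype F] {m : ℕ}
  (hF : Fintype.card F = 2 ^ (2 * m + 1))

local notation "P∞" => pt F m none
local notation "P₀" => pt F m (some ((0 : F), (0 : F)))

theorem uS_zero_zero : uS hF 0 0 = 1 := Subtype.ext (Subtype.ext uM_zero)

theorem uS_eq_one_iff {a b : F} : uS hF a b = 1 ↔ a = 0 ∧ b = 0 := by
  constructor
  · exact fun h => uS_inj hF (h.trans (uS_zero_zero hF).symm)
  · rintro ⟨rfl, rfl⟩
    exact uS_zero_zero hF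

theorem tS_injective : Function.Injective (tS hF) := fun t t' h =>
  (uS_tS_inj hF (a := 0) (b := 0) (a' := 0) (b' := 0) (by rw [h])).2.2

theorem tS_conj_uS (t : Fˣ) (a b : F) :
    tS hF t * uS hF a b = uS hF ((t : F) ^ 2 / th F m t * a) (th F m t * b) * tS hF t := by
  have hθ := th_tits hF
  have hne : th F m (t : F) ≠ 0 := θ_ne_zero t.ne_zero
  have h3 : th F m (th F m (t : F)) = (t : F) ^ 2 := hθ t
  refine Subtype.ext (Subtype.ext ?_)
  show tM (th F m) (t : F) * uM (th F m) a b = uM (th F m) _ _ * tM (th F m) (t : F)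
  ext i j
  fin_cases i <;> fin_cases j <;>
    simp [tM, uM, fQ, Matrix.mul_apply, Fin.sum_univ_four, map_mul, map_div₀, map_pow, h3]
  all_goals field_simp
  all_goals ring

/-- The unitriangular subgroup. -/
def uSub (hF : Fintype.card F = 2 ^ (2 * m + 1)) : Subgroup (Cfsg.Sz F m) where
  carrier := {g | ∃ a b, g = uS hF a b}
  one_mem' := ⟨0, 0, (uS_zero_zero hF).symm⟩
  mul_mem' := by
    rintro _ _ ⟨a, b, rfl⟩ ⟨c, d, rfl⟩
    exact ⟨_, _, uS_mul hF a b c d⟩
  inv_mem' := by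
    rintro _ ⟨a, b, rfl⟩
    refine ⟨a, b + th F m a * a, inv_eq_of_mul_eq_one_right ?_⟩
    rw [uS_mul, CharTwo.add_self_eq_zero, ← add_assoc, CharTwo.add_self_eq_zero, zero_add,
      CharTwo.add_self_eq_zero, uS_zero_zero]

theorem mem_uSub {g : Cfsg.Sz F m} : g ∈ uSub hF ↔ ∃ a b, g = uS hF a b := Iff.rfl

theorem uS_mem_uSub (a b : F) : uS hF a b ∈ uSub hF := ⟨a, b, rfl⟩

theorem card_uSub : Nat.card (uSub hF) = Fintype.card F ^ 2 := by
  rw [← Nat.card_eq_of_bijective (fun p : F × F => (⟨uS hF p.1 p.2, uS_mem_uSub hF _ _⟩ : uSub hF))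
    ⟨fun p p' h => by
      obtain ⟨h1, h2⟩ := uS_inj hF (congrArg Subtype.val h)
      exact Prod.ext h1 h2,
     fun ⟨g, a, b, h⟩ => ⟨(a, b), Subtype.ext h.symm⟩⟩,
    Nat.card_prod, Nat.card_eq_fintype_card, sq]

theorem isPGroup_uSub : IsPGroup 2 (uSub hF) :=
  IsPGroup.of_card (n := (2 * m + 1) * 2) (by rw [card_uSub, hF, ← pow_mul])

/-- The split torus. -/
def tSub (hF : Fintype.card F = 2 ^ (2 * m + 1)) : Subgroup (Cfsg.Sz F m) := (tS hF).range

theorem mem_tSub {g : Cfsg.Sz F m} : g ∈ tSub hF ↔ ∃ t, g = tS hF t := by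
  simp only [tSub, MonoidHom.mem_range, eq_comm]

theorem card_tSub : Nat.card (tSub hF) = Fintype.card F - 1 := by
  rw [← Nat.card_eq_fintype_card, ← Nat.card_units]
  exact (Nat.card_congr (MonoidHom.ofInjective (tS_injective hF)).toEquiv).symm

theorem isCyclic_tSub : IsCyclic (tSub hF) :=
  isCyclic_of_surjective (tS hF).rangeRestrict (tS hF).rangeRestrict_surjective

include hF in
theorem le_stab_two {g : Cfsg.Sz F m} (hm : 1 ≤ m) :
    g ∈ tSub hF ↔ g • P∞ = P∞ ∧ g • P₀ = P₀ := by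
  rw [mem_tSub]
  constructor
  · rintro ⟨t, rfl⟩
    exact ⟨tS_none hF t, tS_zero hF t⟩
  · exact fun h => stab_two hF hm h.1 h.2

theorem uSub_smul {g : Cfsg.Sz F m} (hg : g ∈ uSub hF) : g • P∞ = P∞ := by
  obtain ⟨a, b, rfl⟩ := hg
  exact uS_none hF a b

theorem uSub_unique_fix {g : Cfsg.Sz F m} (hg : g ∈ uSub hF) (h1 : g ≠ 1)
    {x : Cfsg.suzukiOvoid F m} (hx : g • x = x) : x = P∞ := by
  obtain ⟨a, b, rfl⟩ := hg
  obtain ⟨_ | ⟨c, d⟩, rfl⟩ := (pt F m).surjective x
  · rfl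
  rw [uS_some, EmbeddingLike.apply_eq_iff_eq, Option.some.injEq, Prod.mk.injEq] at hx
  obtain ⟨ha, hb⟩ := hx
  rw [add_eq_left] at ha
  subst ha
  rw [map_zero, zero_mul, add_zero, add_eq_left] at hb
  exact absurd ((uS_eq_one_iff hF).mpr ⟨rfl, hb⟩) h1

include hF in
theorem tSub_fix (hm : 1 ≤ m) {g : Cfsg.Sz F m} (hg : g ∈ tSub hF) (h1 : g ≠ 1)
    {x : Cfsg.suzukiOvoid F m} (hx : g • x = x) : x = P∞ ∨ x = P₀ := by
  by_contra h
  push Not at h
  obtain ⟨hg0, hg1⟩ := (le_stab_two hF hm).mp hg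
  exact h1 (eq_one_of_fix hF hm (a := P∞) (b := P₀) (c := x) (by simp) h.2.symm h.1.symm hg0 hg1 hx)

include hF in
theorem tS_lam_ne_one (hm : 1 ≤ m) {t : Fˣ} (ht : t ≠ 1) :
    (t : F) ^ 2 / th F m t ≠ 1 ∧ th F m t ≠ 1 := by
  constructor <;> intro h
  all_goals
    apply ht
    refine tS_injective hF ?_
    rw [map_one]
  · refine eq_one_of_fix hF hm (a := P∞) (b := P₀) (c := pt F m (some ((1 : F), (0 : F))))
      (by simp) (by simp) (by simp) (tS_none hF t) (tS_zero hF t) ?_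
    rw [tS_some, h, mul_one, mul_zero]
  · refine eq_one_of_fix hF hm (a := P∞) (b := P₀) (c := pt F m (some ((0 : F), (1 : F))))
      (by simp) (by simp) (by simp) (tS_none hF t) (tS_zero hF t) ?_
    rw [tS_some, h, mul_one, mul_zero]

include hF in
/-- An element of the stabiliser of a point with nontrivial torus part fixes a second point. -/
theorem second_fix (hm : 1 ≤ m) (a b : F) {t : Fˣ} (ht : t ≠ 1) :
    ∃ x0 y0 : F, (uS hF a b * tS hF t) • pt F m (some (x0, y0)) = pt F m (some (x0, y0)) := by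
  obtain ⟨hl, hμ⟩ := tS_lam_ne_one hF hm ht
  set lam := (t : F) ^ 2 / th F m t with hlam
  set μ := th F m (t : F) with hmu
  have hl1 : (1 : F) + lam ≠ 0 := fun e => hl (CharTwo.add_eq_zero.mp e).symm
  have hμ1 : (1 : F) + μ ≠ 0 := fun e => hμ (CharTwo.add_eq_zero.mp e).symm
  obtain ⟨x0, hx0⟩ : ∃ x0, x0 = a / (1 + lam) := ⟨_, rfl⟩
  obtain ⟨y0, hy0⟩ : ∃ y0, y0 = (th F m a * (lam * x0) + b) / (1 + μ) := ⟨_, rfl⟩
  refine ⟨x0, y0, ?_⟩
  rw [mul_smul, tS_some, uS_some, EmbeddingLike.apply_eq_iff_eq, Option.some.injEq, Prod.mk.injEq]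
  have h2 : (2 : F) = 0 := CharTwo.two_eq_zero
  have e1 : x0 * (1 + lam) = a := by rw [hx0, div_mul_cancel₀ _ hl1]
  have e2 : y0 * (1 + μ) = th F m a * (lam * x0) + b := by rw [hy0, div_mul_cancel₀ _ hμ1]
  constructor
  · linear_combination (-1 : F) * e1 + (lam * x0) * h2
  · linear_combination (-1 : F) * e2 + (μ * y0) * h2

include hF in
/-- An element is free of fixed points, or conjugate into one of the two subgroups. -/
theorem trichotomy (hm : 1 ≤ m) (g : Cfsg.Sz F m) :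
    (∀ x : Cfsg.suzukiOvoid F m, g • x ≠ x) ∨
      ∃ h : Cfsg.Sz F m, h⁻¹ * g * h ∈ uSub hF ∨ h⁻¹ * g * h ∈ tSub hF := by
  by_cases hfree : ∀ x : Cfsg.suzukiOvoid F m, g • x ≠ x
  · exact Or.inl hfree
  push Not at hfree
  obtain ⟨x, hx⟩ := hfree
  haveI := pretransitive hF
  obtain ⟨h, rfl⟩ := MulAction.exists_smul_eq (Cfsg.Sz F m) P∞ x
  obtain ⟨a, b, t, hk⟩ := stab_inf hF hm (g := h⁻¹ * g * h)
    (by rw [mul_smul, mul_smul, hx, inv_smul_smul])
  refine Or.inr ?_
  by_cases ht : t = 1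
  · exact ⟨h, Or.inl ⟨a, b, by rw [hk, ht, map_one, mul_one]⟩⟩
  obtain ⟨x0, y0, hfix⟩ := second_fix hF hm a b ht
  rw [← hk] at hfix
  obtain ⟨k, hk0, hk1⟩ := exists_move hF (x := P∞) (y := pt F m (some (x0, y0))) (by simp)
  refine ⟨h * k, Or.inr ((le_stab_two hF hm).mpr ⟨?_, ?_⟩)⟩
  all_goals rw [show (h * k)⁻¹ * g * (h * k) = k⁻¹ * ((h⁻¹ * g * h) * k) by group, mul_smul,
    mul_smul, inv_smul_eq_iff]
  · rw [hk0, mul_smul, mul_smul, hx, inv_smul_smul]
  · rw [hk1, hfix]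

include hF in
/-- An involution fixes exactly one point. -/
theorem involution_fix (hm : 1 ≤ m) {z : Cfsg.Sz F m} (hz : z ^ 2 = 1) (h1 : z ≠ 1) :
    ∃ p : Cfsg.suzukiOvoid F m, z • p = p ∧ ∀ x : Cfsg.suzukiOvoid F m, z • x = x → x = p := by
  rcases trichotomy hF hm z with hfree | ⟨h, hu | ht⟩
  · exfalso
    have hU : IsPGroup 2 (Subgroup.zpowers z) := by
      refine IsPGroup.of_card_dvd_pow (n := 1) ?_
      rw [Nat.card_zpowers]
      exact orderOf_dvd_of_pow_eq_one hz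
    have hmod := hU.card_modEq_card_fixedPoints (α := Cfsg.suzukiOvoid F m)
    have hX : Nat.card (Cfsg.suzukiOvoid F m) = Fintype.card F ^ 2 + 1 := by
      rw [← Nat.card_congr (pt F m), Finite.card_option, Nat.card_prod, Nat.card_eq_fintype_card, sq]
    have : IsEmpty (MulAction.fixedPoints (Subgroup.zpowers z) (Cfsg.suzukiOvoid F m)) :=
      ⟨fun x => hfree x.1 (x.2 ⟨z, Subgroup.mem_zpowers z⟩)⟩
    rw [Nat.card_of_isEmpty (α := MulAction.fixedPoints (Subgroup.zpowers z) _), hX,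
      Nat.modEq_zero_iff_dvd, hF] at hmod
    have : 2 ∣ (2 ^ (2 * m + 1)) ^ 2 := dvd_pow (dvd_pow_self 2 (by omega)) (by omega)
    omega
  · refine ⟨h • P∞, ?_, fun x hx => ?_⟩
    · have := uSub_smul hF hu
      rwa [mul_smul, mul_smul, inv_smul_eq_iff] at this
    · have hu1 : h⁻¹ * z * h ≠ 1 := fun e => h1 (by
        calc z = h * (h⁻¹ * z * h) * h⁻¹ := by group
          _ = 1 := by rw [e]; group)
      have h3 : (h⁻¹ * z * h) • (h⁻¹ • x) = h⁻¹ • x := by
        rw [mul_smul, mul_smul, smul_inv_smul, hx]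
      have := uSub_unique_fix hF hu hu1 h3
      rwa [inv_smul_eq_iff] at this
  · exfalso
    have h2 : (h⁻¹ * z * h) ^ 2 = 1 := by
      calc (h⁻¹ * z * h) ^ 2 = h⁻¹ * z ^ 2 * h := by simp [sq, mul_assoc]
        _ = 1 := by rw [hz]; group
    have hd : orderOf (h⁻¹ * z * h) ∣ Fintype.card F - 1 := by
      rw [← card_tSub hF, ← Subgroup.orderOf_mk _ ht]
      exact orderOf_dvd_natCard _
    have hodd : Odd (Fintype.card F - 1) := by
      rw [hF]
      exact Nat.Even.sub_odd (Nat.one_le_two_pow) (even_two.pow_of_ne_zero (by omega)) odd_one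
    have h1' := Nat.eq_one_of_dvd_coprimes (Nat.coprime_two_left.mpr hodd)
      (orderOf_dvd_of_pow_eq_one h2) hd
    rw [orderOf_eq_one_iff] at h1'
    apply h1
    calc z = h * (h⁻¹ * z * h) * h⁻¹ := by group
      _ = 1 := by rw [h1']; group

omit [CharP F 2] [Fintype F] in
theorem smul_of_commute {g y : Cfsg.Sz F m} (h : Commute g y) {x : Cfsg.suzukiOvoid F m}
    (hx : g • x = x) : g • (y • x) = y • x := by
  rw [← mul_smul, h.eq, mul_smul, hx]

include hF in
theorem centralizer_uS (hm : 1 ≤ m) {g : Cfsg.Sz F m} (hg : g ∈ uSub hF) (h1 : g ≠ 1)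
    {y : Cfsg.Sz F m} (hy : Commute g y) : y ∈ uSub hF := by
  have hy0 : y • P∞ = P∞ :=
    uSub_unique_fix hF hg h1 (smul_of_commute hy (uSub_smul hF hg))
  obtain ⟨a, b, t, rfl⟩ := stab_inf hF hm hy0
  by_cases ht : t = 1
  · exact ⟨a, b, by rw [ht, map_one, mul_one]⟩
  exfalso
  obtain ⟨x0, y0, hz⟩ := second_fix hF hm a b ht
  set z := pt F m (some (x0, y0)) with hzdef
  have hzne : z ≠ P∞ := by simp [hzdef]
  have hgz := smul_of_commute hy.symm hz
  have h3 : g • z ≠ z := fun e => hzne (uSub_unique_fix hF hg h1 e)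
  have h4 : g • z ≠ P∞ := fun e => hzne
    (MulAction.injective g (e.trans (uSub_smul hF hg).symm))
  have := eq_one_of_fix hF hm hzne h4.symm h3.symm hz hy0 hgz
  exact ht (uS_tS_inj hF (a := a) (b := b) (t := t) (a' := 0) (b' := 0) (t' := 1)
    (this.trans (by rw [uS_zero_zero, map_one, mul_one]))).2.2

include hF in
theorem centralizer_tS (hm : 1 ≤ m) {g : Cfsg.Sz F m} (hg : g ∈ tSub hF) (h1 : g ≠ 1)
    {y : Cfsg.Sz F m} (hy : Commute g y) : y ∈ tSub hF := by
  obtain ⟨hg0, hg1⟩ := (le_stab_two hF hm).mp hg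
  rcases tSub_fix hF hm hg h1 (smul_of_commute hy hg0) with h0 | h0
  · refine (le_stab_two hF hm).mpr ⟨h0, ?_⟩
    rcases tSub_fix hF hm hg h1 (smul_of_commute hy hg1) with h | h
    · exact absurd (MulAction.injective y (h.trans h0.symm)) (by simp)
    · exact h
  -- a swapping element has an involution power
  exfalso
  have h10 : y • P₀ = P∞ := by
    rcases tSub_fix hF hm hg h1 (smul_of_commute hy hg1) with h | h
    · exact h
    · exact absurd (MulAction.injective y (h0.trans h.symm)) (by simp)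
  have hy2 : y ^ 2 ∈ tSub hF := (le_stab_two hF hm).mpr
    ⟨by rw [sq, mul_smul, h0, h10], by rw [sq, mul_smul, h10, h0]⟩
  have hodd : Odd (orderOf (y ^ 2)) := by
    have h : orderOf (y ^ 2) ∣ Nat.card (tSub hF) := by
      rw [← Subgroup.orderOf_mk (y ^ 2) hy2]
      exact orderOf_dvd_natCard _
    rw [card_tSub] at h
    refine Odd.of_dvd_nat ?_ h
    rw [hF]
    exact Nat.Even.sub_odd (Nat.one_le_two_pow) (even_two.pow_of_ne_zero (by omega)) odd_one
  obtain ⟨k, hk⟩ := hodd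
  set z := y ^ orderOf (y ^ 2) with hz
  have hzg : Commute g z := hy.pow_right _
  have hz2 : z ^ 2 = 1 := by rw [hz, ← pow_mul, mul_comm, pow_mul, pow_orderOf_eq_one]
  have hz0 : z • P∞ = P₀ := by
    rw [hz, hk, pow_succ', pow_mul, mul_smul, ((le_stab_two hF hm).mp (pow_mem hy2 k)).1, h0]
  have hz1 : z ≠ 1 := fun e => by simp [e] at hz0
  obtain ⟨p, hp, hpu⟩ := involution_fix hF hm hz2 hz1
  have hgp : g • p = p := hpu _ (smul_of_commute hzg.symm hp)
  rcases tSub_fix hF hm hg h1 hgp with e | e <;> rw [e] at hp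
  · rw [hz0] at hp
    simp at hp
  · have hz0' : z • P₀ = P∞ := by
      rw [← hz0, smul_smul, ← sq, hz2, one_smul]
    rw [hz0'] at hp
    simp at hp

end CfsgLib.Lie.Suzuki
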