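import Cfsg.Agent.Lib.Lie.Suzuki.Classes
import Cfsg.Agent.Lib.Lie.Suzuki.Ore

/-!
# Transitive actions of fixity two of a Suzuki group

* `borel_le_of_even`: a point stabiliser of even order contains a Borel subgroup
* `torus_of_odd`: a non-trivial point stabiliser of odd order is a conjugate of the split torus
* `fixity_two`: the two actions
-/

set_option autoImplicit false

namespace CfsgLib.Lie.Suzuki

variable {F : Type*} [Field F] [CharP F 2] [Fintype F] {m : ℕ}
  (hF : Fintype.card F = 2 ^ (2 * m + 1))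

variable {Ω : Type*} [MulAction (Cfsg.Sz F m) Ω]
  (hfix : ∀ g : Cfsg.Sz F m, g ≠ 1 → ∀ s : Finset Ω, (∀ x ∈ s, g • x = x) → s.card ≤ 2)

local notation:max "St" α:max => MulAction.stabilizer (Cfsg.Sz F m) α

theorem smul_fixed_of_conj_mem {α : Ω} {h c : Cfsg.Sz F m} (hc : c⁻¹ * h * c ∈ St α) : h • c • α = c • α := by
  have h1 : (c⁻¹ * h * c) • α = α := hc
  rwa [mul_smul, mul_smul, inv_smul_eq_iff] at h1

include hF in
/-- The conjugate of a central element by an element fixing the point at infinity. -/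
theorem conj_center_inf (a c b : F) (t : Fˣ) :
    uS hF a c * tS hF t * uS hF 0 b * (uS hF a c * tS hF t)⁻¹ = uS hF 0 (th F m t * b) := by
  rw [mul_inv_rev, show uS hF a c * tS hF t * uS hF 0 b * ((tS hF t)⁻¹ * (uS hF a c)⁻¹) =
    uS hF a c * (tS hF t * uS hF 0 b * (tS hF t)⁻¹) * (uS hF a c)⁻¹ by group, conj_uS, mul_zero, conj_uS_uS]
  congr 1
  simp

include hF hfix in
theorem card_centers_le (hm : 1 ≤ m) {α : Ω} {b₀ : F} (hb : b₀ ≠ 0)
    (Hi : Finset (Cfsg.Sz F m)) (hHi : ∀ g, g ∈ (St α) → g • pt F m none = pt F m none → g ∈ Hi)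
    (Z : Finset F) (hZ : ∀ b ∈ Z, b ≠ 0 ∧ uS hF 0 b ∈ St α) :
    Fintype.card F ^ 2 * Z.card ≤ 2 * Hi.card := by
  classical
  have hc : ∀ b : F, ∃ c : Cfsg.Sz F m, b ≠ 0 → c⁻¹ * uS hF 0 b₀ * c = uS hF 0 b := fun b => by
    by_cases hb' : b = 0
    · exact ⟨1, fun h => absurd hb' h⟩
    obtain ⟨k, hk⟩ := isConj_iff.1 (conj_two hF hb hb')
    exact ⟨k⁻¹, fun _ => by rw [inv_inv, hk]⟩
  choose c hc using hc
  let D : Finset ((F × F) × F) := Finset.univ ×ˢ Z
  let f : (F × F) × F → Ω := fun p => (uS hF p.1.1 p.1.2 * c p.2) • α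
  have hcomm : ∀ p q : F, (uS hF p q)⁻¹ * uS hF 0 b₀ * uS hF p q = uS hF 0 b₀ := fun p q => by
    rw [mul_assoc, uS_comm_zero hF, inv_mul_cancel_left]
  have hmove : ∀ p ∈ D, (uS hF p.1.1 p.1.2 * c p.2)⁻¹ * uS hF 0 b₀ * (uS hF p.1.1 p.1.2 * c p.2) =
      uS hF 0 p.2 := fun p hp => by
    rw [← hc p.2 (hZ _ (Finset.mem_product.1 hp).2).1]
    calc _ = (c p.2)⁻¹ * ((uS hF p.1.1 p.1.2)⁻¹ * uS hF 0 b₀ * uS hF p.1.1 p.1.2) * c p.2 := by group
      _ = _ := by rw [hcomm]
  have himg : (D.image f).card ≤ 2 := by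
    refine hfix (uS hF 0 b₀) (fun e => hb (uS_inj hF (e.trans (uS_one hF).symm)).2) _ fun x hx => ?_
    obtain ⟨p, hp, rfl⟩ := Finset.mem_image.1 hx
    exact smul_fixed_of_conj_mem (hmove p hp ▸ (hZ _ (Finset.mem_product.1 hp).2).2)
  have hfib : ∀ x ∈ D.image f, (D.filter fun p => f p = x).card ≤ Hi.card := fun x hx => by
    obtain ⟨p₀, hp₀, rfl⟩ := Finset.mem_image.1 hx
    refine Finset.card_le_card_of_injOn
      (fun p => (uS hF p₀.1.1 p₀.1.2 * c p₀.2)⁻¹ * (uS hF p.1.1 p.1.2 * c p.2)) ?_ ?_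
    · intro p hp
      obtain ⟨hpD, hpe⟩ := Finset.mem_filter.1 hp
      have hmem : (uS hF p₀.1.1 p₀.1.2 * c p₀.2)⁻¹ * (uS hF p.1.1 p.1.2 * c p.2) ∈ St α := by
        show ((uS hF p₀.1.1 p₀.1.2 * c p₀.2)⁻¹ * (uS hF p.1.1 p.1.2 * c p.2)) • α = α
        rw [mul_smul, inv_smul_eq_iff]
        exact hpe
      refine hHi _ hmem ?_
      beta_reduce
      generalize hk : (uS hF p₀.1.1 p₀.1.2 * c p₀.2)⁻¹ * (uS hF p.1.1 p.1.2 * c p.2) = k
      have hkz : k * uS hF 0 p.2 * k⁻¹ = uS hF 0 p₀.2 := by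
        rw [← hk, ← hmove p hpD, ← hmove p₀ hp₀]; group
      refine uSub_unique_fix hF (g := uS hF 0 p₀.2) ⟨_, _, rfl⟩
        (fun e => (hZ _ (Finset.mem_product.1 hp₀).2).1 (uS_inj hF (e.trans (uS_one hF).symm)).2) ?_
      rw [← hkz, mul_smul, mul_smul, inv_smul_smul, uS_none]
    · intro p hp p' hp' h
      have e1 := mul_left_cancel h
      have hz : p.2 = p'.2 := by
        refine (uS_inj hF (a := 0) (a' := 0) ?_).2
        rw [← hmove p (Finset.mem_filter.1 hp).1, ← hmove p' (Finset.mem_filter.1 hp').1, e1]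
      rw [hz] at e1
      have e2 := uS_inj hF (mul_right_cancel e1)
      exact Prod.ext (Prod.ext e2.1 e2.2) hz
  have hD : D.card = Fintype.card F ^ 2 * Z.card := by
    rw [Finset.card_product, Finset.card_univ, Fintype.card_prod, sq]
  rw [← hD]
  exact (Finset.card_le_mul_card_image D _ hfib).trans ((Nat.mul_le_mul_left _ himg).trans (le_of_eq (mul_comm _ _)))

include hF hfix in
/-- A point stabiliser containing an involution fixing the point at infinity contains the Borel subgroup. -/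
theorem borel_le_of_center (hm : 1 ≤ m) {α : Ω} {b₀ : F} (hb : b₀ ≠ 0) (hmem : uS hF 0 b₀ ∈ St α) :
    CfsgLib.Lie.Suzuki.borel F m ≤ St α := by
  classical
  let Hi : Finset (Cfsg.Sz F m) := Finset.univ.filter fun g => g ∈ (St α) ∧ g • pt F m none = pt F m none
  let S : Finset (F × F) := Finset.univ.filter fun p => uS hF p.1 p.2 ∈ St α
  let Z : Finset F := Finset.univ.filter fun b => b ≠ 0 ∧ uS hF 0 b ∈ St α
  let T : Subgroup Fˣ :=
    { carrier := {t | ∃ a b, uS hF a b * tS hF t ∈ St α}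
      one_mem' := ⟨0, 0, by rw [uS_one, map_one, one_mul]; exact one_mem _⟩
      mul_mem' := by
        rintro t t' ⟨a, b, h⟩ ⟨a', b', h'⟩
        have h2 := mul_mem h h'
        rw [show uS hF a b * tS hF t * (uS hF a' b' * tS hF t') =
          uS hF a b * (tS hF t * uS hF a' b' * (tS hF t)⁻¹) * (tS hF t * tS hF t') by group, conj_uS, uS_mul,
          ← map_mul] at h2
        exact ⟨_, _, h2⟩
      inv_mem' := by
        rintro t ⟨a, b, h⟩
        have h2 := inv_mem h
        rw [mul_inv_rev, uS_inv, ← map_inv, show tS hF t⁻¹ * uS hF a (b + th F m a * a) =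
          tS hF t⁻¹ * uS hF a (b + th F m a * a) * (tS hF t⁻¹)⁻¹ * tS hF t⁻¹ by group, conj_uS] at h2
        exact ⟨_, _, h2⟩ }
  have hTZ : Nat.card T ≤ Z.card := by
    rw [Nat.card_eq_fintype_card, ← Finset.card_univ]
    refine Finset.card_le_card_of_injOn (fun t : T => th F m ((t : Fˣ) : F) * b₀) ?_ ?_
    · intro t _
      obtain ⟨a, b, h⟩ := t.2
      refine Finset.mem_filter.2 ⟨Finset.mem_univ _, mul_ne_zero (θ_ne_zero (Units.ne_zero _)) hb, ?_⟩
      rw [← conj_center_inf hF a b b₀ t]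
      exact mul_mem (mul_mem h hmem) (inv_mem h)
    · intro t _ t' _ h
      exact Subtype.ext (Units.ext ((th F m).injective (mul_right_cancel₀ hb h)))
  have hmain := card_centers_le hF hfix hm hb Hi (fun g h1 h2 => Finset.mem_filter.2 ⟨Finset.mem_univ _, h1, h2⟩)
    Z (fun b h => (Finset.mem_filter.1 h).2)
  have hHi : Hi.card ≤ S.card * Nat.card T := by
    have hdec : ∀ g : Cfsg.Sz F m, ∃ a b t, g ∈ Hi → g = uS hF a b * tS hF t := fun g => by
      by_cases h : g ∈ Hi
      · obtain ⟨a, b, t, e⟩ := stab_inf hF hm (Finset.mem_filter.1 h).2.2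
        exact ⟨a, b, t, fun _ => e⟩
      · exact ⟨0, 0, 1, fun h' => absurd h' h⟩
    choose A B τ hAB using hdec
    refine (Finset.card_le_mul_card_image (f := τ) Hi S.card fun t ht => ?_).trans
      (Nat.mul_le_mul_left _ ?_)
    · obtain ⟨g₀, hg₀, rfl⟩ := Finset.mem_image.1 ht
      have key : ∀ g ∈ Hi.filter (fun g => τ g = τ g₀), g * g₀⁻¹ = uS hF (A g) (B g) * (uS hF (A g₀) (B g₀))⁻¹ := by
        intro g hg
        obtain ⟨hg1, hg2⟩ := Finset.mem_filter.1 hg
        conv_lhs => rw [hAB g hg1, hAB g₀ hg₀, hg2]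
        group
      refine Finset.card_le_card_of_injOn (fun g => (A g + A g₀,
        B g + (B g₀ + th F m (A g₀) * A g₀) + th F m (A g) * A g₀)) ?_ ?_
      · intro g hg
        refine Finset.mem_filter.2 ⟨Finset.mem_univ _, ?_⟩
        have h1 := mul_mem (Finset.mem_filter.1 (Finset.mem_filter.1 hg).1).2.1
          (inv_mem (Finset.mem_filter.1 hg₀).2.1)
        rwa [key g hg, uS_inv, uS_mul] at h1
      · intro g hg g' hg' h
        refine mul_right_cancel (b := g₀⁻¹) ?_
        rw [key g hg, key g' hg', uS_inv, uS_mul, uS_mul]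
        exact congrArg (fun p : F × F => uS hF p.1 p.2) h
    · rw [Nat.card_eq_fintype_card]
      refine (Finset.card_le_card (t := Finset.univ.image fun t : T => (t : Fˣ)) fun t ht => ?_).trans
        (Finset.card_image_le.trans Finset.card_univ.le)
      obtain ⟨g, hg, rfl⟩ := Finset.mem_image.1 ht
      exact Finset.mem_image.2 ⟨⟨τ g, A g, B g, hAB g hg ▸ (Finset.mem_filter.1 hg).2.1⟩, Finset.mem_univ _, rfl⟩
  have hfibS : ∀ x ∈ S.image Prod.fst, (S.filter fun p => p.1 = x).card ≤ Z.card + 1 := fun x hx => by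
    obtain ⟨p₀, hp₀, rfl⟩ := Finset.mem_image.1 hx
    have h0 : (insert (0 : F) Z).card ≤ Z.card + 1 := Finset.card_insert_le _ _
    refine le_trans (Finset.card_le_card_of_injOn (fun p => p.2 + p₀.2) ?_ ?_) h0
    · intro p hp
      obtain ⟨hpS, hpe⟩ := Finset.mem_filter.1 hp
      refine Finset.mem_coe.2 (Finset.mem_insert.2 (or_iff_not_imp_left.2 fun h =>
        Finset.mem_filter.2 ⟨Finset.mem_univ _, h, ?_⟩))
      have h1 := mul_mem (Finset.mem_filter.1 hpS).2 (inv_mem (Finset.mem_filter.1 hp₀).2)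
      rw [hpe, uS_inv, uS_mul, CharTwo.add_self_eq_zero] at h1
      convert h1 using 2
      have h2 : (2 : F) = 0 := CharTwo.two_eq_zero
      grind
    · intro p hp p' hp' h
      exact Prod.ext ((Finset.mem_filter.1 hp).2.trans (Finset.mem_filter.1 hp').2.symm) (add_right_cancel h)
  have hS : S.card ≤ (Z.card + 1) * Fintype.card F :=
    (Finset.card_le_mul_card_image S _ hfibS).trans (Nat.mul_le_mul_left _ (Finset.card_le_univ _))
  have h8 := card_ge_eight hF hm
  have hall : Fintype.card F ^ 2 * Z.card ≤ 2 * ((Z.card + 1) * Fintype.card F * Nat.card T) :=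
    hmain.trans (Nat.mul_le_mul_left _ (hHi.trans (Nat.mul_le_mul_right _ hS)))
  have hTall : T = ⊤ := by
    by_contra hne
    have hidx : T.index ∣ Fintype.card F - 1 := by
      rw [← Fintype.card_units, ← Nat.card_eq_fintype_card]
      exact T.index_dvd_card
    have hodd : Odd T.index := (odd_card_sub_one hF).of_dvd_nat hidx
    have h3 : 3 ≤ T.index := by
      obtain ⟨k, hk⟩ := hodd
      have := mt Subgroup.index_eq_one.1 hne
      omega
    have hmul := T.index_mul_card
    rw [Nat.card_eq_fintype_card (α := Fˣ), Fintype.card_units] at hmul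
    have hk3 : 3 * Nat.card T ≤ Fintype.card F - 1 := hmul ▸ Nat.mul_le_mul_right _ h3
    have hq : Fintype.card F * Z.card ≤ 2 * ((Z.card + 1) * Nat.card T) := by
      refine Nat.le_of_mul_le_mul_left ?_ (show 0 < Fintype.card F by omega)
      calc Fintype.card F * (Fintype.card F * Z.card) = Fintype.card F ^ 2 * Z.card := by ring
        _ ≤ _ := hall
        _ = _ := by ring
    have hpos : 0 < Nat.card T := Nat.card_pos
    rcases Nat.lt_or_ge Z.card 2 with hi | hi
    · have hi1 : Z.card = 1 := by omega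
      rw [hi1] at hq hTZ
      have := Nat.mul_le_mul_left 2 (Nat.mul_le_mul_left 2 hTZ)
      omega
    · have : 3 * (2 * ((Z.card + 1) * Nat.card T)) ≤ 3 * Z.card * (Fintype.card F - 1) := by
        calc 3 * (2 * ((Z.card + 1) * Nat.card T)) = (2 * Z.card + 2) * (3 * Nat.card T) := by ring
          _ ≤ (3 * Z.card) * (Fintype.card F - 1) := Nat.mul_le_mul (by omega) hk3
      obtain ⟨r, hr⟩ : ∃ r, Fintype.card F = r + 1 := ⟨_, (Nat.sub_add_cancel (by omega)).symm⟩
      rw [hr, Nat.add_sub_cancel] at this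
      rw [hr] at hq
      nlinarith
  have hTt : ∀ t : Fˣ, ∃ a b, uS hF a b * tS hF t ∈ St α := fun t => show t ∈ T by rw [hTall]; trivial
  have hZall : ∀ b : F, uS hF 0 b ∈ St α := fun b => by
    rcases eq_or_ne b 0 with rfl | hb'
    · rw [uS_one]; exact one_mem _
    obtain ⟨t, ht⟩ := th_unit_surjective (m := m) (b / b₀) (div_ne_zero hb' hb)
    obtain ⟨a, c, h⟩ := hTt t
    have := mul_mem (mul_mem h hmem) (inv_mem h)
    rwa [conj_center_inf, ht, div_mul_cancel₀ _ hb] at this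
  obtain ⟨a₀, b₁, ha₀, hab⟩ : ∃ a b, a ≠ 0 ∧ uS hF a b ∈ St α := by
    by_contra hne
    push Not at hne
    have hS1 : S.card ≤ Fintype.card F := by
      refine (Finset.card_le_card_of_injOn Prod.snd (fun p _ => Finset.mem_coe.2 (Finset.mem_univ p.2)) ?_).trans
        Finset.card_univ.le
      intro p hp p' hp' h
      have z : ∀ q ∈ S, q.1 = 0 := fun q hq => by
        by_contra e
        exact hne _ _ e (Finset.mem_filter.1 hq).2
      exact Prod.ext ((z p hp).trans (z p' hp').symm) h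
    have hTc : Nat.card T ≤ Z.card := hTZ
    have h1 := hmain.trans (Nat.mul_le_mul_left 2 (hHi.trans (Nat.mul_le_mul hS1 hTc)))
    have hZpos : 0 < Z.card := lt_of_lt_of_le Nat.card_pos hTZ
    have h2 : Fintype.card F * Z.card ≤ 2 * Z.card := by
      refine Nat.le_of_mul_le_mul_left ?_ (show 0 < Fintype.card F by omega)
      calc Fintype.card F * (Fintype.card F * Z.card) = Fintype.card F ^ 2 * Z.card := by ring
        _ ≤ _ := h1
        _ = _ := by ring
    nlinarith
  have hU : ∀ a b : F, uS hF a b ∈ St α := fun a b => by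
    obtain ⟨d, hd⟩ : ∃ d, uS hF a d ∈ St α := by
      rcases eq_or_ne a 0 with rfl | ha
      · exact ⟨0, hZall 0⟩
      obtain ⟨t, ht⟩ := torusRatio_surjective hF (a / a₀) (div_ne_zero ha ha₀)
      obtain ⟨x, y, h⟩ := hTt t
      have := mul_mem (mul_mem h hab) (inv_mem h)
      rw [mul_inv_rev, show uS hF x y * tS hF t * uS hF a₀ b₁ * ((tS hF t)⁻¹ * (uS hF x y)⁻¹) =
        uS hF x y * (tS hF t * uS hF a₀ b₁ * (tS hF t)⁻¹) * (uS hF x y)⁻¹ by group, conj_uS, conj_uS_uS, ht,
        div_mul_cancel₀ _ ha₀] at this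
      exact ⟨_, this⟩
    have := mul_mem hd (hZall (b + d))
    have h2 : (2 : F) = 0 := CharTwo.two_eq_zero
    rwa [uS_mul, add_zero, mul_zero, add_zero, show d + (b + d) = b by grind] at this
  intro g hg
  obtain ⟨a, b, t, rfl⟩ := stab_inf hF hm hg
  obtain ⟨x, y, h⟩ := hTt t
  have : tS hF t ∈ St α := by simpa using mul_mem (inv_mem (hU x y)) h
  exact mul_mem (hU a b) this

include hF hfix in
/-- A point stabiliser of odd order has no element without fixed points on the ovoid. -/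
theorem not_free_of_odd (hm : 1 ≤ m) {α : Ω} (hodd : Odd (Nat.card (St α))) {z : Cfsg.Sz F m}
    (hz : z ∈ St α) : ¬ Free z := by
  classical
  intro hfree
  have hcz : ∀ b : {b : Cfsg.Sz F m // b ∈ Subgroup.zpowers z ∧ IsConj z b}, ∃ c, c⁻¹ * z * c = b.1 := fun b => by
    obtain ⟨k, hk⟩ := isConj_iff.1 b.2.2
    exact ⟨k⁻¹, by rw [inv_inv, hk]⟩
  choose c hc using hcz
  have hC : ∀ b : {b : Cfsg.Sz F m // b ∈ Subgroup.zpowers z ∧ IsConj z b},
      b.1 ∈ Subgroup.centralizer ({z} : Set (Cfsg.Sz F m)) ∧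
        Subgroup.centralizer ({b.1} : Set (Cfsg.Sz F m)) = Subgroup.centralizer ({z} : Set (Cfsg.Sz F m)) := fun b => by
    have h1 : b.1 ∈ Subgroup.centralizer ({z} : Set (Cfsg.Sz F m)) := by
      obtain ⟨i, hi⟩ := Subgroup.mem_zpowers_iff.1 b.2.1
      exact Subgroup.mem_centralizer_singleton_iff.2 (hi ▸ ((Commute.refl z).zpow_left i).eq)
    exact ⟨h1, (centralizer_eq hF hm hfree h1 fun e => hfree.ne_one hF (isConj_one_left.1 (e ▸ b.2.2))).2⟩
  have hinj : Function.Injective fun b => c b • α := by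
    intro b b' h
    simp only at h
    obtain ⟨k, hk⟩ : ∃ k, k = (c b)⁻¹ * c b' := ⟨_, rfl⟩
    have hkH : k ∈ St α := by
      show k • α = α
      rw [hk, mul_smul, ← h, inv_smul_smul]
    have hconj : k⁻¹ * b.1 * k = b'.1 := by rw [hk, ← hc b, ← hc b']; group
    have hN : k ∈ Subgroup.normalizer (Subgroup.centralizer ({z} : Set (Cfsg.Sz F m)) : Set (Cfsg.Sz F m)) := by
      refine Subgroup.mem_normalizer_iff.2 fun n => ?_
      rw [← SetLike.ext_iff.1 (hC b').2, ← SetLike.ext_iff.1 (hC b).2, Subgroup.mem_centralizer_singleton_iff,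
        Subgroup.mem_centralizer_singleton_iff, ← hconj]
      constructor <;> intro e
      · calc k * n * k⁻¹ * b.1 = k * (n * (k⁻¹ * b.1 * k)) * k⁻¹ := by group
          _ = k * (k⁻¹ * b.1 * k * n) * k⁻¹ := by rw [e]
          _ = b.1 * (k * n * k⁻¹) := by group
      · calc n * (k⁻¹ * b.1 * k) = k⁻¹ * (k * n * k⁻¹ * b.1) * k := by group
          _ = k⁻¹ * (b.1 * (k * n * k⁻¹)) * k := by rw [e]
          _ = k⁻¹ * b.1 * k * n := by group
    have h4 : k ^ 4 ∈ Subgroup.centralizer ({z} : Set (Cfsg.Sz F m)) := by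
      have := Subgroup.pow_index_mem ((Subgroup.centralizer ({z} : Set (Cfsg.Sz F m))).subgroupOf
        (Subgroup.normalizer (Subgroup.centralizer ({z} : Set (Cfsg.Sz F m)) : Set (Cfsg.Sz F m))))
        (⟨k, hN⟩ : Subgroup.normalizer (Subgroup.centralizer ({z} : Set (Cfsg.Sz F m)) : Set (Cfsg.Sz F m)))
      rw [Subgroup.index, index_normalizer hF hm hfree] at this
      exact this
    have hkodd : Odd (orderOf k) := hodd.of_dvd_nat (Subgroup.orderOf_dvd_natCard (s := St α) hkH)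
    obtain ⟨j, hj⟩ := exists_pow_eq_self_of_coprime
      (show Nat.Coprime 4 (orderOf k) from (Nat.coprime_two_left.2 hkodd).pow_left 2)
    have hkC : k ∈ Subgroup.centralizer ({z} : Set (Cfsg.Sz F m)) := hj ▸ pow_mem h4 j
    refine Subtype.ext ?_
    rw [← hconj]
    have := Subgroup.mem_centralizer_singleton_iff.1 ((SetLike.ext_iff.1 (hC b).2 k).2 hkC)
    rw [mul_assoc, ← this, inv_mul_cancel_left]
  haveI := Fintype.ofFinite {b : Cfsg.Sz F m // b ∈ Subgroup.zpowers z ∧ IsConj z b}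
  have h4 := four_le_conj hF hm hfree
  rw [Nat.card_eq_fintype_card, ← Finset.card_univ, ← Finset.card_image_of_injective _ hinj] at h4
  have := hfix z (hfree.ne_one hF) (Finset.univ.image fun b => c b • α) fun x hx => by
    obtain ⟨b, -, rfl⟩ := Finset.mem_image.1 hx
    exact smul_fixed_of_conj_mem (hc b ▸ (Subgroup.zpowers_le.2 hz) b.2.1)
  omega

include hF hfix in
/-- A non-trivial point stabiliser of odd order has the order of the split torus. -/
theorem torus_of_odd (hm : 1 ≤ m) {α : Ω} (hodd : Odd (Nat.card (St α))) (hne : St α ≠ ⊥) :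
    Nat.card (St α) = Fintype.card F - 1 := by
  classical
  have hprime : ∀ p : ℕ, p.Prime → p ∣ Nat.card (St α) → p ∣ Fintype.card F - 1 ∧
      ¬ p ∣ Fintype.card F ^ 2 * (Fintype.card F ^ 2 + 1) := by
    intro p hp hpd
    haveI := Fact.mk hp
    have hp2 : p ≠ 2 := fun e => Nat.not_even_iff_odd.2 hodd (even_iff_two_dvd.2 (e ▸ hpd))
    obtain ⟨⟨z, hz⟩, hzo⟩ := exists_prime_orderOf_dvd_card' p hpd
    rw [Subgroup.orderOf_mk] at hzo
    have hn1 : ¬ p ∣ Fintype.card F ^ 2 + 1 := fun h =>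
      not_free_of_odd hF hfix hm hodd hz (free_of_prime hF hm h hzo)
    have hn : ¬ p ∣ Fintype.card F ^ 2 * (Fintype.card F ^ 2 + 1) := fun h =>
      ((Nat.Prime.dvd_mul hp).1 h).elim (fun h => hp2 ((Nat.prime_dvd_prime_iff_eq hp Nat.prime_two).1
        (hp.dvd_of_dvd_pow (hF ▸ hp.dvd_of_dvd_pow h)))) hn1
    refine ⟨?_, hn⟩
    have hG : p ∣ Fintype.card F ^ 2 * (Fintype.card F ^ 2 + 1) * (Fintype.card F - 1) := by
      rw [← nat_card hF hm, ← hzo]; exact orderOf_dvd_natCard z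
    exact ((Nat.Prime.dvd_mul hp).1 hG).resolve_left hn
  obtain ⟨p, hp, hpd⟩ := Nat.exists_prime_and_dvd (mt Subgroup.card_eq_one.1 hne)
  haveI := Fact.mk hp
  obtain ⟨⟨z, hz⟩, hzo⟩ := exists_prime_orderOf_dvd_card' p hpd
  rw [Subgroup.orderOf_mk] at hzo
  obtain ⟨k, hk⟩ := exists_tSub_conj hF hm (hprime p hp hpd).1 (Q := Subgroup.zpowers z)
    (IsPGroup.of_card (n := 1) (by rw [Nat.card_zpowers, hzo, pow_one]))
  obtain ⟨t₀, ht₀⟩ := (mem_tSub hF).1 (hk z (Subgroup.mem_zpowers z))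
  have hz1 : z ≠ 1 := fun e => hp.ne_one (by rw [← hzo, e, orderOf_one])
  -- move the point
  obtain ⟨β, hβ⟩ : ∃ β, β = k⁻¹ • α := ⟨_, rfl⟩
  have hcard : Nat.card (St β) = Nat.card (St α) := by
    rw [hβ, MulAction.stabilizer_smul_eq_stabilizer_map_conj]
    exact Subgroup.card_map_of_injective (MulAut.conj k⁻¹).injective
  rw [← hcard] at hodd hprime ⊢
  have htβ : tS hF t₀ • β = β := by
    rw [← ht₀, hβ, mul_smul, mul_smul, smul_inv_smul, show z • α = α from hz]
  have ht1 : t₀ ≠ 1 := fun e => hz1 (by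
    rw [e, map_one] at ht₀
    calc z = k * (k⁻¹ * z * k) * k⁻¹ := by group
      _ = 1 := by rw [ht₀]; group)
  have hinv : ∀ y : Cfsg.Sz F m, y ∈ St β → y ^ 2 = 1 → y = 1 := fun y hy h2 => by
    have h1 := Nat.eq_one_of_dvd_coprimes (Nat.coprime_two_left.2 hodd) (orderOf_dvd_of_pow_eq_one h2)
      (Subgroup.orderOf_dvd_natCard (s := St β) hy)
    exact orderOf_eq_one_iff.1 h1
  have hww := wS_mul_self hF
  have hT : ∀ t : Fˣ, tS hF t ∈ St β := fun t => by
    by_contra ht
    have hw : wS hF • β ≠ β := fun e => by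
      have h1 := congrArg (fun g : Cfsg.Sz F m => g • pt F m none) (hinv _ e (by rw [sq, hww]))
      simp [wS_none] at h1
    have hwt : wS hF • β ≠ tS hF t • β := fun e => by
      have hy : (tS hF t)⁻¹ * wS hF ∈ St β := by
        show ((tS hF t)⁻¹ * wS hF) • β = β
        rw [mul_smul, e, inv_smul_smul]
      have := hinv _ hy (by
        rw [sq, mul_assoc, ← mul_assoc (wS hF), ← map_inv, wS_tS, map_inv, inv_inv, inv_mul_cancel])
      have h1 := congrArg (fun g : Cfsg.Sz F m => g • pt F m none) this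
      simp [mul_smul, wS_none, inv_smul_eq_iff, tS_none] at h1
    have h3 := hfix (tS hF t₀) (fun e => ht1 (tS_injective hF (e.trans (map_one _).symm)))
      {β, tS hF t • β, wS hF • β} (fun x hx => by
        simp only [Finset.mem_insert, Finset.mem_singleton] at hx
        rcases hx with rfl | rfl | rfl
        · exact htβ
        · rw [← mul_smul, ← map_mul, mul_comm, map_mul, mul_smul, htβ]
        · rw [← mul_smul, show tS hF t₀ * wS hF = wS hF * (tS hF t₀)⁻¹ by
            rw [← wS_tS, ← mul_assoc, ← mul_assoc, hww, one_mul], mul_smul]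
          exact congrArg (wS hF • ·) (inv_smul_eq_iff.2 htβ.symm))
    rw [Finset.card_eq_three.2 ⟨_, _, _, fun e => ht e.symm, hw.symm, hwt.symm, rfl⟩] at h3
    omega
  refine Nat.dvd_antisymm ?_ ?_
  · have hG : Nat.card (St β) ∣ Fintype.card F ^ 2 * (Fintype.card F ^ 2 + 1) * (Fintype.card F - 1) := by
      rw [← nat_card hF hm]; exact Subgroup.card_subgroup_dvd_card _
    exact (Nat.coprime_of_dvd fun q hq h1 h2 => (hprime q hq h1).2 h2).dvd_of_dvd_mul_left hG
  · rw [← card_tSub hF]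
    exact Subgroup.card_dvd_of_le (fun g hg => by
      obtain ⟨t, rfl⟩ := (mem_tSub hF).1 hg; exact hT t)

include hF hfix in
/-- The two transitive actions of fixity two. -/
theorem fixity_two [Finite Ω] (hm : 1 ≤ m) [MulAction.IsPretransitive (Cfsg.Sz F m) Ω]
    (hex : ∃ g : Cfsg.Sz F m, g ≠ 1 ∧ 2 ≤ Nat.card (MulAction.fixedBy Ω g)) :
    (Nat.card Ω = Fintype.card F ^ 2 + 1 ∧ MulAction.IsMultiplyPretransitive (Cfsg.Sz F m) Ω 2) ∨
    (Nat.card Ω = Fintype.card F ^ 2 * (Fintype.card F ^ 2 + 1) ∧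
      ∀ α : Ω, Nat.card (St α) = Fintype.card F - 1) := by
  obtain ⟨g, hg1, hg2⟩ := hex
  obtain ⟨⟨α, hα⟩⟩ : Nonempty (MulAction.fixedBy Ω g) := (Nat.card_pos_iff.1 (by omega)).1
  have hbot : ∀ β : Ω, St β ≠ ⊥ := fun β h => by
    obtain ⟨k, rfl⟩ := MulAction.exists_smul_eq (Cfsg.Sz F m) β α
    have : k⁻¹ * g * k ∈ St β := by
      show (k⁻¹ * g * k) • β = β
      rw [mul_smul, mul_smul, inv_smul_eq_iff]
      exact hα
    rw [h, Subgroup.mem_bot] at this
    exact hg1 (by
      calc g = k * (k⁻¹ * g * k) * k⁻¹ := by group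
        _ = 1 := by rw [this]; group)
  have hos : ∀ β : Ω, Nat.card Ω * Nat.card (St β) =
      Fintype.card F ^ 2 * (Fintype.card F ^ 2 + 1) * (Fintype.card F - 1) := fun β => by
    rw [← nat_card hF hm, ← (St β).index_mul_card, MulAction.index_stabilizer_of_transitive]
  have h8 := card_ge_eight hF hm
  rcases (Nat.even_or_odd (Nat.card (St α))).symm with ho | he
  · right
    have h1 := torus_of_odd hF hfix hm ho (hbot α)
    have h2 := hos α
    rw [h1] at h2
    have hΩ := Nat.eq_of_mul_eq_mul_right (by omega) h2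
    refine ⟨hΩ, fun β => ?_⟩
    have h3 := hos β
    rw [hΩ] at h3
    exact Nat.eq_of_mul_eq_mul_left (by positivity) h3
  · left
    haveI := Fact.mk Nat.prime_two
    obtain ⟨⟨z, hz⟩, hzo⟩ := exists_prime_orderOf_dvd_card' 2 (even_iff_two_dvd.1 he)
    rw [Subgroup.orderOf_mk] at hzo
    have hz2 : z ^ 2 = 1 := hzo ▸ pow_orderOf_eq_one z
    obtain ⟨a, b, hab⟩ := exists_conj_uS hF hm (by rw [pow_mul z 2 2, hz2, one_pow] : z ^ 4 = 1)
    obtain ⟨k, hk⟩ := isConj_iff.1 hab
    have hsq : uS hF 0 (th F m a * a) = 1 := by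
      rw [← uS_sq hF a b, ← hk, conj_pow, hz2, mul_one, mul_inv_cancel]
    have ha : a = 0 := by
      rcases mul_eq_zero.1 (uS_inj hF (hsq.trans (uS_one hF).symm)).2 with h | h
      · exact (map_eq_zero (th F m)).1 h
      · exact h
    subst ha
    have hb : b ≠ 0 := fun e => by
      rw [e, uS_one, conj_eq_one_iff] at hk
      rw [hk, orderOf_one] at hzo
      exact absurd hzo (by norm_num)
    obtain ⟨β, hβ⟩ : ∃ β, β = k • α := ⟨_, rfl⟩
    have hmem : uS hF 0 b ∈ St β := by
      show uS hF 0 b • β = β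
      rw [← hk, hβ, mul_smul, mul_smul, inv_smul_smul, show z • α = α from hz]
    have hB := borel_le_of_center hF hfix hm hb hmem
    have hBeq : (St β) = CfsgLib.Lie.Suzuki.borel F m := by
      refine le_antisymm ?_ hB
      rcases torus_le_of_unip_le hF hm ((unip_le_borel hF).trans hB) with h | h
      · exact h
      exfalso
      have hsub : Subsingleton Ω := ⟨fun x y => by
        obtain ⟨u, rfl⟩ := MulAction.exists_smul_eq (Cfsg.Sz F m) β x
        obtain ⟨v, rfl⟩ := MulAction.exists_smul_eq (Cfsg.Sz F m) β y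
        have hu : u • β = β := show u ∈ St β by rw [h]; trivial
        have hv : v • β = β := show v ∈ St β by rw [h]; trivial
        rw [hu, hv]⟩
      have := Finite.card_le_one_iff_subsingleton.2 (inferInstance : Subsingleton (MulAction.fixedBy Ω g))
      omega
    have hst : ∀ u v : Cfsg.Sz F m, u • β = v • β ↔ u • pt F m none = v • pt F m none := fun u v => by
      rw [← inv_smul_eq_iff, ← inv_smul_eq_iff (g := v), ← mul_smul, ← mul_smul]
      exact SetLike.ext_iff.1 hBeq _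
    refine ⟨?_, ?_⟩
    · have h2 := hos β
      rw [hBeq, CfsgLib.Lie.Suzuki.borel, card_stab_inf hF hm] at h2
      refine Nat.eq_of_mul_eq_mul_right (Nat.mul_pos (pow_pos (by omega : 0 < Fintype.card F) 2)
        (by omega : 0 < Fintype.card F - 1)) (h2.trans ?_)
      ring
    · rw [MulAction.is_two_pretransitive_iff]
      intro x y x' y' hxy hxy'
      obtain ⟨u, rfl⟩ := MulAction.exists_smul_eq (Cfsg.Sz F m) β x
      obtain ⟨v, rfl⟩ := MulAction.exists_smul_eq (Cfsg.Sz F m) β y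
      obtain ⟨u', rfl⟩ := MulAction.exists_smul_eq (Cfsg.Sz F m) β x'
      obtain ⟨v', rfl⟩ := MulAction.exists_smul_eq (Cfsg.Sz F m) β y'
      rw [ne_eq, hst] at hxy hxy'
      obtain ⟨w, h1, h2⟩ := MulAction.is_two_pretransitive_iff.1 (two_pretransitive hF (m := m)) hxy hxy'
      refine ⟨w, ?_, ?_⟩
      · rw [← mul_smul, hst, mul_smul]; exact h1
      · rw [← mul_smul, hst, mul_smul]; exact h2

end CfsgLib.Lie.Suzuki
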