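import Cfsg.Agent.Lib.Lie.Suzuki.TwoCount

/-!
# Elliptic tori normalised by an element of order four

* `card_free_normalized_four`: there are `q ^ 2` elements spanning such tori
* `split_four_empty`: no split torus is normalised by an element of order four
-/

set_option autoImplicit false

namespace CfsgLib.Lie.Suzuki

variable {F : Type*} [Field F] [CharP F 2] [Fintype F] {m : ℕ}
  (hF : Fintype.card F = 2 ^ (2 * m + 1))

local notation "P∞" => pt F m none
local notation "C[" g "]" => Subgroup.centralizer ({g} : Set (Cfsg.Sz F m))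
local notation "N[" g "]" => Subgroup.normalizer
  (SetLike.coe (Subgroup.centralizer ({g} : Set (Cfsg.Sz F m))))

theorem uS_conj (d a c : F) :
    uS hF d 0 * uS hF a c * (uS hF d 0)⁻¹ = uS hF a (c + (th F m d * a + th F m a * d)) := by
  rw [mul_inv_eq_iff_eq_mul, uS_mul, uS_mul]
  have h2 : (2 : F) = 0 := CharTwo.two_eq_zero
  congr 1
  · ring
  · linear_combination (-(th F m a * d)) * h2

include hF in
/-- The unitriangular elements with given nonzero `a` fall into two classes, exchanged by inversion. -/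
theorem exists_conj_or_inv (hm : 1 ≤ m) {a : F} (ha : a ≠ 0) (c c' : F) :
    ∃ u, uS hF a c' = u * uS hF a c * u⁻¹ ∨ uS hF a c' = u * (uS hF a c)⁻¹ * u⁻¹ := by
  let L : F →+ F := AddMonoidHom.mk' (fun d => th F m d * a + th F m a * d)
    fun d e => by simp only [map_add]; ring
  have hθa : th F m a ≠ 0 := θ_ne_zero ha
  have hcases : ∀ e : F, th F m e = e → e = 0 ∨ e = 1 := by
    intro e he
    have h2 : e ^ 2 = e := by rw [← th_tits hF e, he, he]
    rcases eq_or_ne e 0 with h0 | h0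
    · exact Or.inl h0
    · exact Or.inr (mul_left_cancel₀ h0 (by rw [mul_one, ← sq]; exact h2))
  have hker : Nat.card L.ker = 2 := by
    have hset : (L.ker : Set F) = {0, a} := by
      ext d
      simp only [SetLike.mem_coe, AddMonoidHom.mem_ker, L, AddMonoidHom.mk'_apply,
        Set.mem_insert_iff, Set.mem_singleton_iff]
      constructor
      · intro hd
        obtain ⟨e, rfl⟩ : ∃ e, d = a * e := ⟨d / a, (mul_div_cancel₀ d ha).symm⟩
        rw [map_mul] at hd
        have h0 : th F m a * a * (th F m e + e) = 0 := by rw [← hd]; ring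
        have he : th F m e + e = 0 := (mul_eq_zero.mp h0).resolve_left (mul_ne_zero hθa ha)
        rcases hcases e (CharTwo.add_eq_zero.mp he) with rfl | rfl <;> simp
      · rintro (rfl | rfl)
        · simp
        · exact CharTwo.add_self_eq_zero _
    show Nat.card ↥(L.ker : Set F) = 2
    rw [hset, Nat.card_coe_set_eq, Set.ncard_pair ha.symm]
  have hidx : L.range.index = 2 := by
    have h := L.ker.card_mul_index
    rw [AddSubgroup.index_ker, hker] at h
    have h' := L.range.card_mul_index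
    have hpos : 0 < Nat.card L.range := Nat.card_pos
    rw [← h, mul_comm 2] at h'
    exact Nat.eq_of_mul_eq_mul_left hpos h'
  have hout : th F m a * a ∉ L.range := by
    rintro ⟨d, hd⟩
    obtain ⟨e, rfl⟩ : ∃ e, d = a * e := ⟨d / a, (mul_div_cancel₀ d ha).symm⟩
    simp only [L, AddMonoidHom.mk'_apply, map_mul] at hd
    have h0 : th F m a * a * (th F m e + e) = th F m a * a * 1 := by rw [mul_one]; linear_combination hd
    have he : th F m e + e = 1 := mul_left_cancel₀ (mul_ne_zero hθa ha) h0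
    have he' : th F m e = 1 + e := CharTwo.add_eq_iff_eq_add.mp he
    have h2 : (2 : F) = 0 := CharTwo.two_eq_zero
    have hsq : e ^ 2 = e := by
      rw [← th_tits hF e, he', map_add, map_one, he']
      linear_combination h2
    rcases eq_or_ne e 0 with rfl | h0'
    · simp at he
    · obtain rfl : e = 1 := mul_left_cancel₀ h0' (by rw [mul_one, ← sq]; exact hsq)
      rw [map_one, CharTwo.add_self_eq_zero] at he
      exact zero_ne_one he
  by_cases hc : c + c' ∈ L.range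
  · obtain ⟨d, hd⟩ := hc
    refine ⟨uS hF d 0, Or.inl ?_⟩
    rw [uS_conj]
    congr 1
    rw [show th F m d * a + th F m a * d = c + c' from hd, ← add_assoc, CharTwo.add_self_eq_zero, zero_add]
  · have hmem : c + c' + th F m a * a ∈ L.range :=
      (AddSubgroup.add_mem_iff_of_index_two hidx).mpr ⟨fun h => absurd h hc, fun h => absurd h hout⟩
    obtain ⟨d, hd⟩ := hmem
    refine ⟨uS hF d 0, Or.inr ?_⟩
    rw [uS_inv, uS_conj]
    congr 1
    rw [show th F m d * a + th F m a * d = c + c' + th F m a * a from hd]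
    have h2 : (2 : F) = 0 := CharTwo.two_eq_zero
    linear_combination (-(c + th F m a * a)) * h2

include hF in
theorem mapsto_normalized (hm : 1 ≤ m) {y u : Cfsg.Sz F m} {a : Cfsg.Sz F m} (ha : Free a)
    (hy : y ∈ N[a]) : Free (u * a * u⁻¹) ∧ u * y * u⁻¹ ∈ N[u * a * u⁻¹] := by
  have hfree : Free (u * a * u⁻¹) := by
    have := ha.conj u⁻¹
    rwa [inv_inv] at this
  refine ⟨hfree, mem_normalizer_of_conj hF hm ⟨hfree.ne_one hF, Or.inl hfree⟩ ?_⟩
  rw [Subgroup.mem_centralizer_singleton_iff]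
  have h := Subgroup.mem_centralizer_singleton_iff.mp
    ((Subgroup.mem_normalizer_iff.mp hy a).mp (self_mem_centralizer a))
  calc u * y * u⁻¹ * (u * a * u⁻¹) * (u * y * u⁻¹)⁻¹ * (u * a * u⁻¹)
      = u * (y * a * y⁻¹ * a) * u⁻¹ := by group
    _ = u * a * u⁻¹ * (u * y * u⁻¹ * (u * a * u⁻¹) * (u * y * u⁻¹)⁻¹) := by rw [h]; group

include hF in
theorem card_normalized_conj (hm : 1 ≤ m) (y u : Cfsg.Sz F m) :
    Nat.card {a : Cfsg.Sz F m // Free a ∧ u * y * u⁻¹ ∈ N[a]} =
      Nat.card {a : Cfsg.Sz F m // Free a ∧ y ∈ N[a]} := by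
  refine (Nat.card_congr ((MulAut.conj u).toEquiv.subtypeEquiv fun a => ?_)).symm
  show Free a ∧ y ∈ N[a] ↔ Free (u * a * u⁻¹) ∧ u * y * u⁻¹ ∈ N[u * a * u⁻¹]
  refine ⟨fun h => mapsto_normalized hF hm h.1 h.2, fun h => ?_⟩
  have := mapsto_normalized hF hm (u := u⁻¹) h.1 h.2
  rwa [show u⁻¹ * (u * a * u⁻¹) * u⁻¹⁻¹ = a by group,
    show u⁻¹ * (u * y * u⁻¹) * u⁻¹⁻¹ = y by group] at this

omit [CharP F 2] [Fintype F] in
theorem card_normalized_inv (y : Cfsg.Sz F m) :
    Nat.card {a : Cfsg.Sz F m // Free a ∧ y⁻¹ ∈ N[a]} =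
      Nat.card {a : Cfsg.Sz F m // Free a ∧ y ∈ N[a]} :=
  Nat.card_congr (Equiv.subtypeEquivRight fun _ => and_congr_right fun _ => Subgroup.inv_mem_iff _)

theorem sq_param_inj {a a' : F} (hF : Fintype.card F = 2 ^ (2 * m + 1)) (ha : a ≠ 0)
    (h : th F m a' * a' = th F m a * a) : a' = a := by
  obtain ⟨r, rfl⟩ : ∃ r, a' = a * r := ⟨a' / a, (mul_div_cancel₀ a' ha).symm⟩
  rw [map_mul] at h
  have h1 : th F m r * r = 1 := mul_left_cancel₀ (mul_ne_zero (θ_ne_zero (θ := th F m) ha) ha)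
    (by rw [mul_one]; linear_combination h)
  have h2 := congrArg (th F m) h1
  rw [map_mul, th_tits hF r, map_one] at h2
  have hr : r = 1 := by linear_combination h2 - r * h1
  rw [hr, mul_one]

include hF in
theorem card_square_roots (hm : 1 ≤ m) {x : Cfsg.Sz F m} (h2 : x ^ 2 ≠ 1) (h4 : x ^ 4 = 1) :
    Nat.card {y : Cfsg.Sz F m // y ^ 2 = x ^ 2} = Fintype.card F ∧
      ∀ y : Cfsg.Sz F m, y ^ 2 = x ^ 2 → ∃ u, y = u * x * u⁻¹ ∨ y = u * x⁻¹ * u⁻¹ := by
  have h1 : x ≠ 1 := fun e => h2 (by rw [e, one_pow])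
  obtain ⟨h, hh, -, -⟩ := two_elem_fix hF hm h4 h1
  obtain ⟨a, c, hac⟩ := (mem_cj.mp hh : _ ∈ uSub hF)
  have hx : x = h * uS hF a c * h⁻¹ := by rw [← hac]; group
  have hsq : ∀ a' c', (h * uS hF a' c' * h⁻¹) ^ 2 = h * uS hF 0 (th F m a' * a') * h⁻¹ := fun a' c' => by
    rw [conj_pow, uS_sq]
  have ha : a ≠ 0 := by
    rintro rfl
    apply h2
    rw [hx, hsq, map_zero, zero_mul, uS_zero_zero]
    group
  have hform : ∀ y : Cfsg.Sz F m, y ^ 2 = x ^ 2 → ∃ c', y = h * uS hF a c' * h⁻¹ := by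
    intro y hy
    have hz : x ^ 2 ∈ cj h (uSub hF) := pow_mem hh 2
    have hy' : y ∈ cj h (uSub hF) := centralizer_cj_uS hF hm hz h2
      (show Commute (x ^ 2) y from hy ▸ ((Commute.refl y).pow_left 2))
    obtain ⟨a', c', e⟩ := (mem_cj.mp hy' : _ ∈ uSub hF)
    have hy2 : y = h * uS hF a' c' * h⁻¹ := by rw [← e]; group
    rw [hy2, hx, hsq, hsq] at hy
    obtain rfl := sq_param_inj hF ha (uS_inj hF (mul_left_cancel (mul_right_cancel hy))).2
    exact ⟨c', hy2⟩
  refine ⟨?_, fun y hy => ?_⟩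
  · rw [← Nat.card_eq_fintype_card]
    refine (Nat.card_eq_of_bijective (fun c' : F => (⟨h * uS hF a c' * h⁻¹, by
      rw [hx, hsq, hsq]⟩ : {y : Cfsg.Sz F m // y ^ 2 = x ^ 2}))
      ⟨fun c' c'' e => (uS_inj hF (mul_left_cancel (mul_right_cancel (congrArg Subtype.val e)))).2,
       fun ⟨y, hy⟩ => ?_⟩).symm
    obtain ⟨c', hc'⟩ := hform y hy
    exact ⟨c', Subtype.ext hc'.symm⟩
  · obtain ⟨c', hc'⟩ := hform y hy
    obtain ⟨u, hu | hu⟩ := exists_conj_or_inv hF hm ha c c'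
    · exact ⟨h * u * h⁻¹, Or.inl (by rw [hc', hu, hx]; group)⟩
    · exact ⟨h * u * h⁻¹, Or.inr (by rw [hc', hu, hx]; group)⟩

include hF in
theorem card_roots_normalizing (hm : 1 ≤ m) {a z : Cfsg.Sz F m} (ha : Free a) (hz2 : z ^ 2 = 1)
    (hz1 : z ≠ 1) (hzN : z ∈ N[a]) : Nat.card {y : Cfsg.Sz F m // y ^ 2 = z ∧ y ∈ N[a]} = 2 := by
  classical
  letI := Fintype.ofFinite (Cfsg.Sz F m)
  have hsemi : Semi hF a := ⟨ha.ne_one hF, Or.inl ha⟩
  have hz4 : z ^ 4 = 1 := by rw [show z ^ 4 = (z ^ 2) ^ 2 from pow_mul z 2 2, hz2, one_pow]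
  obtain ⟨p, hp, hu⟩ := involution_fix hF hm hz2 hz1
  set S := N[a] ⊓ MulAction.stabilizer (Cfsg.Sz F m) p with hS
  have hw : Nat.card S = 4 := by
    rw [hS, card_normalizer_inf_stab hF hm hsemi hz1 hz4 hzN hp]
    have h : Nat.card C[a] * (C[a].subgroupOf N[a]).index = Nat.card N[a] := by
      rw [← Nat.card_congr (Subgroup.subgroupOfEquivOfLe (Subgroup.le_normalizer : C[a] ≤ N[a])).toEquiv,
        Subgroup.card_mul_index]
    rw [free_normalizer_card hF hm ha, mul_comm 4] at h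
    exact Nat.eq_of_mul_eq_mul_left Nat.card_pos h
  have hinvo : ∀ t ∈ S, t ^ 2 = 1 → t ≠ 1 → t = z := by
    intro t ht ht2 ht1
    obtain ⟨htN, htp⟩ := Subgroup.mem_inf.mp ht
    by_contra hne
    have e1 := involution_inverts hF hm hsemi ht2 ht1 htN
    have e2 := involution_inverts hF hm hsemi hz2 hz1 hzN
    have hmem : t * z ∈ C[a] := by
      rw [Subgroup.mem_centralizer_singleton_iff]
      refine mul_inv_eq_iff_eq_mul.mp ?_
      calc t * z * a * (t * z)⁻¹ = t * (z * a * z⁻¹) * t⁻¹ := by group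
        _ = (t * a * t⁻¹)⁻¹ := by rw [e2]; group
        _ = a := by rw [e1, inv_inv]
    refine not_fix_of_normalized hF hm hsemi hzN hp hu hmem ?_
      (show (t * z) • p = p by rw [mul_smul, hp]; exact htp)
    intro e
    refine hne ?_
    rw [eq_inv_of_mul_eq_one_left e, inv_eq_of_mul_eq_one_right (show z * z = 1 by rw [← sq, hz2])]
  have hpow4 : ∀ t ∈ S, t ^ 4 = 1 := fun t ht => by
    have := pow_card_eq_one' (x := (⟨t, ht⟩ : S))
    rw [hw] at this
    exact congrArg Subtype.val this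
  have hzS : z ∈ S := Subgroup.mem_inf.mpr ⟨hzN, hp⟩
  have hset : (Finset.univ.filter fun y : Cfsg.Sz F m => y ^ 2 = z ∧ y ∈ N[a]) =
      ((Finset.univ.filter fun y : Cfsg.Sz F m => y ∈ S).erase 1).erase z := by
    ext y
    simp only [Finset.mem_erase, Finset.mem_filter, Finset.mem_univ, true_and]
    constructor
    · rintro ⟨hy2, hyN⟩
      refine ⟨?_, ?_, Subgroup.mem_inf.mpr ⟨hyN, ?_⟩⟩
      · rintro rfl
        exact hz1 (hy2.symm.trans hz2)
      · rintro rfl
        exact hz1 (by rw [← hy2, one_pow])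
      · exact MulAction.mem_stabilizer_iff.mpr (hu _ (smul_of_commute
          (show Commute z y from hy2 ▸ (Commute.refl y).pow_left 2) hp))
    · rintro ⟨hyz, hy1, hyS⟩
      refine ⟨hinvo _ (pow_mem hyS 2) ?_ fun e => hyz (hinvo y hyS e hy1), (Subgroup.mem_inf.mp hyS).1⟩
      rw [← pow_mul]
      exact hpow4 y hyS
  rw [Nat.card_eq_fintype_card, Fintype.card_subtype, hset,
    Finset.card_erase_of_mem (Finset.mem_erase.mpr ⟨hz1,
      Finset.mem_filter.mpr ⟨Finset.mem_univ _, hzS⟩⟩),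
    Finset.card_erase_of_mem (Finset.mem_filter.mpr ⟨Finset.mem_univ _, one_mem S⟩),
    ← Fintype.card_subtype, ← Nat.card_eq_fintype_card]
  show Nat.card S - 1 - 1 = 2
  omega

include hF in
theorem card_free_normalized_four (hm : 1 ≤ m) {x : Cfsg.Sz F m} (h2 : x ^ 2 ≠ 1) (h4 : x ^ 4 = 1) :
    Nat.card {a : Cfsg.Sz F m // Free a ∧ x ∈ N[a]} = Fintype.card F ^ 2 := by
  classical
  letI := Fintype.ofFinite (Cfsg.Sz F m)
  have hz2 : (x ^ 2) ^ 2 = 1 := by rw [← pow_mul]; exact h4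
  obtain ⟨p, hp, -⟩ := involution_fix hF hm hz2 h2
  obtain ⟨hR, horb⟩ := card_square_roots hF hm h2 h4
  let R := {y : Cfsg.Sz F m // y ^ 2 = x ^ 2}
  let Q := {a : Cfsg.Sz F m // Free a ∧ x ^ 2 ∈ N[a]}
  let e : (Σ y : R, {a : Cfsg.Sz F m // Free a ∧ y.1 ∈ N[a]}) ≃
      (Σ a : Q, {y : Cfsg.Sz F m // y ^ 2 = x ^ 2 ∧ y ∈ N[a.1]}) :=
    { toFun := fun ya => ⟨⟨ya.2.1, ya.2.2.1, by have h := pow_mem ya.2.2.2 2; rwa [ya.1.2] at h⟩,
        ⟨ya.1.1, ya.1.2, ya.2.2.2⟩⟩
      invFun := fun ay => ⟨⟨ay.2.1, ay.2.2.1⟩, ⟨ay.1.1, ay.1.2.1, ay.2.2.2⟩⟩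
      left_inv := fun _ => rfl
      right_inv := fun _ => rfl }
  have hconst : ∀ y : R, Nat.card {a : Cfsg.Sz F m // Free a ∧ y.1 ∈ N[a]} =
      Nat.card {a : Cfsg.Sz F m // Free a ∧ x ∈ N[a]} := by
    intro y
    obtain ⟨u, hu | hu⟩ := horb y.1 y.2 <;> rw [hu, card_normalized_conj hF hm]
    exact card_normalized_inv x
  letI := Fintype.ofFinite R
  letI := Fintype.ofFinite Q
  have hc := Nat.card_congr e
  rw [Nat.card_sigma, Nat.card_sigma, Finset.sum_congr rfl fun y _ => hconst y,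
    Finset.sum_congr rfl fun a _ => card_roots_normalizing hF hm a.2.1 hz2 h2 a.2.2,
    Finset.sum_const, Finset.sum_const, smul_eq_mul, smul_eq_mul, Finset.card_univ, Finset.card_univ,
    ← Nat.card_eq_fintype_card, ← Nat.card_eq_fintype_card, show Nat.card R = Fintype.card F from hR,
    mul_comm (Nat.card Q) 2, show 2 * Nat.card Q = Fintype.card F ^ 3 from
      two_mul_card_free_normalized hF hm h2 hz2 hp] at hc
  exact Nat.eq_of_mul_eq_mul_left Fintype.card_pos (hc.trans (by ring))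

include hF in
theorem split_four_empty (hm : 1 ≤ m) {a x : Cfsg.Sz F m} (ha : Semi hF a) (hna : ¬ Free a)
    (hx : x ∈ N[a]) (h4 : x ^ 4 = 1) : x ^ 2 = 1 := by
  have hidx : (C[a].subgroupOf N[a]).index = 2 := by
    have h : Nat.card C[a] * (C[a].subgroupOf N[a]).index = Nat.card N[a] := by
      rw [← Nat.card_congr (Subgroup.subgroupOfEquivOfLe (Subgroup.le_normalizer : C[a] ≤ N[a])).toEquiv,
        Subgroup.card_mul_index]
    rcases semi_normalizer_card hF hm ha with ⟨e, -⟩ | ⟨-, e⟩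
    · exact absurd e hna
    · rw [e] at h; exact Nat.eq_of_mul_eq_mul_left Nat.card_pos h
  have hmem := Subgroup.pow_index_mem (C[a].subgroupOf N[a]) ⟨x, hx⟩
  rw [Subgroup.mem_subgroupOf, Subgroup.coe_pow, hidx] at hmem
  by_contra h2
  obtain ⟨hs, -⟩ := semi_eq hF hm ha hmem h2
  have ho : orderOf (x ^ 2) = 2 := orderOf_eq_prime (by rw [← pow_mul]; exact h4) h2
  exact (Nat.not_even_iff_odd.mpr (semi_odd_order hF hm hs)) (by rw [ho]; exact even_two)

end CfsgLib.Lie.Suzuki
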