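import Cfsg.Agent.Lib.Lie.Suzuki.Fix
import Cfsg.Agent.Lib.Lie.Suzuki.Elliptic

/-!
# Centralisers of the elements without fixed points

* `Free`: no fixed point on the ovoid
* `free_orderOf_dvd`: the order divides `q ^ 2 + 1`
* `isCyclic_centralizer`, `centralizer_eq`: the centralisers are cyclic and meet trivially
* `relIndex_le_four`: index at most four in the normaliser
* `exists_tSub_conj`: elements of prime order dividing `q - 1` are conjugate into the torus
-/

set_option autoImplicit false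

namespace CfsgLib.Lie.Suzuki

variable {F : Type*} [Field F] [CharP F 2] [Fintype F] {m : ℕ}
  (hF : Fintype.card F = 2 ^ (2 * m + 1))

local notation "P∞" => pt F m none

/-- An element without fixed points on the ovoid. -/
def Free (g : Cfsg.Sz F m) : Prop := ∀ x : Cfsg.suzukiOvoid F m, g • x ≠ x

omit [CharP F 2] [Fintype F] in
theorem Free.conj {g : Cfsg.Sz F m} (hg : Free g) (h : Cfsg.Sz F m) : Free (h⁻¹ * g * h) :=
  fun x hx => hg (h • x) (by rwa [mul_smul, mul_smul, inv_smul_eq_iff] at hx)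

include hF in
theorem Free.ne_one {g : Cfsg.Sz F m} (hg : Free g) : g ≠ 1 := fun e =>
  hg P∞ (by rw [e, one_smul])

include hF in
theorem card_ovoid : Nat.card (Cfsg.suzukiOvoid F m) = Fintype.card F ^ 2 + 1 := by
  rw [← Nat.card_congr (pt F m), Finite.card_option, Nat.card_prod, Nat.card_eq_fintype_card, sq]

include hF in
theorem two_lt_card (hm : 1 ≤ m) : 8 ≤ Fintype.card F := by
  rw [hF]
  calc 8 = 2 ^ 3 := rfl
    _ ≤ 2 ^ (2 * m + 1) := Nat.pow_le_pow_right (by norm_num) (by omega)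

include hF in
theorem card_mod_three : Fintype.card F % 3 = 2 := by
  rw [hF, pow_succ, pow_mul, Nat.mul_mod, Nat.pow_mod]
  norm_num

include hF in
theorem even_card : Even (Fintype.card F) := by
  rw [hF]
  exact even_two.pow_of_ne_zero (by omega)

include hF in
theorem odd_card_sub_one : Odd (Fintype.card F - 1) :=
  Nat.Even.sub_odd Fintype.card_pos (even_card hF) odd_one

include hF in
theorem odd_sq_add_one : Odd (Fintype.card F ^ 2 + 1) :=
  ((even_card hF).pow_of_ne_zero (by omega)).add_one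

include hF in
theorem coprime_sub_one : (Fintype.card F ^ 2 * (Fintype.card F ^ 2 + 1)).Coprime (Fintype.card F - 1) := by
  have h2 : (2 : ℕ).Coprime (Fintype.card F - 1) := Nat.coprime_two_left.mpr (odd_card_sub_one hF)
  refine Nat.Coprime.mul_left ?_ ?_
  · rw [hF, ← pow_mul] at *
    exact h2.pow_left _
  · refine Nat.coprime_of_dvd fun p hp h h' => ?_
    haveI := Fact.mk hp
    refine not_small_degree hp ?_ h (Or.inl rfl) (by rwa [pow_one])
    rintro rfl
    exact (Nat.not_even_iff_odd.mpr (odd_sq_add_one hF)) (even_iff_two_dvd.mpr h)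

include hF in
theorem exists_tSub_conj (hm : 1 ≤ m) {p : ℕ} [hp : Fact p.Prime] (hdvd : p ∣ Fintype.card F - 1)
    {Q : Subgroup (Cfsg.Sz F m)} (hQ : IsPGroup p Q) :
    ∃ h : Cfsg.Sz F m, ∀ g ∈ Q, h⁻¹ * g * h ∈ tSub hF := by
  let P : Sylow p (tSub hF) := default
  have hq1 : Fintype.card F - 1 ≠ 0 := by have := two_lt_card hF hm; omega
  have hcard : Nat.card ((P : Subgroup (tSub hF)).map (tSub hF).subtype) =
      p ^ (Nat.card (Cfsg.Sz F m)).factorization p := by
    rw [Subgroup.card_map_of_injective (Subgroup.subtype_injective _), P.card_eq_multiplicity,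
      card_tSub, nat_card hF hm, Nat.factorization_mul (by simp) hq1,
      Finsupp.add_apply]
    rw [Nat.factorization_eq_zero_of_not_dvd (n := Fintype.card F ^ 2 * (Fintype.card F ^ 2 + 1))
      (fun h => hp.out.ne_one (Nat.eq_one_of_dvd_coprimes (coprime_sub_one hF) h hdvd)), zero_add]
  obtain ⟨R, hR⟩ := hQ.exists_le_sylow
  obtain ⟨h, hh⟩ := MulAction.exists_smul_eq (Cfsg.Sz F m) (Sylow.ofCard _ hcard) R
  refine ⟨h, fun g hg => ?_⟩
  have hg' : g ∈ (h • Sylow.ofCard _ hcard).toSubgroup := by rw [hh]; exact hR hg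
  rw [Sylow.coe_subgroup_smul, Subgroup.mem_pointwise_smul_iff_inv_smul_mem, MulAut.smul_def] at hg'
  obtain ⟨w, -, hw⟩ := hg'
  have e : (MulAut.conj h)⁻¹ g = h⁻¹ * g * h := by simp [MulAut.inv_def]
  rw [← e]
  exact hw ▸ w.2

include hF in
theorem fix_of_prime (hm : 1 ≤ m) {p : ℕ} [hp : Fact p.Prime]
    (hdvd : p = 2 ∨ p ∣ Fintype.card F - 1) {z : Cfsg.Sz F m} (hz : orderOf z = p) : ¬ Free z := by
  intro hfree
  rcases hdvd with rfl | hdvd
  · obtain ⟨x, hx, -⟩ := involution_fix hF hm (orderOf_eq_prime_iff.mp hz).1 (hfree.ne_one hF)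
    exact hfree x hx
  · obtain ⟨h, hh⟩ := exists_tSub_conj hF hm hdvd (Q := Subgroup.zpowers z)
      (IsPGroup.of_card (n := 1) (by rw [Nat.card_zpowers, hz, pow_one]))
    exact (hfree.conj h) P∞ ((le_stab_two hF hm).mp (hh z (Subgroup.mem_zpowers z))).1

include hF in
theorem free_of_prime (hm : 1 ≤ m) {p : ℕ} [hp : Fact p.Prime] (hdvd : p ∣ Fintype.card F ^ 2 + 1)
    {z : Cfsg.Sz F m} (hz : orderOf z = p) : Free z := by
  have hodd : p ≠ 2 := fun e =>
    (Nat.not_even_iff_odd.mpr (odd_sq_add_one hF)) (even_iff_two_dvd.mpr (e ▸ hdvd))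
  rcases trichotomy hF hm z with h | ⟨h, hu | ht⟩
  · exact h
  all_goals exfalso
  · have h1 : orderOf (h⁻¹ * z * h) = p := by
      rw [show h⁻¹ * z * h = MulAut.conj h⁻¹ z by simp, MulEquiv.orderOf_eq, hz]
    have h2 : p ∣ Fintype.card F ^ 2 := by
      rw [← card_uSub hF, ← h1, ← Subgroup.orderOf_mk _ hu]
      exact orderOf_dvd_natCard _
    exact hp.out.not_dvd_one ((Nat.dvd_add_right h2).mp hdvd)
  · have h1 : orderOf (h⁻¹ * z * h) = p := by
      rw [show h⁻¹ * z * h = MulAut.conj h⁻¹ z by simp, MulEquiv.orderOf_eq, hz]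
    have h2 : p ∣ Fintype.card F - 1 := by
      rw [← card_tSub hF, ← h1, ← Subgroup.orderOf_mk _ ht]
      exact orderOf_dvd_natCard _
    exact hp.out.ne_one (Nat.eq_one_of_dvd_coprimes
      (coprime_sub_one hF) (hdvd.mul_left _) h2)

include hF in
theorem Free.commute (hm : 1 ≤ m) {g a : Cfsg.Sz F m} (hg : Free g) (h : Commute g a) (ha : a ≠ 1) :
    Free a := by
  rcases trichotomy hF hm a with hfree | ⟨k, hk⟩
  · exact hfree
  have hc : Commute (k⁻¹ * a * k) (k⁻¹ * g * k) := by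
    show k⁻¹ * a * k * (k⁻¹ * g * k) = k⁻¹ * g * k * (k⁻¹ * a * k)
    rw [show k⁻¹ * a * k * (k⁻¹ * g * k) = k⁻¹ * (a * g) * k by group, ← h.eq]
    group
  have hne : k⁻¹ * a * k ≠ 1 := fun e => ha (by
    calc a = k * (k⁻¹ * a * k) * k⁻¹ := by group
      _ = 1 := by rw [e]; group)
  rcases hk with hu | ht
  · exact absurd (uSub_smul hF (centralizer_uS hF hm hu hne hc)) ((hg.conj k) P∞)
  · exact absurd ((le_stab_two hF hm).mp (centralizer_tS hF hm ht hne hc)).1 ((hg.conj k) P∞)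

include hF in
theorem free_orderOf_dvd (hm : 1 ≤ m) {g : Cfsg.Sz F m} (hg : Free g) :
    orderOf g ∣ Fintype.card F ^ 2 + 1 := by
  have hdvd : orderOf g ∣ Fintype.card F ^ 2 * (Fintype.card F ^ 2 + 1) * (Fintype.card F - 1) := by
    rw [← nat_card hF hm]; exact orderOf_dvd_natCard g
  have hno : ∀ p : ℕ, p.Prime → p ∣ orderOf g → p ≠ 2 ∧ ¬ p ∣ Fintype.card F - 1 := by
    intro p hp hpd
    haveI := Fact.mk hp
    have hz := orderOf_pow_orderOf_div (x := g) (by simp [(orderOf_pos g).ne']) hpd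
    have := fun h => fix_of_prime hF hm h hz (hg.commute hF hm ((Commute.refl g).pow_right _)
      (fun e => hp.ne_one (by rw [← hz, e, orderOf_one])))
    exact ⟨fun e => this (Or.inl e), fun e => this (Or.inr e)⟩
  have h1 : (orderOf g).Coprime (Fintype.card F - 1) :=
    Nat.coprime_of_dvd fun p hp h h' => (hno p hp h).2 h'
  have h2 : (orderOf g).Coprime (Fintype.card F ^ 2) :=
    Nat.coprime_of_dvd fun p hp h h' => (hno p hp h).1 ((Nat.prime_dvd_prime_iff_eq hp Nat.prime_two).mp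
      (hp.dvd_of_dvd_pow (hF ▸ hp.dvd_of_dvd_pow h')))
  exact h2.dvd_of_dvd_mul_left (h1.dvd_of_dvd_mul_right hdvd)

/-- The matrix of an element. -/
def toMat : Cfsg.Sz F m →* Matrix (Fin 4) (Fin 4) F where
  toFun g := ((g : Matrix.SpecialLinearGroup (Fin 4) F) : Matrix (Fin 4) (Fin 4) F)
  map_one' := rfl
  map_mul' _ _ := rfl

omit [CharP F 2] [Fintype F] in
theorem toMat_injective : Function.Injective (toMat (F := F) (m := m)) :=
  fun _ _ h => Subtype.ext (Subtype.ext h)

include hF in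
/-- The facts from linear algebra. -/
theorem centralizer_prime (hm : 1 ≤ m) {p : ℕ} [hp : Fact p.Prime]
    (hdvd : p ∣ Fintype.card F ^ 2 + 1) {z : Cfsg.Sz F m} (hz : orderOf z = p) :
    IsCyclic (Subgroup.centralizer ({z} : Set (Cfsg.Sz F m))) ∧
      ((Subgroup.centralizer ({z} : Set (Cfsg.Sz F m))).subgroupOf (Subgroup.normalizer
        (Subgroup.centralizer ({z} : Set (Cfsg.Sz F m)) : Set (Cfsg.Sz F m)))).index ≤ 4 := by
  classical
  have hp2 : p ≠ 2 := fun e =>
    (Nat.not_even_iff_odd.mpr (odd_sq_add_one hF)) (even_iff_two_dvd.mpr (e ▸ hdvd))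
  have hpF : (p : F) ≠ 0 := by
    rw [Ne, CharP.cast_eq_zero_iff F 2]
    exact fun h => hp2 ((Nat.prime_dvd_prime_iff_eq Nat.prime_two hp.out).mp h).symm
  obtain ⟨hz1, hz2⟩ := orderOf_eq_prime_iff.mp hz
  obtain ⟨f, hf, φ, hdeg, hfz, hinj, hroot, hsurj⟩ := exists_commutant_field (M := toMat z)
    (by rw [← map_pow, hz1, map_one]) (fun e => hz2 (toMat_injective (e.trans (map_one _).symm)))
    hdvd hpF hp2
  set C := Subgroup.centralizer ({z} : Set (Cfsg.Sz F m)) with hC
  have hmem : ∀ g, g ∈ C ↔ Commute z g := fun g => by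
    rw [hC, Subgroup.mem_centralizer_singleton_iff]
    exact ⟨fun h => h.symm, fun h => h.symm⟩
  choose κ hκ using fun g : C => hsurj (toMat (g : Cfsg.Sz F m)) (((hmem g).mp g.2).map toMat)
  let ψ : C →* AdjoinRoot f :=
    { toFun := κ
      map_one' := hinj (by rw [hκ, map_one]; simp)
      map_mul' := fun a b => hinj (by rw [hκ, map_mul, hκ, hκ, Subgroup.coe_mul, map_mul]) }
  refine ⟨isCyclic_of_injective_ringHom ψ fun a b h => Subtype.ext (toMat_injective (by
    rw [← hκ a, ← hκ b, show κ a = κ b from h])), ?_⟩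
  set N := Subgroup.normalizer (C : Set (Cfsg.Sz F m)) with hN
  have hzC : z ∈ C := (hmem z).mpr (Commute.refl z)
  have hconj : ∀ n : N, (n : Cfsg.Sz F m) * z * (n : Cfsg.Sz F m)⁻¹ ∈ C := fun n =>
    (Subgroup.mem_normalizer_iff.mp n.2 z).mp hzC
  have hroot' : ∀ n : N, κ ⟨_, hconj n⟩ ∈ (f.map (algebraMap F (AdjoinRoot f))).roots.toFinset := by
    intro n
    rw [Multiset.mem_toFinset, Polynomial.mem_roots (Polynomial.map_ne_zero hf.out.ne_zero),
      Polynomial.IsRoot, Polynomial.eval_map, ← Polynomial.aeval_def]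
    apply hinj
    rw [map_zero, ← Polynomial.aeval_algHom_apply, hκ]
    have h := aeval_semiconj (F := F) (N := toMat (n : Cfsg.Sz F m)) (M := toMat z)
      (M' := toMat ((n : Cfsg.Sz F m) * z * (n : Cfsg.Sz F m)⁻¹))
      (by rw [← map_mul, ← map_mul, inv_mul_cancel_right]) f
    rw [hfz, mul_zero] at h
    calc Polynomial.aeval (toMat ((n : Cfsg.Sz F m) * z * (n : Cfsg.Sz F m)⁻¹)) f
        = Polynomial.aeval (toMat ((n : Cfsg.Sz F m) * z * (n : Cfsg.Sz F m)⁻¹)) f *
            toMat ((n : Cfsg.Sz F m) * (n : Cfsg.Sz F m)⁻¹) := by rw [mul_inv_cancel, map_one, mul_one]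
      _ = 0 := by rw [map_mul toMat (n : Cfsg.Sz F m) (n : Cfsg.Sz F m)⁻¹, ← mul_assoc, ← h, zero_mul]
  let j : N ⧸ C.subgroupOf N → (f.map (algebraMap F (AdjoinRoot f))).roots.toFinset :=
    fun q => ⟨κ ⟨_, hconj q.out⟩, hroot' q.out⟩
  have hj : Function.Injective j := by
    intro q q' h
    have h1 : toMat ((q.out : Cfsg.Sz F m) * z * (q.out : Cfsg.Sz F m)⁻¹) =
        toMat ((q'.out : Cfsg.Sz F m) * z * (q'.out : Cfsg.Sz F m)⁻¹) := by
      rw [← hκ ⟨_, hconj q.out⟩, ← hκ ⟨_, hconj q'.out⟩]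
      exact congrArg φ (congrArg Subtype.val h)
    have h2 := toMat_injective h1
    rw [← QuotientGroup.out_eq' q, ← QuotientGroup.out_eq' q', QuotientGroup.eq,
      Subgroup.mem_subgroupOf, hmem, Subgroup.coe_mul, Subgroup.coe_inv]
    generalize (q.out : Cfsg.Sz F m) = a at h2
    generalize (q'.out : Cfsg.Sz F m) = b at h2
    show z * (a⁻¹ * b) = a⁻¹ * b * z
    calc z * (a⁻¹ * b) = a⁻¹ * (a * z * a⁻¹) * b := by group
      _ = a⁻¹ * b * z := by rw [h2]; group
  calc (C.subgroupOf N).index = Nat.card (N ⧸ C.subgroupOf N) := Subgroup.index_eq_card _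
    _ ≤ Nat.card (f.map (algebraMap F (AdjoinRoot f))).roots.toFinset :=
      Nat.card_le_card_of_injective j hj
    _ ≤ 4 := by
      rw [Nat.card_eq_fintype_card, Fintype.card_coe]
      refine (Multiset.toFinset_card_le _).trans ((Polynomial.card_roots' _).trans ?_)
      rw [Polynomial.natDegree_map, hdeg]

include hF in
theorem free_centralizer (hm : 1 ≤ m) {g : Cfsg.Sz F m} (hg : Free g) :
    IsCyclic (Subgroup.centralizer ({g} : Set (Cfsg.Sz F m))) ∧
      ((Subgroup.centralizer ({g} : Set (Cfsg.Sz F m))).subgroupOf (Subgroup.normalizer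
        (Subgroup.centralizer ({g} : Set (Cfsg.Sz F m)) : Set (Cfsg.Sz F m)))).index ≤ 4 := by
  obtain ⟨p, hp, hpd⟩ := Nat.exists_prime_and_dvd
    (show orderOf g ≠ 1 from fun e => hg.ne_one hF (orderOf_eq_one_iff.mp e))
  haveI := Fact.mk hp
  have hz := orderOf_pow_orderOf_div (x := g) (by simp [(orderOf_pos g).ne']) hpd
  set z := g ^ (orderOf g / p) with hzdef
  obtain ⟨hcyc, hidx⟩ := centralizer_prime hF hm (hpd.trans (free_orderOf_dvd hF hm hg)) hz
  suffices e : Subgroup.centralizer ({g} : Set (Cfsg.Sz F m)) =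
      Subgroup.centralizer ({z} : Set (Cfsg.Sz F m)) by
    rw [e]; exact ⟨hcyc, hidx⟩
  ext a
  simp only [Subgroup.mem_centralizer_singleton_iff]
  constructor
  · intro h
    exact (Commute.pow_right (show Commute a g from h) _).eq
  · intro h
    have hgz : g ∈ Subgroup.centralizer ({z} : Set (Cfsg.Sz F m)) :=
      Subgroup.mem_centralizer_singleton_iff.mpr ((Commute.refl g).pow_right _).eq
    haveI := hcyc
    exact congrArg Subtype.val (mul_comm' (⟨a, Subgroup.mem_centralizer_singleton_iff.mpr h⟩ :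
      Subgroup.centralizer ({z} : Set (Cfsg.Sz F m))) ⟨g, hgz⟩)

include hF in
theorem centralizer_comm (hm : 1 ≤ m) {g : Cfsg.Sz F m} (hg : Free g) {a b : Cfsg.Sz F m}
    (ha : a ∈ Subgroup.centralizer ({g} : Set (Cfsg.Sz F m)))
    (hb : b ∈ Subgroup.centralizer ({g} : Set (Cfsg.Sz F m))) : Commute a b := by
  haveI := (free_centralizer hF hm hg).1
  exact congrArg Subtype.val (mul_comm' (⟨a, ha⟩ :
    Subgroup.centralizer ({g} : Set (Cfsg.Sz F m))) ⟨b, hb⟩)

include hF in
theorem centralizer_eq (hm : 1 ≤ m) {g : Cfsg.Sz F m} (hg : Free g) {a : Cfsg.Sz F m}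
    (ha : a ∈ Subgroup.centralizer ({g} : Set (Cfsg.Sz F m))) (h1 : a ≠ 1) :
    Free a ∧ Subgroup.centralizer ({a} : Set (Cfsg.Sz F m)) =
      Subgroup.centralizer ({g} : Set (Cfsg.Sz F m)) := by
  have hc : Commute g a := (Subgroup.mem_centralizer_singleton_iff.mp ha).symm
  have hfa := hg.commute hF hm hc h1
  refine ⟨hfa, le_antisymm (fun b hb => ?_) fun b hb => ?_⟩
  · exact Subgroup.mem_centralizer_singleton_iff.mpr (centralizer_comm hF hm hfa hb
      (Subgroup.mem_centralizer_singleton_iff.mpr hc.eq)).eq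
  · exact Subgroup.mem_centralizer_singleton_iff.mpr (centralizer_comm hF hm hg hb ha).eq

include hF in
theorem free_card_dvd (hm : 1 ≤ m) {g : Cfsg.Sz F m} (hg : Free g) :
    Nat.card (Subgroup.centralizer ({g} : Set (Cfsg.Sz F m))) ∣ Fintype.card F ^ 2 + 1 := by
  haveI := (free_centralizer hF hm hg).1
  obtain ⟨c, hc⟩ := IsCyclic.exists_generator (α := Subgroup.centralizer ({g} : Set (Cfsg.Sz F m)))
  rw [← orderOf_eq_card_of_forall_mem_zpowers hc, ← Subgroup.orderOf_coe]
  by_cases h1 : (c : Cfsg.Sz F m) = 1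
  · rw [h1, orderOf_one]; exact one_dvd _
  · exact free_orderOf_dvd hF hm (centralizer_eq hF hm hg c.2 h1).1

end CfsgLib.Lie.Suzuki
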