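import Cfsg.Agent.Lib.Lie.Suzuki.Structure

/-!
# The smallest degree of a nontrivial irreducible representation of a Suzuki group

The centre `Z` of the unipotent group has `q - 1` nontrivial characters, permuted transitively by the
torus, and each of their eigenspaces has dimension at least `2 ^ m`, since the commutator pairing on
`U / Z` has radical of order two.
-/

set_option autoImplicit false

namespace CfsgLib.Lie.Suzuki.MinDegree

open CfsgLib.Lie.Suzuki

variable {F : Type*} [Field F] [CharP F 2]

/-- The absolute trace. -/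
noncomputable def tr2 (F : Type*) [Field F] [CharP F 2] : F →+ ZMod 2 :=
  letI : Algebra (ZMod 2) F := ZMod.algebra F 2
  (Algebra.trace (ZMod 2) F).toAddMonoidHom

theorem zmod_two_cases : ∀ z : ZMod 2, z = 0 ∨ z = 1 := by decide

variable [Fintype F]

theorem tr2_sq (x : F) : tr2 F (x ^ 2) = tr2 F x := by
  letI : Algebra (ZMod 2) F := ZMod.algebra F 2
  haveI : Fact (Nat.Prime 2) := ⟨Nat.prime_two⟩
  let σ : F ≃ₐ[ZMod 2] F := AlgEquiv.ofRingEquiv (f := frobeniusEquiv F 2) fun r => by
    rcases zmod_two_cases r with rfl | rfl <;> simp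
  have h := Algebra.trace_eq_of_algEquiv σ x
  rw [show (σ : F → F) x = x ^ 2 by simp [σ, frobeniusEquiv_apply, frobenius_def]] at h
  exact h

theorem exists_tr2_ne {a : F} (ha : a ≠ 0) : ∃ b, tr2 F (a * b) ≠ 0 := by
  letI : Algebra (ZMod 2) F := ZMod.algebra F 2
  haveI : Fact (Nat.Prime 2) := ⟨Nat.prime_two⟩
  by_contra! hf
  refine ha ((traceForm_nondegenerate (ZMod 2) F).1 a fun b => ?_)
  rw [Algebra.traceForm_apply]
  exact hf b

/-- The sign of the trace. -/
noncomputable def psi (F : Type*) [Field F] [CharP F 2] : AddChar F ℂ where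
  toFun x := if tr2 F x = 0 then 1 else -1
  map_zero_eq_one' := by simp
  map_add_eq_mul' x y := by
    rcases (show ∀ z : ZMod 2, z = 0 ∨ z = 1 by decide) (tr2 F x) with h | h <;>
      rcases (show ∀ z : ZMod 2, z = 0 ∨ z = 1 by decide) (tr2 F y) with h' | h' <;>
        simp [map_add, h, h', show (1 : ZMod 2) + 1 = 0 by decide]

theorem psi_sq (x : F) : psi F (x ^ 2) = psi F x :=
  congrArg (fun z : ZMod 2 => if z = 0 then (1 : ℂ) else -1) (tr2_sq x)

theorem psi_th (m : ℕ) (x : F) : psi F (th F m x) = psi F x := by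
  have : ∀ n, psi F (x ^ 2 ^ n) = psi F x := fun n => by
    induction n with
    | zero => simp
    | succ n ih => rw [pow_succ, pow_mul, psi_sq, ih]
  rw [th_apply]
  exact this (m + 1)

theorem psi_primitive : (psi F).IsPrimitive := by
  intro a ha
  obtain ⟨b, hb⟩ := exists_tr2_ne ha
  refine AddChar.ne_one_iff.2 ⟨b, ?_⟩
  show (if tr2 F (a * b) = 0 then (1 : ℂ) else -1) ≠ 1
  rw [if_neg hb]
  norm_num

theorem sum_psi [DecidableEq F] (b : F) :
    ∑ c : F, psi F (c * b) = if b = 0 then (Fintype.card F : ℂ) else 0 := by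
  rw [AddChar.sum_mulShift b psi_primitive]
  split_ifs <;> simp

variable {m : ℕ}

/-- The pairing on `U / Z`. -/
noncomputable def beta (m : ℕ) (a : F) : AddChar F ℂ where
  toFun c := psi F (th F m c * a + th F m a * c)
  map_zero_eq_one' := by simp
  map_add_eq_mul' x y := by
    rw [← AddChar.map_add_eq_mul]
    congr 1
    rw [RingHom.map_add]
    ring

theorem radical (hF : Fintype.card F = 2 ^ (2 * m + 1)) {a : F} (h : beta m a = 1) : a = 0 ∨ a = 1 := by
  obtain ⟨b, hb⟩ := (th_bij (F := F) (m := m)).2 a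
  have h1 : th F m a = b := by
    by_contra hne
    have h0 : th F m a + b ≠ 0 := fun e => hne (CharTwo.add_eq_zero.1 e)
    obtain ⟨c, hc⟩ := AddChar.ne_one_iff.1 (psi_primitive h0)
    refine hc ?_
    have h2 := DFunLike.congr_fun h c
    rw [AddChar.one_apply] at h2
    change psi F (th F m c * a + th F m a * c) = 1 at h2
    rw [AddChar.map_add_eq_mul] at h2
    rw [AddChar.mulShift_apply, add_mul, AddChar.map_add_eq_mul, ← psi_th m (b * c), RingHom.map_mul, hb,
      mul_comm, mul_comm a]
    exact h2
  have h2 := th_tits hF a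
  rw [h1, hb] at h2
  have : a * (a - 1) = 0 := by linear_combination -h2
  rcases mul_eq_zero.1 this with h' | h'
  · exact Or.inl h'
  · exact Or.inr (sub_eq_zero.1 h')

theorem card_le_range (hF : Fintype.card F = 2 ^ (2 * m + 1)) :
    2 ^ (2 * m) ≤ Nat.card (Set.range (beta (F := F) m)) := by
  classical
  have h := Finset.card_le_mul_card_image (Finset.univ : Finset F) (f := beta (F := F) m) 2
    fun t ht => by
      obtain ⟨a₀, -, rfl⟩ := Finset.mem_image.1 ht
      refine le_trans (Finset.card_le_card (t := {a₀, a₀ + 1}) fun a ha => ?_) ((Finset.card_insert_le _ _).trans (by simp))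
      have ha' : beta m a = beta m a₀ := (Finset.mem_filter.1 ha).2
      have h1 : beta m (a + a₀) = 1 := DFunLike.ext _ _ fun c => by
        have e := DFunLike.congr_fun ha' c
        change psi F (th F m c * a + th F m a * c) = psi F (th F m c * a₀ + th F m a₀ * c) at e
        show psi F (th F m c * (a + a₀) + th F m (a + a₀) * c) = 1
        rw [RingHom.map_add, show th F m c * (a + a₀) + (th F m a + th F m a₀) * c =
          (th F m c * a + th F m a * c) + (th F m c * a₀ + th F m a₀ * c) by ring,
          AddChar.map_add_eq_mul, e, ← AddChar.map_add_eq_mul, CharTwo.add_self_eq_zero,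
          AddChar.map_zero_eq_one]
      rcases radical hF h1 with h2 | h2
      · simp [CharTwo.add_eq_zero.1 h2]
      · simp [show a = a₀ + 1 by rw [← h2, add_left_comm, CharTwo.add_self_eq_zero, add_zero]]
  rw [Finset.card_univ, hF, pow_succ, mul_comm] at h
  have e : Set.range (beta (F := F) m) = ↑(Finset.univ.image (beta (F := F) m)) := by simp
  rw [e, Nat.card_coe_set_eq, Set.ncard_coe_finset]
  omega

variable (hF : Fintype.card F = 2 ^ (2 * m + 1)) {V : Type*} [AddCommGroup V] [Module ℂ V]
  (ρ : Representation ℂ (Cfsg.Sz F m) V)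

/-- The eigenspace of a character of the centre of the unipotent group. -/
def eigen (c : F) : Submodule ℂ V where
  carrier := {v | ∀ b, ρ (uS hF 0 b) v = psi F (c * b) • v}
  add_mem' := fun {u v} hu hv b => by rw [map_add, hu b, hv b, smul_add]
  zero_mem' := fun b => by simp
  smul_mem' := fun z v hv b => by rw [map_smul, hv b, smul_comm]

/-- The projection on an eigenspace. -/
noncomputable def proj (c : F) : V →ₗ[ℂ] V :=
  (Fintype.card F : ℂ)⁻¹ • ∑ b, psi F (c * b) • ρ (uS hF 0 b)

theorem psi_mul_self (x : F) : psi F x * psi F x = 1 := by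
  rw [← AddChar.map_add_eq_mul, CharTwo.add_self_eq_zero, AddChar.map_zero_eq_one]

theorem proj_mem (c : F) (v : V) : proj hF ρ c v ∈ eigen hF ρ c := by
  intro b
  simp only [proj, LinearMap.smul_apply, LinearMap.sum_apply, map_smul, map_sum]
  rw [smul_comm (psi F (c * b)), Finset.smul_sum (r := psi F (c * b))]
  congr 1
  refine Fintype.sum_equiv (Equiv.addLeft b) _ _ fun x => ?_
  simp only [Equiv.coe_addLeft]
  rw [smul_smul, mul_add, AddChar.map_add_eq_mul, ← mul_assoc, psi_mul_self, one_mul,
    ← Module.End.mul_apply, ← map_mul ρ, uS_mul, map_zero, zero_mul, add_zero, add_zero]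

theorem proj_eigen [DecidableEq F] {c d : F} {v : V} (hv : v ∈ eigen hF ρ d) :
    proj hF ρ c v = if c = d then v else 0 := by
  simp only [proj, LinearMap.smul_apply, LinearMap.sum_apply]
  rw [Finset.sum_congr rfl fun b _ => by rw [hv b, smul_smul, ← AddChar.map_add_eq_mul, ← add_mul],
    ← Finset.sum_smul, Finset.sum_congr rfl fun b _ => by rw [mul_comm (c + d) b],
    AddChar.sum_mulShift (c + d) psi_primitive]
  by_cases h : c = d
  · rw [if_pos (by rw [h, CharTwo.add_self_eq_zero]), if_pos h, smul_smul,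
      inv_mul_cancel₀ (Nat.cast_ne_zero.2 Fintype.card_ne_zero), one_smul]
  · rw [if_neg (fun e => h (CharTwo.add_eq_zero.1 e)), if_neg h, Nat.cast_zero, zero_smul, smul_zero]

theorem sum_proj : ∑ c, proj hF ρ c = 1 := by
  classical
  simp only [proj]
  rw [← Finset.smul_sum, Finset.sum_comm,
    Finset.sum_congr rfl fun b _ => (Finset.sum_smul (f := fun c => psi F (c * b)) (x := ρ (uS hF 0 b))).symm]
  simp only [sum_psi, ite_smul, zero_smul, Finset.sum_ite_eq', Finset.mem_univ, if_true, uS_one, map_one]
  rw [smul_smul, inv_mul_cancel₀ (Nat.cast_ne_zero.2 Fintype.card_ne_zero), one_smul]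

theorem torus_eigen (t : Fˣ) {c : F} {v : V} (hv : v ∈ eigen hF ρ c) :
    ρ (tS hF t) v ∈ eigen hF ρ (c / th F m t) := by
  intro b
  have e : uS hF 0 b * tS hF t = tS hF t * uS hF 0 (b / th F m t) := by
    have := conj_uS hF t 0 (b / th F m t)
    rw [mul_zero, mul_div_cancel₀ _ (θ_ne_zero (θ := th F m) t.ne_zero), mul_inv_eq_iff_eq_mul] at this
    exact this.symm
  rw [← Module.End.mul_apply, ← map_mul, e, map_mul, Module.End.mul_apply, hv, map_smul,
    div_mul_eq_mul_div, mul_div_assoc]

theorem X_comm (a x : F) :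
    uS hF x 0 * uS hF a 0 = uS hF 0 (th F m x * a + th F m a * x) * (uS hF a 0 * uS hF x 0) := by
  rw [uS_mul, uS_mul, uS_mul, map_zero]
  congr 1
  · rw [zero_add, add_comm]
  · have h2 : (2 : F) = 0 := CharTwo.two_eq_zero
    grind

theorem X_eigen (a : F) {c : F} {v : V} (hv : v ∈ eigen hF ρ c) : ρ (uS hF a 0) v ∈ eigen hF ρ c := by
  intro b
  rw [← Module.End.mul_apply, ← map_mul, uS_comm_zero, map_mul, Module.End.mul_apply, hv, map_smul]

include hF in
theorem eigen_finrank [FiniteDimensional ℂ V] (h : eigen hF ρ 1 ≠ ⊥) :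
    2 ^ m ≤ Module.finrank ℂ (eigen hF ρ 1) := by
  classical
  set W := eigen hF ρ 1 with hW
  let X : F → Module.End ℂ W := fun a => (ρ (uS hF a 0)).restrict fun v hv => X_eigen hF ρ a hv
  let T := Set.range (beta (F := F) m)
  choose s hs using fun τ : T => τ.2
  have hli : LinearIndependent ℂ fun τ : T => X (s τ) := by
    rw [Fintype.linearIndependent_iff]
    intro l hl
    by_contra hne
    push Not at hne
    obtain ⟨τ₀, hτ₀⟩ := hne
    obtain ⟨w, hw⟩ : ∃ w : W, w ≠ 0 := by
      obtain ⟨v, hv, hv0⟩ := Submodule.exists_mem_ne_zero_of_ne_bot h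
      exact ⟨⟨v, hv⟩, fun e => hv0 (congrArg Subtype.val e)⟩
    -- insert the character values
    have key : ∀ (x : F) (u : W), ∑ τ : T, (l τ * (τ : AddChar F ℂ) x) • X (s τ) u = 0 := by
      intro x u
      obtain ⟨u', rfl⟩ : ∃ u', X x u' = u := by
        have hu : ρ (uS hF x 0)⁻¹ (u : V) ∈ W := by
          rw [uS_inv]
          intro b
          rw [← Module.End.mul_apply, ← map_mul, uS_comm_zero, map_mul, Module.End.mul_apply, u.2 b, map_smul]
        refine ⟨⟨_, hu⟩, Subtype.ext ?_⟩
        show ρ (uS hF x 0) (ρ (uS hF x 0)⁻¹ (u : V)) = u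
        rw [← Module.End.mul_apply, ← map_mul, mul_inv_cancel, map_one, Module.End.one_apply]
      have e : ∀ τ : T, (τ : AddChar F ℂ) x • X (s τ) (X x u') = X x (X (s τ) u') := fun τ => by
        refine Subtype.ext ?_
        show (τ : AddChar F ℂ) x • ρ (uS hF (s τ) 0) (ρ (uS hF x 0) u') =
          ρ (uS hF x 0) (ρ (uS hF (s τ) 0) u')
        rw [← Module.End.mul_apply, ← Module.End.mul_apply (ρ (uS hF x 0)), ← map_mul, ← map_mul,
          X_comm hF (s τ) x, map_mul _ (uS hF 0 _), Module.End.mul_apply]
        have hmem : ρ (uS hF (s τ) 0 * uS hF x 0) (u' : V) ∈ W := by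
          rw [map_mul, Module.End.mul_apply]
          exact X_eigen hF ρ _ (X_eigen hF ρ _ u'.2)
        rw [hmem, one_mul, ← hs τ]
        rfl
      calc ∑ τ : T, (l τ * (τ : AddChar F ℂ) x) • X (s τ) (X x u')
          = ∑ τ : T, l τ • X x (X (s τ) u') := Finset.sum_congr rfl fun τ _ => by rw [mul_smul, e]
        _ = X x ((∑ τ : T, l τ • X (s τ)) u') := by simp [LinearMap.sum_apply, map_sum]
        _ = 0 := by rw [hl]; simp
    have hz : X (s τ₀) w = 0 := by
      refine (Module.forall_dual_apply_eq_zero_iff ℂ _).1 fun f => ?_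
      have h0 := (Fintype.linearIndependent_iff.1 ((AddChar.linearIndependent F ℂ).comp
        (fun τ : T => (τ : AddChar F ℂ)) Subtype.val_injective))
        (fun τ => l τ * f (X (s τ) w)) (by
          funext x
          have := congrArg f (key x w)
          simp only [map_sum, map_smul, map_zero, smul_eq_mul] at this
          simp only [Finset.sum_apply, Pi.smul_apply, Function.comp_apply, smul_eq_mul, Pi.zero_apply]
          rw [← this]
          exact Finset.sum_congr rfl fun τ _ => by ring) τ₀
      exact (mul_eq_zero.1 h0).resolve_left hτ₀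
    refine hw (Subtype.ext ?_)
    have h1 : ρ (uS hF (s τ₀) 0) (w : V) = 0 := congrArg Subtype.val hz
    have h2 := congrArg (ρ (uS hF (s τ₀) 0)⁻¹) h1
    rwa [← Module.End.mul_apply, ← map_mul, inv_mul_cancel, map_one, Module.End.one_apply, map_zero] at h2
  have h1 := hli.fintype_card_le_finrank
  rw [Module.finrank_linearMap, ← Nat.card_eq_fintype_card] at h1
  have h2 := (card_le_range hF).trans h1
  rw [two_mul, pow_add] at h2
  exact Nat.mul_self_le_mul_self_iff.1 h2

include hF in
theorem min_degree [FiniteDimensional ℂ V] (hm : 1 ≤ m) (hirr : ρ.IsIrreducible)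
    (h2 : 2 ≤ Module.finrank ℂ V) : 2 ^ m * (Fintype.card F - 1) ≤ Module.finrank ℂ V := by
  classical
  obtain ⟨c₀, hc₀, hne⟩ : ∃ c : F, c ≠ 0 ∧ eigen hF ρ c ≠ ⊥ := by
    by_contra! hall
    -- the centre acts trivially
    have hP : ∀ c : F, c ≠ 0 → proj hF ρ c = 0 := fun c hc => LinearMap.ext fun v => by
      simpa [hall c hc] using proj_mem hF ρ c v
    have hfix : ∀ (b : F) (v : V), ρ (uS hF 0 b) v = v := fun b v => by
      have h0 : proj hF ρ 0 v = v := by
        have := DFunLike.congr_fun (sum_proj hF ρ) v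
        rwa [Finset.sum_eq_single 0 (fun c _ hc => hP c hc) (by simp), Module.End.one_apply] at this
      have := proj_mem hF ρ 0 v b
      rwa [h0, zero_mul, AddChar.map_zero_eq_one, one_smul] at this
    haveI := isSimple hF hm
    rcases Subgroup.Normal.eq_bot_or_eq_top (inferInstance : ρ.ker.Normal) with hk | hk
    · have h1 : uS hF 0 1 ∈ ρ.ker := LinearMap.ext fun v => by simp [hfix 1 v]
      rw [hk, Subgroup.mem_bot] at h1
      exact one_ne_zero (uS_inj hF (h1.trans (uS_one hF).symm)).2
    · haveI := hirr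
      haveI : Nontrivial V := Module.nontrivial_of_finrank_pos (R := ℂ) (by omega)
      obtain ⟨v, hv⟩ := _root_.exists_ne (0 : V)
      have hsub : ∀ g, ∀ w ∈ Submodule.span ℂ ({v} : Set V), ρ g w ∈ Submodule.span ℂ ({v} : Set V) := fun g w hw => by
        have : ρ g = 1 := MonoidHom.mem_ker.1 (hk ▸ Subgroup.mem_top g)
        rwa [this, Module.End.one_apply]
      rcases IsSimpleOrder.eq_bot_or_eq_top (⟨Submodule.span ℂ {v}, fun g w hw => hsub g w hw⟩ :
        Subrepresentation ρ) with e | e
      · exact hv (Submodule.span_singleton_eq_bot.1 (congrArg Subrepresentation.toSubmodule e))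
      · have := finrank_span_singleton (K := ℂ) hv
        rw [show Submodule.span ℂ ({v} : Set V) = ⊤ from congrArg Subrepresentation.toSubmodule e,
          finrank_top] at this
        omega
  -- the torus permutes the eigenspaces transitively
  have hle : ∀ c d : F, c ≠ 0 → d ≠ 0 →
      Module.finrank ℂ (eigen hF ρ c) ≤ Module.finrank ℂ (eigen hF ρ d) := fun c d hc hd => by
    obtain ⟨t, ht⟩ := th_unit_surjective (m := m) (c / d) (div_ne_zero hc hd)
    have hmem : ∀ v ∈ eigen hF ρ c, ρ (tS hF t) v ∈ eigen hF ρ d := fun v hv => by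
      have := torus_eigen hF ρ t hv
      rwa [ht, div_div_cancel₀ hc] at this
    refine LinearMap.finrank_le_finrank_of_injective (f := (ρ (tS hF t)).restrict hmem) fun u v e => Subtype.ext ?_
    have e' : ρ (tS hF t) u = ρ (tS hF t) v := congrArg Subtype.val e
    have e2 := congrArg (ρ (tS hF t)⁻¹) e'
    rwa [← Module.End.mul_apply, ← Module.End.mul_apply, ← map_mul, inv_mul_cancel, map_one,
      Module.End.one_apply, Module.End.one_apply] at e2
  have h1 : eigen hF ρ 1 ≠ ⊥ := fun e => hne (Submodule.finrank_eq_zero.1 (Nat.le_zero.1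
    ((hle c₀ 1 hc₀ one_ne_zero).trans (by rw [e, finrank_bot]))))
  -- their sum is direct
  let L : ((c : Fˣ) → eigen hF ρ c) →ₗ[ℂ] V :=
    ∑ c : Fˣ, (eigen hF ρ (c : F)).subtype.comp (LinearMap.proj c)
  have hL : Function.Injective L := by
    refine (injective_iff_map_eq_zero L).2 fun f hf => funext fun c => Subtype.ext ?_
    have h := congrArg (proj hF ρ (c : F)) hf
    simp only [L, LinearMap.sum_apply, LinearMap.comp_apply, LinearMap.proj_apply, Submodule.coe_subtype,
      map_sum, map_zero] at h
    rw [Finset.sum_eq_single c (fun d _ hd => by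
        rw [proj_eigen hF ρ (f d).2, if_neg (fun e => hd (Units.ext e.symm))]) (by simp),
      proj_eigen hF ρ (f c).2, if_pos rfl] at h
    exact h
  have hd := LinearMap.finrank_le_finrank_of_injective hL
  rw [Module.finrank_pi_fintype] at hd
  refine le_trans ?_ hd
  rw [← Fintype.card_units, mul_comm, ← Finset.card_univ, ← smul_eq_mul]
  exact Finset.card_nsmul_le_sum _ _ _ fun c _ => (eigen_finrank hF ρ h1).trans (hle 1 c one_ne_zero c.ne_zero)

end CfsgLib.Lie.Suzuki.MinDegree
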