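import Cfsg.Agent.Lib.Lie.Suzuki.FourCount

/-!
# The solubilizers of the elements of the Suzuki groups
-/

set_option autoImplicit false

namespace CfsgLib.Lie.Suzuki

variable {F : Type*} [Field F] [CharP F 2] [Fintype F] {m : ℕ}
  (hF : Fintype.card F = 2 ^ (2 * m + 1))

local notation "P∞" => pt F m none
local notation "P₀" => pt F m (some ((0 : F), (0 : F)))
local notation "C[" g "]" => Subgroup.centralizer ({g} : Set (Cfsg.Sz F m))
local notation "N[" g "]" => Subgroup.normalizer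
  (SetLike.coe (Subgroup.centralizer ({g} : Set (Cfsg.Sz F m))))

/-- The solubilizer. -/
def solSet (x : Cfsg.Sz F m) : Set (Cfsg.Sz F m) :=
  {y | Group.IsSolvable (Subgroup.closure ({x, y} : Set (Cfsg.Sz F m)))}

include hF in
theorem card_solSet_two (hm : 1 ≤ m) {x : Cfsg.Sz F m} (h1 : x ≠ 1) (h4 : x ^ 4 = 1) :
    Nat.card (solSet x) = Fintype.card F ^ 2 * (Fintype.card F - 1) +
      4 * Nat.card {a : Cfsg.Sz F m // Free a ∧ x ∈ N[a]} +
      2 * Nat.card {a : Cfsg.Sz F m // (Semi hF a ∧ ¬ Free a) ∧ x ∈ N[a]} := by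
  classical
  obtain ⟨h, -, hp, hu⟩ := two_elem_fix hF hm h4 h1
  rw [add_assoc, ← card_outside hF hm h1 h4 hp, ← card_stab hF hm (h • P∞),
    show Nat.card (MulAction.stabilizer (Cfsg.Sz F m) (h • P∞)) =
      ((MulAction.stabilizer (Cfsg.Sz F m) (h • P∞) : Subgroup _) : Set (Cfsg.Sz F m)).ncard from
      Nat.card_coe_set_eq _]
  rw [Nat.card_coe_set_eq, show Nat.card {y : Cfsg.Sz F m // y • (h • P∞) ≠ h • P∞ ∧
      ∃ a, Semi hF a ∧ x ∈ N[a] ∧ y ∈ N[a]} = Set.ncard {y : Cfsg.Sz F m | y • (h • P∞) ≠ h • P∞ ∧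
      ∃ a, Semi hF a ∧ x ∈ N[a] ∧ y ∈ N[a]} from Nat.card_coe_set_eq _]
  rw [← Set.ncard_union_eq (Set.disjoint_left.mpr fun y hy hy' => hy'.1 hy) (Set.toFinite _)
    (Set.toFinite _)]
  congr 1
  ext y
  simp only [solSet, Set.mem_ofPred_eq, isSolvable_closure_iff hF hm, Set.mem_union, SetLike.mem_coe,
    MulAction.mem_stabilizer_iff]
  constructor
  · rintro (⟨p, hxp, hyp⟩ | hex)
    · rw [hu p hxp] at hyp
      exact Or.inl hyp
    · by_cases hyp : y • (h • P∞) = h • P∞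
      · exact Or.inl hyp
      · exact Or.inr ⟨hyp, hex⟩
  · rintro (hyp | ⟨-, hex⟩)
    · exact Or.inl ⟨_, hp, hyp⟩
    · exact Or.inr hex

include hF in
theorem card_solSet_involution (hm : 1 ≤ m) {x : Cfsg.Sz F m} (h1 : x ≠ 1) (h2 : x ^ 2 = 1) :
    Nat.card (solSet x) = Fintype.card F ^ 2 * (4 * Fintype.card F - 3) := by
  obtain ⟨p, hp, -⟩ := involution_fix hF hm h2 h1
  have h4 : x ^ 4 = 1 := by rw [show x ^ 4 = (x ^ 2) ^ 2 from pow_mul x 2 2, h2, one_pow]
  have e1 := two_mul_card_free_normalized hF hm h1 h2 hp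
  have e2 := card_split_normalized hF hm h1 h2 hp
  rw [card_solSet_two hF hm h1 h4, e2, show (4 : ℕ) * Nat.card {a : Cfsg.Sz F m // Free a ∧ x ∈ N[a]} =
    2 * (2 * Nat.card {a : Cfsg.Sz F m // Free a ∧ x ∈ N[a]}) by ring, e1]
  have h8 := two_lt_card hF hm
  obtain ⟨d, hd⟩ : ∃ d, Fintype.card F = d + 2 := ⟨_, (Nat.sub_add_cancel (by omega)).symm⟩
  rw [hd, show d + 2 - 1 = d + 1 from by omega, show d + 2 - 2 = d from by omega,
    show 4 * (d + 2) - 3 = 4 * d + 5 from by omega]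
  ring

include hF in
theorem card_solSet_four (hm : 1 ≤ m) {x : Cfsg.Sz F m} (h4 : x ^ 4 = 1) (h2 : x ^ 2 ≠ 1) :
    Nat.card (solSet x) = Fintype.card F ^ 2 * (Fintype.card F + 3) := by
  have h1 : x ≠ 1 := fun e => h2 (by rw [e, one_pow])
  haveI : IsEmpty {a : Cfsg.Sz F m // (Semi hF a ∧ ¬ Free a) ∧ x ∈ N[a]} :=
    ⟨fun a => h2 (split_four_empty hF hm a.2.1.1 a.2.1.2 a.2.2 h4)⟩
  rw [card_solSet_two hF hm h1 h4, card_free_normalized_four hF hm h2 h4,
    Nat.card_of_isEmpty (α := {a : Cfsg.Sz F m // (Semi hF a ∧ ¬ Free a) ∧ x ∈ N[a]})]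
  have h8 := two_lt_card hF hm
  obtain ⟨d, hd⟩ : ∃ d, Fintype.card F = d + 1 := ⟨_, (Nat.sub_add_cancel (by omega)).symm⟩
  rw [hd, show d + 1 - 1 = d from by omega]
  ring

include hF in
theorem normalizes_iff_eq (hm : 1 ≤ m) {a x : Cfsg.Sz F m} (hx : Semi hF x) (ha : Semi hF a)
    (hxa : x ∈ N[a]) : C[a] = C[x] :=
  (semi_eq hF hm ha (semi_mem_of_normalizer hF hm ha hx hxa) hx.1).2.symm

include hF in
theorem card_solSet_free (hm : 1 ≤ m) {x : Cfsg.Sz F m} (hx : Free x) :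
    Nat.card (solSet x) = 4 * Nat.card C[x] := by
  have hs : Semi hF x := ⟨hx.ne_one hF, Or.inl hx⟩
  rw [← free_normalizer_card hF hm hx]
  refine Nat.card_congr (Equiv.setCongr (Set.ext fun y => ?_))
  simp only [solSet, Set.mem_ofPred_eq, isSolvable_closure_iff hF hm, SetLike.mem_coe]
  constructor
  · rintro (⟨p, hxp, -⟩ | ⟨a, ha, hxa, hya⟩)
    · exact absurd hxp (hx p)
    · rwa [← normalizes_iff_eq hF hm hs ha hxa]
  · exact fun hy => Or.inr ⟨x, hs, Subgroup.le_normalizer (self_mem_centralizer x), hy⟩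

include hF in
theorem card_solSet_split (hm : 1 ≤ m) {x h : Cfsg.Sz F m} (hx : x ∈ cj h (tSub hF)) (h1 : x ≠ 1) :
    Nat.card (solSet x) = 2 * Fintype.card F ^ 2 * (Fintype.card F - 1) := by
  classical
  have hs : Semi hF x := ⟨h1, Or.inr ⟨h, hx⟩⟩
  have hA := centralizer_eq_cj_tSub hF hm hx h1
  set B₁ := MulAction.stabilizer (Cfsg.Sz F m) (h • P∞)
  set B₂ := MulAction.stabilizer (Cfsg.Sz F m) (h • P₀)
  have hfix : ∀ c, c ∈ cj h (tSub hF) ↔ c • (h • P∞) = h • P∞ ∧ c • (h • P₀) = h • P₀ := fun c => by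
    rw [mem_cj, le_stab_two hF hm]
    simp only [mul_smul, inv_smul_eq_iff]
  have hsol : solSet x = ((B₁ : Set (Cfsg.Sz F m)) ∪ B₂) ∪ N[x] := by
    ext y
    simp only [solSet, Set.mem_ofPred_eq, isSolvable_closure_iff hF hm, Set.mem_union, SetLike.mem_coe]
    constructor
    · rintro (⟨p, hxp, hyp⟩ | ⟨a, ha, hxa, hya⟩)
      · have := tSub_fix hF hm (mem_cj.mp hx) (conj_ne_one h1) (x := h⁻¹ • p)
          (by rw [mul_smul, mul_smul, smul_inv_smul, hxp])
        rw [inv_smul_eq_iff, inv_smul_eq_iff] at this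
        rcases this with rfl | rfl
        · exact Or.inl (Or.inl hyp)
        · exact Or.inl (Or.inr hyp)
      · exact Or.inr (normalizes_iff_eq hF hm hs ha hxa ▸ hya)
    · rintro ((hy | hy) | hy)
      · exact Or.inl ⟨_, ((hfix x).mp hx).1, hy⟩
      · exact Or.inl ⟨_, ((hfix x).mp hx).2, hy⟩
      · exact Or.inr ⟨x, hs, Subgroup.le_normalizer (self_mem_centralizer x), hy⟩
  have hnorm : ∀ y ∈ N[x], y • (h • P∞) = h • P∞ ∨ y • (h • P₀) = h • P₀ →
      y • (h • P∞) = h • P∞ ∧ y • (h • P₀) = h • P₀ := by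
    intro y hy hor
    have hc : y⁻¹ * x * y ∈ cj h (tSub hF) := by
      rw [← hA]
      have := (Subgroup.mem_normalizer_iff.mp (inv_mem hy) x).mp (self_mem_centralizer x)
      rwa [inv_inv] at this
    obtain ⟨f0, f1⟩ := (hfix _).mp hc
    rw [mul_smul, mul_smul, inv_smul_eq_iff] at f0 f1
    have hxfix : ∀ r : Cfsg.suzukiOvoid F m, x • r = r → r = h • P∞ ∨ r = h • P₀ := by
      intro r hr
      have := tSub_fix hF hm (mem_cj.mp hx) (conj_ne_one h1) (x := h⁻¹ • r)
        (by rw [mul_smul, mul_smul, smul_inv_smul, hr])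
      rwa [inv_smul_eq_iff, inv_smul_eq_iff] at this
    have hne : h • P∞ ≠ h • P₀ := fun e => by simpa using MulAction.injective h e
    rcases hor with e | e
    · refine ⟨e, (hxfix _ f1).resolve_left fun e' => hne ?_⟩
      exact MulAction.injective y (show y • (h • P∞) = y • (h • P₀) by rw [e, e'])
    · refine ⟨(hxfix _ f0).resolve_right fun e' => hne ?_, e⟩
      exact MulAction.injective y (show y • (h • P∞) = y • (h • P₀) by rw [e', e])
  have hi1 : ((B₁ : Set (Cfsg.Sz F m)) ∩ B₂).ncard = Fintype.card F - 1 := by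
    rw [show (B₁ : Set (Cfsg.Sz F m)) ∩ B₂ = (cj h (tSub hF) : Set (Cfsg.Sz F m)) from
      Set.ext fun c => (hfix c).symm, ← Nat.card_coe_set_eq]
    exact (card_cj h _).trans (card_tSub hF)
  have hi2 : (((B₁ : Set (Cfsg.Sz F m)) ∪ B₂) ∩ N[x]).ncard = Fintype.card F - 1 := by
    rw [show ((B₁ : Set (Cfsg.Sz F m)) ∪ B₂) ∩ N[x] = (cj h (tSub hF) : Set (Cfsg.Sz F m)) from ?_,
      ← Nat.card_coe_set_eq]
    · exact (card_cj h _).trans (card_tSub hF)
    · ext c
      constructor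
      · rintro ⟨hc, hcN⟩
        exact (hfix c).mpr (hnorm c hcN hc)
      · intro hc
        exact ⟨Or.inl ((hfix c).mp hc).1, Subgroup.le_normalizer (show c ∈ C[x] from hA ▸ hc)⟩
  have hN : (N[x] : Set (Cfsg.Sz F m)).ncard = (Fintype.card F - 1) * 2 := by
    rw [← Nat.card_coe_set_eq]
    have hc : Nat.card C[x] = Fintype.card F - 1 := by rw [hA, card_cj, card_tSub]
    rcases semi_normalizer_card hF hm hs with ⟨e, -⟩ | ⟨-, e⟩
    · exact absurd ((hfix x).mp hx).1 (e _)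
    · rw [← hc]; exact e
  have hB : ∀ p : Cfsg.suzukiOvoid F m,
      ((MulAction.stabilizer (Cfsg.Sz F m) p : Subgroup _) : Set (Cfsg.Sz F m)).ncard =
        Fintype.card F ^ 2 * (Fintype.card F - 1) := fun p => by
    rw [← Nat.card_coe_set_eq]; exact card_stab hF hm p
  have hu1 := Set.ncard_union_add_ncard_inter (B₁ : Set (Cfsg.Sz F m)) B₂
  have hu2 := Set.ncard_union_add_ncard_inter ((B₁ : Set (Cfsg.Sz F m)) ∪ B₂) N[x]
  rw [hi1, hB, hB] at hu1
  rw [hi2, hN] at hu2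
  rw [Nat.card_coe_set_eq, hsol, mul_assoc 2 (Fintype.card F ^ 2)]
  omega

include hF in
theorem solSet_cases (hm : 1 ≤ m) (x : Cfsg.Sz F m) :
    (orderOf x = 2 → Nat.card (solSet x) = Fintype.card F ^ 2 * (4 * Fintype.card F - 3)) ∧
    (orderOf x = 4 → Nat.card (solSet x) = Fintype.card F ^ 2 * (Fintype.card F + 3)) ∧
    (x ≠ 1 → orderOf x ∣ Fintype.card F - 1 →
      Nat.card (solSet x) = 2 * Fintype.card F ^ 2 * (Fintype.card F - 1)) ∧
    (∀ k, k = 2 ^ (2 * m + 1) + 2 ^ (m + 1) + 1 ∨ k = 2 ^ (2 * m + 1) - 2 ^ (m + 1) + 1 →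
      x ≠ 1 → orderOf x ∣ k → Nat.card (solSet x) = 4 * k) := by
  obtain ⟨c12, c13, c23⟩ := coprime_three hF hm
  have hN : (2 ^ (2 * m + 1) + 2 ^ (m + 1) + 1) * (2 ^ (2 * m + 1) - 2 ^ (m + 1) + 1) =
      Fintype.card F ^ 2 + 1 := plus_minus hF hm
  have hu_order : ∀ h, x ∈ cj h (uSub hF) → orderOf x ∣ Fintype.card F ^ 2 := fun h hh => by
    rw [← card_uSub hF, ← card_cj h, ← Subgroup.orderOf_mk x hh]
    exact orderOf_dvd_natCard _
  have ht_order : ∀ h, x ∈ cj h (tSub hF) → orderOf x ∣ Fintype.card F - 1 := fun h hh => by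
    rw [← card_tSub hF, ← card_cj h, ← Subgroup.orderOf_mk x hh]
    exact orderOf_dvd_natCard _
  have hcop := coprime_sub_one hF
  refine ⟨fun h => ?_, fun h => ?_, fun h1 h => ?_, fun k hk h1 h => ?_⟩
  · exact card_solSet_involution hF hm (fun e => by rw [e, orderOf_one] at h; omega)
      (orderOf_dvd_iff_pow_eq_one.mp (dvd_of_eq h))
  · refine card_solSet_four hF hm (orderOf_dvd_iff_pow_eq_one.mp (dvd_of_eq h)) fun e => ?_
    have := orderOf_dvd_of_pow_eq_one e
    rw [h] at this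
    norm_num at this
  · rcases cases_of_ne_one hF hm x with hx | ⟨g, hg⟩ | ⟨g, hg⟩
    · exact absurd (orderOf_eq_one_iff.mp (Nat.eq_one_of_dvd_coprimes hcop
        ((free_orderOf_dvd hF hm hx).mul_left _) h)) h1
    · exact absurd (orderOf_eq_one_iff.mp (Nat.eq_one_of_dvd_coprimes hcop
        ((hu_order g hg).mul_right _) h)) h1
    · exact card_solSet_split hF hm hg h1
  · have hkN : k ∣ Fintype.card F ^ 2 + 1 := by
      rw [← hN]; rcases hk with rfl | rfl
      · exact dvd_mul_right _ _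
      · exact dvd_mul_left _ _
    rcases cases_of_ne_one hF hm x with hx | ⟨g, hg⟩ | ⟨g, hg⟩
    · rw [card_solSet_free hF hm hx]
      have hd : orderOf x ∣ Nat.card C[x] := by
        rw [← Subgroup.orderOf_mk x (self_mem_centralizer x)]
        exact orderOf_dvd_natCard _
      congr 1
      rcases free_card_cases hF hm hx with e | e <;> rcases hk with rfl | rfl
      · exact e
      · exact absurd (orderOf_eq_one_iff.mp (Nat.eq_one_of_dvd_coprimes c23 (e ▸ hd) h)) h1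
      · exact absurd (orderOf_eq_one_iff.mp (Nat.eq_one_of_dvd_coprimes c23 h (e ▸ hd))) h1
      · exact e
    · refine absurd (orderOf_eq_one_iff.mp (Nat.eq_one_of_dvd_coprimes
        (show (Fintype.card F ^ 2).Coprime (Fintype.card F ^ 2 + 1) by simp)
        (hu_order g hg) (h.trans hkN))) h1
    · exact absurd (orderOf_eq_one_iff.mp (Nat.eq_one_of_dvd_coprimes hcop
        ((h.trans hkN).mul_left _) (ht_order g hg))) h1

omit [CharP F 2] [Fintype F] in
theorem isSolvable_closure_map {G : Type*} [Group G] (e : Cfsg.Sz F m ≃* G) (x y : Cfsg.Sz F m) :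
    Group.IsSolvable (Subgroup.closure ({e x, e y} : Set G)) ↔ y ∈ solSet x := by
  have hmap : (Subgroup.closure ({x, y} : Set (Cfsg.Sz F m))).map e.toMonoidHom =
      Subgroup.closure ({e x, e y} : Set G) := by
    rw [MonoidHom.map_closure, Set.image_pair]
    rfl
  rw [← hmap]
  let f := Subgroup.equivMapOfInjective (Subgroup.closure ({x, y} : Set (Cfsg.Sz F m)))
    e.toMonoidHom e.injective
  constructor
  · intro h
    exact Group.isSolvable_of_surjective (f := f.symm.toMonoidHom) f.symm.surjective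
  · intro h
    have : Group.IsSolvable (Subgroup.closure ({x, y} : Set (Cfsg.Sz F m))) := h
    exact Group.isSolvable_of_surjective (f := f.toMonoidHom) f.surjective

end CfsgLib.Lie.Suzuki
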