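import Cfsg.Agent.Lib.Lie.Suzuki.SubgroupFiber

/-!
# The orbit of a non-solvable subgroup of a Suzuki group

The class equation of the subgroup, together with the count of pairs of involutions by their product,
leaves a single possibility: the orbit has `|L| ^ 2 + 1` points and the whole unipotent group over `L` is inside.

* `nf_orbit`
-/

set_option autoImplicit false

namespace CfsgLib.Lie.Suzuki

local notation "C[" g "]" => Subgroup.centralizer ({g} : Set (Cfsg.Sz _ _))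
local notation "N[" g "]" => Subgroup.normalizer
  (SetLike.coe (Subgroup.centralizer ({g} : Set (Cfsg.Sz _ _))))

variable {F : Type*} [Field F] [CharP F 2] [Fintype F] {m : ℕ}
  (hF : Fintype.card F = 2 ^ (2 * m + 1))

variable {M : Subgroup (Cfsg.Sz F m)} {L : Subfield F}

include hF in
theorem dt_index (hm : 1 ≤ m) {x : Cfsg.Sz F m} (hx : Semi hF x) :
    ∃ w, (w = 1 ∨ w = 2 ∨ w = 4) ∧ w ∣ (C[x].subgroupOf N[x]).index ∧
      Nat.card ↥(N[x] ⊓ M) = Nat.card ↥(Dt M x) * w := by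
  haveI : (C[x].subgroupOf N[x]).Normal := Subgroup.normal_in_normalizer
  have hrel := Subgroup.relIndex_dvd_index_of_normal (C[x].subgroupOf N[x]) ((N[x] ⊓ M).subgroupOf N[x])
  rw [Subgroup.relIndex_subgroupOf inf_le_left] at hrel
  refine ⟨C[x].relIndex (N[x] ⊓ M), ?_, hrel, ?_⟩
  · have h := hrel
    have h4 : C[x].relIndex (N[x] ⊓ M) ∣ 4 := by
      rcases semi_index hF hm hx with e | e <;> rw [e] at h
      · exact h.trans (by norm_num)
      · exact h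
    have := Nat.le_of_dvd (by norm_num) h4
    interval_cases C[x].relIndex (N[x] ⊓ M) <;> simp_all
  · have e : C[x] ⊓ (N[x] ⊓ M) = Dt M x := by
      rw [← inf_assoc, inf_eq_left.2 Subgroup.le_normalizer]
      rfl
    rw [← Subgroup.inf_relIndex_right, e, ← Subgroup.relIndex_bot_left, ← Subgroup.relIndex_bot_left (Dt M x),
      Subgroup.relIndex_mul_relIndex _ _ _ bot_le (e ▸ inf_le_right)]

include hF in
theorem mem_cl_self {x : Cfsg.Sz F m} (hx : Semi hF x) (hxM : x ∈ M) : x ∈ cl M x :=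
  ⟨hxM, hx.1, 1, one_mem M, by rw [inv_one, one_mul, mul_one]; exact self_mem_centralizer x⟩

theorem mem_zpowers_of_cyclic {G : Type*} [Group G] [Finite G] [IsCyclic G] {a b : G} {p : ℕ}
    (hp : 0 < p) (ha : orderOf a = p) (hb : b ^ p = 1) : b ∈ Subgroup.zpowers a := by
  classical
  haveI := Fintype.ofFinite G
  have h1 : (Finset.univ.filter fun x => x ∈ Subgroup.zpowers a) ⊆ Finset.univ.filter fun x : G => x ^ p = 1 :=
    fun x hx => by
      obtain ⟨j, rfl⟩ := (Finset.mem_filter.1 hx).2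
      refine Finset.mem_filter.2 ⟨Finset.mem_univ _, ?_⟩
      show (a ^ j) ^ p = 1
      rw [← zpow_natCast, zpow_comm, zpow_natCast, ← ha, pow_orderOf_eq_one, one_zpow]
  have h2 : (Finset.univ.filter fun x => x ∈ Subgroup.zpowers a).card = p := by
    rw [← Fintype.card_subtype, ← Nat.card_eq_fintype_card]
    exact (Nat.card_zpowers a).trans ha
  have h3 := IsCyclic.card_pow_eq_one_le (α := G) hp
  have h4 := Finset.eq_of_subset_of_card_le h1 (by rw [h2]; exact h3)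
  exact (Finset.mem_filter.1 (h4.symm ▸ Finset.mem_filter.2 ⟨Finset.mem_univ b, hb⟩)).2

include hF in
/-- Two tori of a subgroup with a common prime in their orders are conjugate in it. -/
theorem mem_cl_of_prime (hm : 1 ≤ m) {x y : Cfsg.Sz F m} (hx : Semi hF x) (hy : Semi hF y) (hyM : y ∈ M)
    {p : ℕ} (hp : p.Prime) (h1 : p ∣ Nat.card ↥(Dt M x)) (h2 : p ∣ Nat.card ↥(Dt M y)) : y ∈ cl M x := by
  haveI := Fact.mk hp
  have hp2 : p ≠ 2 := fun e => by
    have h := h1.trans (Subgroup.card_dvd_of_le (inf_le_left : Dt M x ≤ C[x]))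
    rw [e] at h
    exact Nat.not_even_iff_odd.2 (semi_odd_card hF hm hx) (even_iff_two_dvd.2 h)
  obtain ⟨q, hq⟩ := exists_prime_orderOf_dvd_card' p h1
  obtain ⟨q', hq'⟩ := exists_prime_orderOf_dvd_card' p h2
  obtain ⟨d, hde⟩ : ∃ d, (q : Cfsg.Sz F m) = d := ⟨_, rfl⟩
  obtain ⟨d', hde'⟩ : ∃ d', (q' : Cfsg.Sz F m) = d' := ⟨_, rfl⟩
  obtain ⟨hdx, hdM⟩ : d ∈ C[x] ∧ d ∈ M := hde ▸ Subgroup.mem_inf.1 q.2
  obtain ⟨hdy, hdM'⟩ : d' ∈ C[y] ∧ d' ∈ M := hde' ▸ Subgroup.mem_inf.1 q'.2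
  have hd : orderOf d = p := by rw [← hde, Subgroup.orderOf_coe, hq]
  have hd' : orderOf d' = p := by rw [← hde', Subgroup.orderOf_coe, hq']
  have ha : orderOf (⟨d, hdM⟩ : M) = p := by rw [← Subgroup.orderOf_coe]; exact hd
  have hb : orderOf (⟨d', hdM'⟩ : M) = p := by rw [← Subgroup.orderOf_coe]; exact hd'
  obtain ⟨Q₁, hQ₁⟩ := (IsPGroup.of_card (p := p) (n := 1)
    (by rw [Nat.card_zpowers, ha, pow_one] : Nat.card (Subgroup.zpowers (⟨d, hdM⟩ : M)) = p ^ 1)).exists_le_sylow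
  obtain ⟨Q₂, hQ₂⟩ := (IsPGroup.of_card (p := p) (n := 1)
    (by rw [Nat.card_zpowers, hb, pow_one] : Nat.card (Subgroup.zpowers (⟨d', hdM'⟩ : M)) = p ^ 1)).exists_le_sylow
  obtain ⟨g, hg⟩ := MulAction.exists_smul_eq M Q₁ Q₂
  obtain ⟨R, hR⟩ := (Q₂.2.map M.subtype).exists_le_sylow
  haveI := isCyclic_sylow_odd hF hm hp2 R
  haveI : IsCyclic ((Q₂ : Subgroup M).map M.subtype) := Subgroup.isCyclic_of_le hR
  haveI : IsCyclic Q₂ := ((Q₂ : Subgroup M).equivMapOfInjective M.subtype M.subtype_injective).isCyclic.2 inferInstance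
  have hc : MulAut.conj g • (⟨d, hdM⟩ : M) ∈ (Q₂ : Subgroup M) := by
    rw [← hg, Sylow.coe_subgroup_smul]
    exact Subgroup.smul_mem_pointwise_smul _ _ _ (hQ₁ (Subgroup.mem_zpowers _))
  have hco : orderOf (⟨MulAut.conj g • (⟨d, hdM⟩ : M), hc⟩ : (Q₂ : Subgroup M)) = p := by
    rw [← Subgroup.orderOf_coe]
    exact ((MulAut.conj g).orderOf_eq _).trans ha
  obtain ⟨j, hj⟩ := Subgroup.mem_zpowers_iff.1 (mem_zpowers_of_cyclic hp.pos hco
    (b := ⟨⟨d', hdM'⟩, hQ₂ (Subgroup.mem_zpowers _)⟩) (Subtype.ext (by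
      show (⟨d', hdM'⟩ : M) ^ p = 1
      rw [← hb, pow_orderOf_eq_one])))
  have e : ((g : Cfsg.Sz F m) * d * (g : Cfsg.Sz F m)⁻¹) ^ j = d' := by
    have := congrArg (fun q : (Q₂ : Subgroup M) => ((q : M) : Cfsg.Sz F m)) hj
    simpa using this
  have hd1 : d' ≠ 1 := fun e => by rw [e, orderOf_one] at hd'; exact hp.one_lt.ne hd'
  rw [conj_zpow] at e
  have hne : d ^ j ≠ 1 := fun e' => hd1 (by rw [← e, e', mul_one, mul_inv_cancel])
  refine ⟨hyM, hy.1, g, g.2, ?_⟩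
  rw [← (semi_eq hF hm hx (zpow_mem hdx j) hne).2, Subgroup.mem_centralizer_singleton_iff]
  have hc' : d' * y = y * d' := Subgroup.mem_centralizer_singleton_iff.1 hdy
  rw [← e] at hc'
  calc (g : Cfsg.Sz F m)⁻¹ * y * g * d ^ j
      = (g : Cfsg.Sz F m)⁻¹ * (y * ((g : Cfsg.Sz F m) * d ^ j * (g : Cfsg.Sz F m)⁻¹)) * g := by group
    _ = d ^ j * ((g : Cfsg.Sz F m)⁻¹ * y * g) := by rw [← hc']; group

include hF in
theorem mem_centralizer_tS_iff (hm : 1 ≤ m) {t : Fˣ} (ht : t ≠ 1) {y : Cfsg.Sz F m} :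
    y ∈ C[tS hF t] ↔ y ∈ tSub hF := by
  rw [Subgroup.mem_centralizer_singleton_iff]
  refine ⟨fun h => centralizer_tS hF hm ((mem_tSub hF).2 ⟨t, rfl⟩)
    (fun e => ht (tS_injective hF (e.trans (map_one _).symm))) h.symm, fun h => ?_⟩
  obtain ⟨u, rfl⟩ := (mem_tSub hF).1 h
  rw [← map_mul, ← map_mul, mul_comm]

include hF in
theorem semi_tS {t : Fˣ} (ht : t ≠ 1) : Semi hF (tS hF t) :=
  ⟨fun e => ht (tS_injective hF (e.trans (map_one _).symm)), Or.inr ⟨1, mem_cj.2 (by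
    rw [inv_one, one_mul, mul_one]; exact (mem_tSub hF).2 ⟨t, rfl⟩)⟩⟩

include hF in
/-- The torus at infinity and the origin. -/
theorem card_dt_tS (hm : 1 ≤ m) (hM : NF hF M L) {t : Fˣ} (ht : t ≠ 1) :
    Nat.card ↥(Dt M (tS hF t)) = Nat.card L - 1 := by
  classical
  haveI := Fintype.ofFinite L
  rw [← Nat.card_units L]
  symm
  refine Nat.card_eq_of_bijective (fun u : Lˣ => (⟨tS hF (Units.map (L.subtype : L →* F) u),
    (mem_centralizer_tS_iff hF hm ht).2 ((mem_tSub hF).2 ⟨_, rfl⟩), hM.torus _ (u : L).2⟩ : ↥(Dt M (tS hF t)))) ⟨?_, ?_⟩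
  · exact fun u v h => Units.map_injective (f := (L.subtype : L →* F)) Subtype.val_injective
      (tS_injective hF (congrArg Subtype.val h))
  · rintro ⟨x, hxC, hxM⟩
    obtain ⟨u, rfl⟩ := (mem_tSub hF).1 ((mem_centralizer_tS_iff hF hm ht).1 hxC)
    obtain ⟨a, b, v, -, -, hv, e⟩ := hM.inf _ hxM (tS_none hF u)
    obtain ⟨-, -, rfl⟩ := uS_tS_inj hF (a := 0) (b := 0) (t := u) (a' := a) (b' := b) (t' := v)
      (by rw [uS_one, one_mul]; exact e)
    exact ⟨Units.mk0 ⟨(u : F), hv⟩ fun e => u.ne_zero (congrArg Subtype.val e),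
      Subtype.ext (congrArg (tS hF) (Units.ext rfl))⟩

/-- One class of tori beside the split one. -/
theorem arith_one {n N S i k : ℤ} (hn : n = N + 1) (hi : 7 ≤ i) (hN : S ≤ N) (hS : S = i + 1 ∨ S = (i + 1) ^ 2)
    (e1 : n * S * (k - i) = 2 * N * k) (e2 : S * (k + i - 2) = 2 * N * i) : S = i + 1 ∧ N = S := by
  subst hn
  have hN0 : 0 < N := by rcases hS with h | h <;> subst h <;> nlinarith
  have key : (S - 2) * N * (i * N - S * (i - 1)) = S ^ 2 * (i - 1) := by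
    have : 2 * ((S - 2) * N * (i * N - S * (i - 1))) = 2 * (S ^ 2 * (i - 1)) := by
      linear_combination S * e1 - ((N + 1) * S - 2 * N) * e2
    linarith
  rcases hS with h | h
  · refine ⟨h, ?_⟩
    by_contra hne
    have h1 : S + 1 ≤ N := by omega
    have h2 : S + i ≤ i * N - S * (i - 1) := by nlinarith
    have h3 : (S - 2) * (S + 1) ≤ (S - 2) * N := by nlinarith
    have h4 : (S - 2) * (S + 1) * (S + i) ≤ (S - 2) * N * (i * N - S * (i - 1)) :=
      mul_le_mul h3 h2 (by nlinarith) (by nlinarith)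
    subst h
    nlinarith
  · exfalso
    have h2 : S ≤ i * N - S * (i - 1) := by nlinarith
    have hS2 : i + 1 ≤ S - 2 := by subst h; nlinarith
    have h3 : (S - 2) * S ≤ (S - 2) * N := by nlinarith
    have h4 : (S - 2) * S * S ≤ (S - 2) * N * (i * N - S * (i - 1)) :=
      mul_le_mul h3 h2 (by nlinarith) (by nlinarith)
    nlinarith

/-- Two classes of tori beside the split one. -/
theorem arith_two {n N S i σ P : ℤ} (hn : n = N + 1) (hi : 7 ≤ i) (hN : S ≤ N) (hS : S = i + 1 ∨ S = (i + 1) ^ 2)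
    (hP : P = n) (e1 : S * (2 * P - i * σ) = 4 * N) (e2 : S * (σ + 2 * i - 4) = 4 * N * i) :
    S = (i + 1) ^ 2 ∧ N = S := by
  subst hn hP
  have key : N * (2 * i ^ 2 + 2 - S) = S * (i - 1) ^ 2 := by
    have : 2 * (N * (2 * i ^ 2 + 2 - S)) = 2 * (S * (i - 1) ^ 2) := by
      linear_combination -e1 - i * e2
    linarith
  rcases hS with h | h
  · exfalso
    have h2 : S * (2 * i ^ 2 + 2 - S) ≤ N * (2 * i ^ 2 + 2 - S) := by
      refine mul_le_mul_of_nonneg_right hN ?_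
      subst h; nlinarith
    subst h; nlinarith
  · refine ⟨h, ?_⟩
    subst h
    have h0 : (i - 1) ^ 2 ≠ 0 := pow_ne_zero 2 (by omega)
    exact mul_right_cancel₀ h0 (by linear_combination key)

open scoped Classical in
include hF in
/-- The data of one class of tori. -/
theorem class_data (hm : 1 ≤ m) {x : Cfsg.Sz F m} (hx : Semi hF x) (hxM : x ∈ M) :
    ∃ c k w : ℕ, ((Finset.univ : Finset (Cfsg.Sz F m)).filter fun y => y ∈ cl M x).card = c ∧
      Nat.card ↥(Dt M x) = k ∧ 5 ≤ k ∧ (w = 1 ∨ w = 2 ∨ w = 4) ∧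
      (∑ y ∈ (Finset.univ : Finset (Cfsg.Sz F m)).filter (fun y => y ∈ cl M x), invCount M y) =
        (if w = 1 then 0 else c * k) ∧
      c * (k * w) + Nat.card M = Nat.card M * k ∧
      w ∣ (C[x].subgroupOf N[x]).index ∧ Nat.card ↥(N[x] ⊓ M) = k * w := by
  obtain ⟨w, hw, hdvd, hN⟩ := dt_index hF hm (M := M) hx
  have hc : ((Finset.univ : Finset (Cfsg.Sz F m)).filter fun y => y ∈ cl M x).card = Nat.card (cl M x) := by
    rw [Nat.card_eq_fintype_card, ← Fintype.card_subtype]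
  refine ⟨Nat.card (cl M x), Nat.card ↥(Dt M x), w, hc, rfl, ?_, hw, ?_, ?_, hdvd, hN⟩
  · have h1 : 1 < Nat.card ↥(Dt M x) :=
      Finite.one_lt_card_iff_nontrivial.2 ⟨⟨⟨x, self_mem_centralizer x, hxM⟩, 1, fun e => hx.1 (congrArg Subtype.val e)⟩⟩
    have h2 : Odd (Nat.card ↥(Dt M x)) :=
      Odd.of_dvd_nat (semi_odd_card hF hm hx) (Subgroup.card_dvd_of_le inf_le_left)
    have h3 : Nat.card ↥(Dt M x) ≠ 3 := fun e =>
      not_three_dvd hF hm (e ▸ Subgroup.card_subgroup_dvd_card (Dt M x))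
    obtain ⟨j, hj⟩ := h2
    omega
  · rw [Finset.sum_congr rfl (g := fun _ => if w = 1 then 0 else Nat.card ↥(Dt M x)) fun y hy => ?_,
      Finset.sum_const, hc, smul_eq_mul, mul_ite, mul_zero]
    have hodd := Odd.of_dvd_nat (semi_odd_card hF hm hx)
      (Subgroup.card_dvd_of_le (inf_le_left : Dt M x ≤ C[x]))
    obtain ⟨h1, h2⟩ := invCount_cl hF hm hx (Finset.mem_filter.1 hy).2
    split_ifs with e
    · exact h1 (by rw [hN, e, mul_one]; exact hodd)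
    · refine h2 ?_
      rw [hN]
      refine Even.mul_left ?_ _
      rcases hw with rfl | rfl | rfl <;> first | exact absurd rfl e | decide
  · rw [← hN]
    exact card_cl hF hm hx

open scoped Classical in
include hF in
/-- The orbit of a non-solvable subgroup in normal form. -/
theorem nf_orbit (hm : 1 ≤ m) (hM : NF hF M L) {e : ℕ} (he : 1 ≤ e) (hL : Nat.card L = 2 ^ (2 * e + 1)) :
    (∀ a b, a ∈ L → b ∈ L → uS hF a b ∈ M) ∧ Nat.card (Dl M) = Nat.card L ^ 2 + 1 ∧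
      ∃ t : Fˣ, wS hF * tS hF t ∈ M := by
  have h8 : 8 ∣ Nat.card L := by
    rw [hL]; exact (show (2 : ℕ) ^ 3 = 8 by norm_num) ▸ pow_dvd_pow 2 (by omega)
  have hs3 : Nat.card L % 3 = 2 := by rw [hL, pow_succ, pow_mul, Nat.mul_mod, Nat.pow_mod]; norm_num
  obtain ⟨i, hi⟩ : ∃ i, Nat.card L = i + 1 := ⟨_, (Nat.sub_add_cancel Nat.card_pos).symm⟩
  have hi7 : 7 ≤ i := by have := Nat.le_of_dvd Nat.card_pos h8; omega
  obtain ⟨N, hn⟩ : ∃ N, Nat.card (Dl M) = N + 1 :=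
    ⟨_, (Nat.sub_add_cancel (Nat.card_pos_iff.2 ⟨⟨⟨_, inf_mem_Dl hF⟩⟩, inferInstance⟩)).symm⟩
  obtain ⟨S, hS⟩ : ∃ S, Nat.card ↥(M ⊓ unip hF) = S := ⟨_, rfl⟩
  have hS' : S = i + 1 ∨ S = (i + 1) ^ 2 := by rw [← hS, ← hi]; exact card_unip_cases hF hM
  have h8S : 8 ∣ S := by
    rw [← hi] at hS'
    rcases hS' with h | h <;> rw [h]
    · exact h8
    · exact h8.trans (dvd_pow_self _ (by norm_num))
  have hS8 : 8 ≤ S := by rcases hS' with h | h <;> subst h <;> nlinarith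
  have hNS : S ≤ N := by have := card_unip_lt_orbit hF hm hM; omega
  have hT : Nat.card M = (N + 1) * (S * i) := by
    rw [card_eq_orbit_mul hF, card_stab_inf_sub hF hM, hn, hS, hi, Nat.add_sub_cancel]
  -- the semisimple elements
  set X : Finset (Cfsg.Sz F m) := Finset.univ.filter fun x => x ∈ M ∧ x ^ 4 ≠ 1 with hXd
  have hX : X.card + 1 + (N + 1) * S = (N + 1) * (S * i) + (N + 1) := by
    have h2 := card_two_elements hF hm hM
    rw [hn, hS] at h2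
    have hsplit : Nat.card M = X.card + Nat.card {x : Cfsg.Sz F m // x ∈ M ∧ x ^ 4 = 1 ∧ x ≠ 1} + 1 := by
      have h0 : Nat.card M = ((Finset.univ : Finset (Cfsg.Sz F m)).filter fun x => x ∈ M).card := by
        rw [Nat.card_eq_fintype_card, ← Fintype.card_subtype]
      have h1 : Nat.card {x : Cfsg.Sz F m // x ∈ M ∧ x ^ 4 = 1 ∧ x ≠ 1} =
          ((Finset.univ : Finset (Cfsg.Sz F m)).filter fun x => x ∈ M ∧ x ^ 4 = 1 ∧ x ≠ 1).card := by
        rw [Nat.card_eq_fintype_card, ← Fintype.card_subtype]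
      have h1' : ((Finset.univ : Finset (Cfsg.Sz F m)).filter fun x => x ∈ M ∧ x ^ 4 = 1) =
          insert 1 ((Finset.univ : Finset (Cfsg.Sz F m)).filter fun x => x ∈ M ∧ x ^ 4 = 1 ∧ x ≠ 1) := by
        ext x
        by_cases hx : x = 1
        · simp [hx, one_mem]
        · simp [hx]
      have h3 := Finset.card_filter_add_card_filter_not
        (s := (Finset.univ : Finset (Cfsg.Sz F m)).filter fun x => x ∈ M) (fun x => x ^ 4 = 1)
      rw [Finset.filter_filter, Finset.filter_filter, h1', Finset.card_insert_of_notMem (by simp), ← h1, ← h0] at h3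
      rw [hXd, ← h3]
      ring
    rw [hT] at hsplit
    omega
  have hsum := sum_invCount hF hm hM
  rw [← hXd, hn, hi, Nat.add_sub_cancel] at hsum
  have hcl : ∀ {x : Cfsg.Sz F m}, Semi hF x →
      ((Finset.univ : Finset (Cfsg.Sz F m)).filter fun y => y ∈ cl M x) ⊆ X := fun hx y hy =>
    Finset.mem_filter.2 ⟨Finset.mem_univ _, (Finset.mem_filter.1 hy).2.1,
      (semi_iff hF hm).1 (semi_of_cl hF hm hx (Finset.mem_filter.1 hy).2)⟩
  -- the split torus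
  obtain ⟨t₀, ht₀L, ht₀⟩ : ∃ t : Fˣ, (t : F) ∈ L ∧ t ≠ 1 := by
    haveI := Fintype.ofFinite L
    haveI : Nontrivial Lˣ := Finite.one_lt_card_iff_nontrivial.1 (by rw [Nat.card_units]; omega)
    obtain ⟨u, hu⟩ := _root_.exists_ne (1 : Lˣ)
    exact ⟨Units.map (L.subtype : L →* F) u, (u : L).2, fun e =>
      hu (Units.map_injective (f := (L.subtype : L →* F)) Subtype.val_injective (e.trans (map_one _).symm))⟩
  have hK := semi_tS hF ht₀
  obtain ⟨c₀, k₀, w₀, hc₀, hk₀, -, hw₀, hs₀, he₀, hdvd₀, hwN₀⟩ := class_data hF hm hK (hM.torus _ ht₀L)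
  rw [card_dt_tS hF hm hM ht₀, hi, Nat.add_sub_cancel] at hk₀
  subst hk₀
  rw [hT] at he₀
  set C₀ := (Finset.univ : Finset (Cfsg.Sz F m)).filter fun y => y ∈ cl M (tS hF t₀) with hC₀
  have hsplit₀ : X.card = (X \ C₀).card + c₀ ∧
      ∑ x ∈ X, invCount M x = (∑ x ∈ X \ C₀, invCount M x) + ∑ x ∈ C₀, invCount M x :=
    ⟨by rw [← hc₀, Finset.card_sdiff_add_card_eq_card (hcl hK)], (Finset.sum_sdiff (hcl hK)).symm⟩
  rw [hsplit₀.2, hs₀] at hsum
  rw [hsplit₀.1] at hX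
  set R := X \ C₀ with hR
  by_cases hw1 : w₀ = 1
  · -- no element exchanges infinity and the origin
    exfalso
    obtain ⟨Φ, -⟩ := exists_inv_equiv hF hm hM
    have hJ : Nat.card {z : Cfsg.Sz F m // z ∈ M ∧ z ^ 2 = 1 ∧ z ≠ 1} = (N + 1) * i := by
      haveI := Fintype.ofFinite L
      rw [← Nat.card_congr Φ, Nat.card_prod, hn]
      congr 1
      rw [Nat.card_eq_fintype_card, Fintype.card_subtype_compl, Fintype.card_subtype_eq, ← Nat.card_eq_fintype_card, hi,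
        Nat.add_sub_cancel]
    have hle : ∀ x, invCount M x ≤ (N + 1) * i := fun x => hJ ▸
      Nat.card_le_card_of_injective
        (fun z : {z : Cfsg.Sz F m // z ∈ M ∧ z ^ 2 = 1 ∧ z ≠ 1 ∧ z * x * z⁻¹ = x⁻¹} =>
          (⟨z.1, z.2.1, z.2.2.1, z.2.2.2.1⟩ : {z : Cfsg.Sz F m // z ∈ M ∧ z ^ 2 = 1 ∧ z ≠ 1}))
        (fun a b h => Subtype.ext (congrArg (fun u : {z : Cfsg.Sz F m // z ∈ M ∧ z ^ 2 = 1 ∧ z ≠ 1} => u.1) h))
    rw [if_pos hw1, add_zero] at hsum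
    rw [hw1, mul_one] at he₀
    have hRN : R.card = N := by nlinarith
    have hb := Finset.sum_le_card_nsmul R _ _ fun x _ => hle x
    rw [hRN, smul_eq_mul] at hb
    have hi0 : 0 < N * (N + 1) * i := Nat.mul_pos (Nat.mul_pos (by omega) (by omega)) (by omega)
    nlinarith [mul_le_mul_of_nonneg_left hi7 hi0.le]
  rw [if_neg hw1] at hsum
  have hw₀2 : w₀ = 2 := by
    have hidx : Nat.card C[tS hF t₀] * (C[tS hF t₀].subgroupOf N[tS hF t₀]).index = Nat.card N[tS hF t₀] := by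
      rw [← Nat.card_congr (Subgroup.subgroupOfEquivOfLe (Subgroup.le_normalizer : C[tS hF t₀] ≤ N[tS hF t₀])).toEquiv,
        Subgroup.card_mul_index]
    rcases semi_normalizer_card hF hm hK with ⟨hfree, -⟩ | ⟨-, h2⟩
    · exact absurd (tS_none hF t₀) (hfree _)
    rw [h2] at hidx
    rw [Nat.eq_of_mul_eq_mul_left Nat.card_pos hidx] at hdvd₀
    have := Nat.le_of_dvd (by norm_num) hdvd₀
    omega
  subst hw₀2
  -- an involution exchanging the two points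
  have hy : ∃ t : Fˣ, wS hF * tS hF t ∈ M := by
    have hev : Even (Nat.card ↥(N[tS hF t₀] ⊓ M)) := by rw [hwN₀]; exact ⟨_, mul_two _⟩
    haveI := Fact.mk Nat.prime_two
    obtain ⟨⟨z, hzN, hzM⟩, hz⟩ := exists_prime_orderOf_dvd_card' 2 (even_iff_two_dvd.1 hev)
    rw [← Subgroup.orderOf_coe] at hz
    have hCe : C[tS hF t₀] = tSub hF := Subgroup.ext fun _ => mem_centralizer_tS_iff hF hm ht₀
    rw [hCe] at hzN
    rcases (mem_normalizer_tSub_iff hF hm).1 hzN with hzT | hzT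
    · exfalso
      have h2 : orderOf z ∣ Nat.card (tSub hF) := Subgroup.orderOf_dvd_natCard _ hzT
      simp only at hz
      rw [hz, card_tSub] at h2
      exact Nat.not_even_iff_odd.2 (odd_card_sub_one hF) (even_iff_two_dvd.2 h2)
    · obtain ⟨t, ht⟩ := (mem_tSub hF).1 hzT
      refine ⟨t, ?_⟩
      rw [← ht, ← mul_assoc, wS_mul_self, one_mul]
      exact hzM
  have hc₀2 : 2 * c₀ + (N + 1) * S = (N + 1) * S * i :=
    Nat.eq_of_mul_eq_mul_left (show 0 < i by omega) (by linarith [he₀])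
  -- the other classes
  obtain ⟨T, hTd⟩ : ∃ T, (N + 1) * (S * i) = T := ⟨_, rfl⟩
  have hR2 : 2 * R.card < T ∧ 6 * T < 14 * R.card := by
    subst hTd
    constructor <;> nlinarith [mul_le_mul_of_nonneg_left hS8 (Nat.zero_le (N + 1)),
      mul_le_mul_of_nonneg_left hi7 (Nat.zero_le ((N + 1) * S))]
  have hnext : ∀ {x : Cfsg.Sz F m} {A : Finset (Cfsg.Sz F m)}, A ⊆ R → x ∈ A → ∃ c k w : ℕ,
      ((Finset.univ : Finset (Cfsg.Sz F m)).filter fun y => y ∈ cl M x).card = c ∧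
      Nat.card ↥(Dt M x) = k ∧ 5 ≤ k ∧ (w = 1 ∨ w = 2 ∨ w = 4) ∧
      (∑ y ∈ (Finset.univ : Finset (Cfsg.Sz F m)).filter (fun y => y ∈ cl M x), invCount M y) =
        (if w = 1 then 0 else c * k) ∧
      c * (k * w) + T = T * k ∧ 4 * T ≤ 5 * (c * w) ∧ c * w < T ∧ Semi hF x ∧ x ∈ M ∧ x ∉ cl M (tS hF t₀) := by
    intro x A hA hxA
    obtain ⟨hxX, hxC⟩ := Finset.mem_sdiff.1 (hA hxA)
    obtain ⟨-, hxM, hx4⟩ := Finset.mem_filter.1 hxX
    obtain ⟨c, k, w, hc, hk, hk5, hw, hs, he, -, -⟩ := class_data hF hm ((semi_iff hF hm).2 hx4) hxM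
    rw [hT, hTd] at he
    refine ⟨c, k, w, hc, hk, hk5, hw, hs, he, ?_, ?_, (semi_iff hF hm).2 hx4, hxM,
      fun h => hxC (Finset.mem_filter.2 ⟨Finset.mem_univ _, h⟩)⟩
    · nlinarith [Nat.mul_le_mul_left T hk5]
    · have : 0 < T := by omega
      by_contra hcon
      nlinarith [Nat.mul_le_mul_left k (not_lt.1 hcon)]
  have hRne : R.Nonempty := Finset.card_pos.1 (by omega)
  obtain ⟨x₁, hx₁⟩ := hRne
  obtain ⟨c₁, k₁, w₁, hc₁, hk₁, hk₁5, hw₁, hs₁, he₁, hlo₁, hhi₁, hsx₁, hx₁M, hnx₁⟩ := hnext subset_rfl hx₁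
  set C₁ := (Finset.univ : Finset (Cfsg.Sz F m)).filter fun y => y ∈ cl M x₁ with hC₁
  have hsub₁ : C₁ ⊆ R := fun y hy => Finset.mem_sdiff.2 ⟨hcl hsx₁ hy, fun h =>
    Set.disjoint_left.1 (cl_disjoint hF hm hK hsx₁ hx₁M hnx₁) (Finset.mem_filter.1 h).2 (Finset.mem_filter.1 hy).2⟩
  have hcard₁ : R.card = (R \ C₁).card + c₁ := by rw [← hc₁, Finset.card_sdiff_add_card_eq_card hsub₁]
  rw [← Finset.sum_sdiff hsub₁, hs₁] at hsum
  have hne1 : w₁ ≠ 1 := fun e => by subst e; omega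
  rw [if_neg hne1] at hsum
  by_cases hR₁ : R \ C₁ = ∅
  · -- one class: impossible
    exfalso
    rw [hR₁, Finset.card_empty, zero_add] at hcard₁
    rw [hR₁, Finset.sum_empty, zero_add] at hsum
    rcases hw₁ with rfl | rfl | rfl
    · exact hne1 rfl
    · subst hTd
      obtain ⟨hA, hB⟩ := arith_one (n := (N : ℤ) + 1) (N := N) (S := S) (i := i) (k := k₁) rfl
        (by exact_mod_cast hi7) (by exact_mod_cast hNS) (by exact_mod_cast hS')
        (by
          zify at hX hc₀2 he₁ hcard₁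
          linear_combination -he₁ + 2 * (k₁ : ℤ) * hX - (k₁ : ℤ) * hc₀2 - 2 * (k₁ : ℤ) * hcard₁)
        (by
          zify at hsum he₀ he₁
          have : ((N : ℤ) + 1) * i * ((S : ℤ) * (k₁ + i - 2)) = ((N : ℤ) + 1) * i * (2 * N * i) := by
            linear_combination 2 * hsum - he₁ - he₀
          exact mul_left_cancel₀ (by positivity) this)
      have hS0 : S = i + 1 := by exact_mod_cast hA
      have hN0 : N = S := by exact_mod_cast hB
      refine not_three_dvd hF hm (Dvd.dvd.trans ?_ M.card_subgroup_dvd_card)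
      rw [hT]
      exact Dvd.dvd.mul_right (by omega) _
    · omega
  obtain ⟨x₂, hx₂⟩ := Finset.nonempty_iff_ne_empty.2 hR₁
  obtain ⟨c₂, k₂, w₂, hc₂, hk₂, hk₂5, hw₂, hs₂, he₂, hlo₂, hhi₂, hsx₂, hx₂M, hnx₂⟩ :=
    hnext Finset.sdiff_subset hx₂
  set C₂ := (Finset.univ : Finset (Cfsg.Sz F m)).filter fun y => y ∈ cl M x₂ with hC₂
  have hnx₂₁ : x₂ ∉ cl M x₁ := fun h => (Finset.mem_sdiff.1 hx₂).2 (Finset.mem_filter.2 ⟨Finset.mem_univ _, h⟩)
  have hsub₂ : C₂ ⊆ R \ C₁ := fun y hy => by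
    refine Finset.mem_sdiff.2 ⟨Finset.mem_sdiff.2 ⟨hcl hsx₂ hy, fun h => ?_⟩, fun h => ?_⟩
    · exact Set.disjoint_left.1 (cl_disjoint hF hm hK hsx₂ hx₂M hnx₂) (Finset.mem_filter.1 h).2 (Finset.mem_filter.1 hy).2
    · exact Set.disjoint_left.1 (cl_disjoint hF hm hsx₁ hsx₂ hx₂M hnx₂₁) (Finset.mem_filter.1 h).2 (Finset.mem_filter.1 hy).2
  have hcard₂ : (R \ C₁).card = ((R \ C₁) \ C₂).card + c₂ := by
    rw [← hc₂, Finset.card_sdiff_add_card_eq_card hsub₂]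
  have hR₂ : (R \ C₁) \ C₂ = ∅ := by
    by_contra hne
    obtain ⟨x₃, hx₃⟩ := Finset.nonempty_iff_ne_empty.2 hne
    obtain ⟨c₃, k₃, w₃, hc₃, -, -, hw₃, -, -, hlo₃, -, hsx₃, hx₃M, hnx₃⟩ :=
      hnext (Finset.sdiff_subset.trans Finset.sdiff_subset) hx₃
    obtain ⟨h₃', h₃₂⟩ := Finset.mem_sdiff.1 hx₃
    obtain ⟨h₃R, h₃₁⟩ := Finset.mem_sdiff.1 h₃'
    have hsub₃ : ((Finset.univ : Finset (Cfsg.Sz F m)).filter fun y => y ∈ cl M x₃) ⊆ (R \ C₁) \ C₂ := fun y hy => by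
      refine Finset.mem_sdiff.2 ⟨Finset.mem_sdiff.2 ⟨Finset.mem_sdiff.2 ⟨hcl hsx₃ hy, fun h => ?_⟩, fun h => ?_⟩, fun h => ?_⟩
      · exact Set.disjoint_left.1 (cl_disjoint hF hm hK hsx₃ hx₃M hnx₃) (Finset.mem_filter.1 h).2 (Finset.mem_filter.1 hy).2
      · exact Set.disjoint_left.1 (cl_disjoint hF hm hsx₁ hsx₃ hx₃M fun e =>
          h₃₁ (Finset.mem_filter.2 ⟨Finset.mem_univ _, e⟩)) (Finset.mem_filter.1 h).2 (Finset.mem_filter.1 hy).2
      · exact Set.disjoint_left.1 (cl_disjoint hF hm hsx₂ hsx₃ hx₃M fun e =>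
          h₃₂ (Finset.mem_filter.2 ⟨Finset.mem_univ _, e⟩)) (Finset.mem_filter.1 h).2 (Finset.mem_filter.1 hy).2
    have hle₃ := Finset.card_le_card hsub₃
    rw [hc₃] at hle₃
    rcases hw₁ with rfl | rfl | rfl <;> rcases hw₂ with rfl | rfl | rfl <;> rcases hw₃ with rfl | rfl | rfl <;> omega
  rw [hR₂, Finset.card_empty, zero_add] at hcard₂
  rw [← Finset.sum_sdiff hsub₂, hs₂, hR₂, Finset.sum_empty, zero_add] at hsum
  have hw44 : w₁ = 4 ∧ w₂ = 4 := by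
    rcases hw₁ with rfl | rfl | rfl <;> rcases hw₂ with rfl | rfl | rfl <;> omega
  obtain ⟨rfl, rfl⟩ := hw44
  rw [if_neg (by norm_num)] at hsum
  rw [hcard₂] at hcard₁
  subst hTd
  -- the orders of the two tori divide the length of the orbit
  have hdvd : k₁ * k₂ ∣ N + 1 := by
    have hco : ∀ {x : Cfsg.Sz F m} {k : ℕ}, Semi hF x → x ∈ M → x ∉ cl M (tS hF t₀) →
        Nat.card ↥(Dt M x) = k → k ∣ N + 1 := by
      intro x k hx hxM hnx hk
      have hd : k ∣ (N + 1) * (S * i) := by rw [← hk, ← hT]; exact Subgroup.card_dvd_of_le inf_le_right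
      refine Nat.Coprime.dvd_of_dvd_mul_right (Nat.coprime_of_dvd fun p hp hpk hpSi => ?_) hd
      rcases hp.dvd_mul.1 hpSi with hpS | hpi
      · have hp2 : p = 2 := (Nat.prime_dvd_prime_iff_eq hp Nat.prime_two).1 (by
          rw [← hi] at hS'
          rcases hS' with h | h <;> rw [h, hL] at hpS
          · exact hp.dvd_of_dvd_pow hpS
          · exact hp.dvd_of_dvd_pow (hp.dvd_of_dvd_pow hpS))
        have h := (hk ▸ hpk : p ∣ Nat.card ↥(Dt M x)).trans (Subgroup.card_dvd_of_le (inf_le_left : Dt M x ≤ C[x]))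
        rw [hp2] at h
        exact Nat.not_even_iff_odd.2 (semi_odd_card hF hm hx) (even_iff_two_dvd.2 h)
      · exact hnx (mem_cl_of_prime hF hm hK hx hxM hp
          (by rw [card_dt_tS hF hm hM ht₀, hi, Nat.add_sub_cancel]; exact hpi) (hk ▸ hpk))
    refine Nat.Coprime.mul_dvd_of_dvd_of_dvd (Nat.coprime_of_dvd fun p hp h1 h2 => ?_)
      (hco hsx₁ hx₁M hnx₁ hk₁) (hco hsx₂ hx₂M hnx₂ hk₂)
    exact hnx₂₁ (mem_cl_of_prime hF hm hsx₁ hsx₂ hx₂M hp (hk₁ ▸ h1) (hk₂ ▸ h2))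
  obtain ⟨j, hj⟩ := hdvd
  obtain ⟨r, hr⟩ := h8S
  zify at hX he₀ hc₀2 he₁ he₂ hsum hcard₁ hj
  have E1 : ((N : ℤ) + 1) * S * (2 * ((k₁ : ℤ) * k₂) - i * ((k₁ : ℤ) + k₂)) = 4 * N * ((k₁ : ℤ) * k₂) := by
    linear_combination -(k₂ : ℤ) * he₁ - (k₁ : ℤ) * he₂ + 4 * (k₁ : ℤ) * k₂ * hX - 2 * (k₁ : ℤ) * k₂ * hc₀2 -
      4 * (k₁ : ℤ) * k₂ * hcard₁
  have E2 : (S : ℤ) * ((k₁ : ℤ) + k₂ + 2 * i - 4) = 4 * N * i := by
    have : ((N : ℤ) + 1) * i * ((S : ℤ) * ((k₁ : ℤ) + k₂ + 2 * i - 4)) = ((N : ℤ) + 1) * i * (4 * N * i) := by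
      linear_combination 4 * hsum - he₁ - he₂ - 2 * he₀
    exact mul_left_cancel₀ (by positivity) this
  have hP0 : (k₁ : ℤ) * k₂ ≠ 0 := by positivity
  have E1' : (j : ℤ) * ((S : ℤ) * (2 * ((k₁ : ℤ) * k₂) - i * ((k₁ : ℤ) + k₂))) = 4 * N := by
    refine mul_left_cancel₀ hP0 ?_
    linear_combination E1 - ((S : ℤ) * (2 * ((k₁ : ℤ) * k₂) - i * ((k₁ : ℤ) + k₂))) * hj
  have hj1 : j = 1 := by
    obtain ⟨Z, hZ⟩ : ∃ Z : ℤ, Z = (r : ℤ) * (2 * ((k₁ : ℤ) * k₂) - i * ((k₁ : ℤ) + k₂)) := ⟨_, rfl⟩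
    obtain ⟨P, hP⟩ : ∃ P : ℤ, P = (k₁ : ℤ) * k₂ := ⟨_, rfl⟩
    have h' : (j : ℤ) * (4 * P - 8 * Z) = 4 := by
      rw [hP, hZ]
      subst hr
      push_cast at E1'
      linear_combination -4 * hj - E1'
    have h4 : (j : ℤ) ∣ 4 := ⟨_, h'.symm⟩
    have h4' : j ∣ 4 := by exact_mod_cast h4
    have := Nat.le_of_dvd (by norm_num) h4'
    interval_cases j <;> omega
  subst hj1
  rw [Nat.cast_one, one_mul] at E1'
  obtain ⟨hA, hB⟩ := arith_two (n := (N : ℤ) + 1) (N := N) (S := S) (i := i) (σ := (k₁ : ℤ) + k₂)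
    (P := (k₁ : ℤ) * k₂) rfl (by exact_mod_cast hi7) (by exact_mod_cast hNS) (by exact_mod_cast hS')
    (by push_cast at hj; linear_combination -hj) E1' E2
  have hS0 : S = (i + 1) ^ 2 := by exact_mod_cast hA
  have hN0 : N = S := by exact_mod_cast hB
  refine ⟨?_, by rw [hn, hi, hN0, hS0], hy⟩
  rcases hM.dich with h | h
  · exfalso
    have hU : Nat.card ↥(M ⊓ unip hF) = Nat.card L := by
      symm
      refine Nat.card_eq_of_bijective (fun b : L => (⟨uS hF 0 b, (hM.center b).2 b.2, _, _, rfl⟩ : ↥(M ⊓ unip hF))) ⟨?_, ?_⟩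
      · exact fun b b' e => Subtype.ext (uS_inj hF (congrArg Subtype.val e)).2
      · rintro ⟨x, hx, a, b, rfl⟩
        have ha := h a b hx
        subst ha
        exact ⟨⟨b, (hM.center b).1 hx⟩, rfl⟩
    rw [hS, hi, hS0] at hU
    nlinarith
  · exact h

end CfsgLib.Lie.Suzuki
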