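import Cfsg.Agent.Lib.Lie.Suzuki.SubgroupNormal
import Cfsg.Agent.Lib.Lie.Suzuki.TwoCount

/-!
# Counting the elements of a subgroup of a Suzuki group by fixed points and by tori

* `Dl`, `el_two_equiv`, `inv_equiv`: elements of `2`-power order by fixed point
* `card_cl`: the conjugates of the non-identity elements of a torus
* `invCount_cl`: the involutions inverting such an element
* `sum_invCount`: pairs of involutions
-/

set_option autoImplicit false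

namespace CfsgLib.Lie.Suzuki

local notation "C[" g "]" => Subgroup.centralizer ({g} : Set (Cfsg.Sz _ _))
local notation "N[" g "]" => Subgroup.normalizer
  (SetLike.coe (Subgroup.centralizer ({g} : Set (Cfsg.Sz _ _))))

variable {F : Type*} [Field F] [CharP F 2] [Fintype F] {m : ℕ}
  (hF : Fintype.card F = 2 ^ (2 * m + 1))

/-- The orbit of the point at infinity. -/
def Dl (M : Subgroup (Cfsg.Sz F m)) : Set (Cfsg.suzukiOvoid F m) :=
  {p | ∃ g ∈ M, g • pt F m none = p}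

/-- The torus of `x` in `M`. -/
def Dt (M : Subgroup (Cfsg.Sz F m)) (x : Cfsg.Sz F m) : Subgroup (Cfsg.Sz F m) := C[x] ⊓ M

/-- The elements of `M` conjugate in `M` into the torus of `x`. -/
def cl (M : Subgroup (Cfsg.Sz F m)) (x : Cfsg.Sz F m) : Set (Cfsg.Sz F m) :=
  {y | y ∈ M ∧ y ≠ 1 ∧ ∃ g ∈ M, g⁻¹ * y * g ∈ C[x]}

/-- The number of involutions of `M` inverting `x`. -/
noncomputable def invCount (M : Subgroup (Cfsg.Sz F m)) (x : Cfsg.Sz F m) : ℕ :=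
  Nat.card {z : Cfsg.Sz F m // z ∈ M ∧ z ^ 2 = 1 ∧ z ≠ 1 ∧ z * x * z⁻¹ = x⁻¹}

include hF in
theorem semi_iff (hm : 1 ≤ m) {x : Cfsg.Sz F m} : Semi hF x ↔ x ^ 4 ≠ 1 := by
  constructor
  · intro h h4
    have hd := Nat.eq_one_of_dvd_coprimes (Nat.Coprime.pow_left 2 (Nat.coprime_two_left.2 (semi_odd_order hF hm h)))
      (orderOf_dvd_of_pow_eq_one h4) dvd_rfl
    exact h.1 (orderOf_eq_one_iff.1 hd)
  · intro h
    have h1 : x ≠ 1 := fun e => h (by rw [e, one_pow])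
    rcases cases_of_ne_one hF hm x with hf | ⟨k, hk⟩ | ⟨k, hk⟩
    · exact ⟨h1, Or.inl hf⟩
    · exfalso
      obtain ⟨a, b, hab⟩ := mem_cj.1 hk
      refine h ?_
      rw [show x = k * (uS hF a b) * k⁻¹ by rw [← hab]; group, conj_pow, uS_pow_four, mul_one, mul_inv_cancel]
    · exact ⟨h1, Or.inr ⟨k, hk⟩⟩

theorem conj_mem_iff {G : Type*} [Group G] {M : Subgroup G} {g x : G} (hg : g ∈ M) :
    g * x * g⁻¹ ∈ M ↔ x ∈ M := by
  rw [M.mul_mem_cancel_right (inv_mem hg), M.mul_mem_cancel_left hg]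

variable {M : Subgroup (Cfsg.Sz F m)} {L : Subfield F}

include hF in
theorem smul_mem_Dl {g : Cfsg.Sz F m} (hg : g ∈ M) {p : Cfsg.suzukiOvoid F m} (hp : p ∈ Dl M) :
    g • p ∈ Dl M := by
  obtain ⟨h, hh, rfl⟩ := hp
  exact ⟨g * h, mul_mem hg hh, mul_smul _ _ _⟩

include hF in
theorem inf_mem_Dl : pt F m none ∈ Dl M := ⟨1, one_mem M, one_smul _ _⟩

include hF in
/-- The order of the subgroup. -/
theorem card_eq_orbit_mul :
    Nat.card M = Nat.card (Dl M) * Nat.card ↥(M ⊓ MulAction.stabilizer (Cfsg.Sz F m) (pt F m none)) := by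
  classical
  haveI := Fintype.ofFinite M
  haveI := Fintype.ofFinite (MulAction.orbit M (pt F m none))
  haveI := Fintype.ofFinite (MulAction.stabilizer M (pt F m none))
  have h := MulAction.card_orbit_mul_card_stabilizer_eq_card_group M (pt F m none)
  rw [← Nat.card_eq_fintype_card, ← Nat.card_eq_fintype_card, ← Nat.card_eq_fintype_card] at h
  rw [← h]
  congr 1
  · exact Nat.card_congr (Equiv.subtypeEquivRight fun p =>
      ⟨fun ⟨g, e⟩ => ⟨g.1, g.2, e⟩, fun ⟨g, hg, e⟩ => ⟨⟨g, hg⟩, e⟩⟩)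
  · exact Nat.card_congr
      { toFun := fun g => ⟨g.1.1, g.1.2, g.2⟩
        invFun := fun g => ⟨⟨g.1, g.2.1⟩, g.2.2⟩
        left_inv := fun g => rfl
        right_inv := fun g => rfl }

include hF in
/-- The stabiliser of the point at infinity. -/
theorem card_stab_inf_sub (hM : NF hF M L) :
    Nat.card ↥(M ⊓ MulAction.stabilizer (Cfsg.Sz F m) (pt F m none)) =
      Nat.card ↥(M ⊓ unip hF) * (Nat.card L - 1) := by
  classical
  haveI := Fintype.ofFinite L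
  have e1 : Nat.card L - 1 = Nat.card Lˣ := (Nat.card_units L).symm
  rw [e1, ← Nat.card_prod]
  symm
  let ι : Lˣ → Fˣ := Units.map (L.subtype : L →* F)
  refine Nat.card_eq_of_bijective (fun p : ↥(M ⊓ unip hF) × Lˣ => (⟨p.1.1 * tS hF (ι p.2), ?_, ?_⟩ :
    ↥(M ⊓ MulAction.stabilizer (Cfsg.Sz F m) (pt F m none)))) ⟨?_, ?_⟩
  · exact mul_mem p.1.2.1 (hM.torus _ (p.2 : L).2)
  · obtain ⟨a, b, e⟩ := p.1.2.2
    show (p.1.1 * tS hF (ι p.2)) • pt F m none = pt F m none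
    rw [mul_smul, tS_none, e, uS_none]
  · rintro ⟨⟨x, hx, a, b, rfl⟩, t⟩ ⟨⟨y, hy, c, d, rfl⟩, t'⟩ h
    obtain ⟨rfl, rfl, h3⟩ := uS_tS_inj hF (congrArg Subtype.val h)
    exact Prod.ext rfl (Units.map_injective (f := (L.subtype : L →* F)) Subtype.val_injective h3)
  · rintro ⟨x, hx, hfix⟩
    obtain ⟨a, b, t, -, -, ht, rfl⟩ := hM.inf x hx hfix
    refine ⟨⟨⟨uS hF a b, ?_, a, b, rfl⟩, Units.mk0 ⟨(t : F), ht⟩ fun e => t.ne_zero (congrArg Subtype.val e)⟩,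
      Subtype.ext ?_⟩
    · simpa using M.mul_mem hx (M.inv_mem (hM.torus t ht))
    · show uS hF a b * tS hF (ι _) = _
      congr 2
      exact Units.ext rfl

include hF in
theorem card_unip_cases (hM : NF hF M L) :
    Nat.card ↥(M ⊓ unip hF) = Nat.card L ∨ Nat.card ↥(M ⊓ unip hF) = Nat.card L ^ 2 := by
  rcases hM.dich with h | h
  · left
    symm
    refine Nat.card_eq_of_bijective (fun b : L => (⟨uS hF 0 b, (hM.center b).2 b.2, _, _, rfl⟩ : ↥(M ⊓ unip hF))) ⟨?_, ?_⟩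
    · exact fun b b' e => Subtype.ext (uS_inj hF (congrArg Subtype.val e)).2
    · rintro ⟨x, hx, a, b, rfl⟩
      have ha := h a b hx
      subst ha
      exact ⟨⟨b, (hM.center b).1 hx⟩, rfl⟩
  · right
    rw [sq, ← Nat.card_prod]
    symm
    refine Nat.card_eq_of_bijective (fun p : L × L =>
      (⟨uS hF p.1 p.2, h _ _ p.1.2 p.2.2, _, _, rfl⟩ : ↥(M ⊓ unip hF))) ⟨?_, ?_⟩
    · exact fun p p' e => Prod.ext (Subtype.ext (uS_inj hF (congrArg Subtype.val e)).1)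
        (Subtype.ext (uS_inj hF (congrArg Subtype.val e)).2)
    · rintro ⟨x, hx, a, b, rfl⟩
      obtain ⟨a', b', t, ha, hb, -, e⟩ := hM.inf _ hx (uS_none hF a b)
      obtain ⟨rfl, rfl, -⟩ := uS_tS_inj hF (a := a) (b := b) (t := 1) (a' := a') (b' := b') (t' := t)
        (by rw [map_one, mul_one]; exact e)
      exact ⟨(⟨a, ha⟩, ⟨b, hb⟩), rfl⟩

include hF in
/-- The other points of the orbit are at least as many as the `2`-elements at infinity. -/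
theorem card_unip_lt_orbit (hm : 1 ≤ m) (hM : NF hF M L) : Nat.card ↥(M ⊓ unip hF) + 1 ≤ Nat.card (Dl M) := by
  obtain ⟨g, hg, hgm⟩ := exists_move_inf hF hm hM.ns
  rw [← Finite.card_option]
  refine Nat.card_le_card_of_injective
    (fun o => Option.elim o (⟨pt F m none, inf_mem_Dl hF⟩ : Dl M)
      (fun u => ⟨(u : Cfsg.Sz F m) • g • pt F m none, smul_mem_Dl hF u.2.1 ⟨g, hg, rfl⟩⟩)) ?_
  have hu : ∀ u : ↥(M ⊓ unip hF), (u : Cfsg.Sz F m) • pt F m none = pt F m none := fun u => by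
    obtain ⟨a, b, e⟩ := u.2.2
    rw [e, uS_none]
  intro o o' h
  rcases o with _ | u <;> rcases o' with _ | u' <;> simp only [Option.elim, Subtype.mk.injEq] at h
  · rfl
  · exact absurd (MulAction.injective (u' : Cfsg.Sz F m) ((hu u').trans h)).symm hgm
  · exact absurd (MulAction.injective (u : Cfsg.Sz F m) (h.trans (hu u).symm)) hgm
  · refine congrArg some (Subtype.ext ?_)
    by_contra hne
    refine hgm (uSub_unique_fix hF (g := (u : Cfsg.Sz F m)⁻¹ * u') ?_ (fun e => hne (inv_mul_eq_one.1 e)) ?_)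
    · exact (M ⊓ unip hF).mul_mem ((M ⊓ unip hF).inv_mem u.2) u'.2 |>.2
    · rw [mul_smul, ← h, inv_smul_smul]

include hF in
/-- The elements of `2`-power order. -/
theorem card_two_elements (hm : 1 ≤ m) (hM : NF hF M L) :
    Nat.card {x : Cfsg.Sz F m // x ∈ M ∧ x ^ 4 = 1 ∧ x ≠ 1} + Nat.card (Dl M) =
      Nat.card (Dl M) * Nat.card ↥(M ⊓ unip hF) := by
  classical
  have hg : ∀ p : Dl M, ∃ g : M, (g : Cfsg.Sz F m) • pt F m none = p.1 := fun p => by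
    obtain ⟨g, hg, e⟩ := p.2
    exact ⟨⟨g, hg⟩, e⟩
  choose g hgp using hg
  let f : Dl M × {u : ↥(M ⊓ unip hF) // u ≠ 1} → {x : Cfsg.Sz F m // x ∈ M ∧ x ^ 4 = 1 ∧ x ≠ 1} := fun p =>
    ⟨(g p.1 : Cfsg.Sz F m) * p.2.1.1 * (g p.1 : Cfsg.Sz F m)⁻¹, by
      obtain ⟨a, b, e⟩ := p.2.1.2.2
      refine ⟨(conj_mem_iff (g p.1).2).2 p.2.1.2.1, ?_, fun h => p.2.2 (Subtype.ext (conj_eq_one_iff.1 h))⟩
      rw [conj_pow, e, uS_pow_four, mul_one, mul_inv_cancel]⟩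
  have hf : Function.Bijective f := by
    refine ⟨?_, ?_⟩
    · rintro ⟨p, u, hu⟩ ⟨p', u', hu'⟩ h
      have h' := congrArg Subtype.val h
      simp only [f] at h'
      have hfix : ∀ (p : Dl M) (u : ↥(M ⊓ unip hF)), ((g p : Cfsg.Sz F m) * u.1 * (g p : Cfsg.Sz F m)⁻¹) • p.1 = p.1 :=
        fun p u => by
          obtain ⟨a, b, e⟩ := u.2.2
          rw [← hgp p]
          exact conj_fix (e ▸ uS_none hF a b)
      have h4 : ((g p : Cfsg.Sz F m) * u.1 * (g p : Cfsg.Sz F m)⁻¹) ^ 4 = 1 := by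
        obtain ⟨a, b, e⟩ := u.2.2
        rw [conj_pow, e, uS_pow_four, mul_one, mul_inv_cancel]
      obtain ⟨w, -, -, hw⟩ := two_elem_fix hF hm h4 fun e => hu (Subtype.ext (conj_eq_one_iff.1 e))
      have hpp : p = p' := Subtype.ext ((hw _ (hfix p u)).trans (hw _ (h' ▸ hfix p' u')).symm)
      subst hpp
      exact Prod.ext rfl (Subtype.ext (Subtype.ext (mul_left_cancel (mul_right_cancel h'))))
    · rintro ⟨x, hx, h4, h1⟩
      obtain ⟨w, -, hwfix, hw⟩ := two_elem_fix hF hm h4 h1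
      -- the fixed point is in the orbit
      obtain ⟨j, hj2, hj1, hjfix⟩ := exists_involution_pow hF hm h4 h1
      obtain ⟨k, hk, e⟩ := isConj_involution hF hm hM.ns ((hM.center 1).2 (one_mem L)) (pow_mem hx j) hj2 hj1
      have hkp : x • k • pt F m none = k • pt F m none := hjfix _ (e ▸ conj_fix (uS_none hF 0 1))
      have hp : (k • pt F m none) ∈ Dl M := ⟨k, hk, rfl⟩
      have hy : ((g ⟨_, hp⟩ : Cfsg.Sz F m)⁻¹ * x * g ⟨_, hp⟩) • pt F m none = pt F m none := by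
        rw [mul_smul, mul_smul, hgp, hkp, inv_smul_eq_iff]
        exact (hgp ⟨_, hp⟩).symm
      have hyM : (g ⟨_, hp⟩ : Cfsg.Sz F m)⁻¹ * x * g ⟨_, hp⟩ ∈ M :=
        mul_mem (mul_mem (inv_mem (g ⟨_, hp⟩).2) hx) (g ⟨_, hp⟩).2
      have hy4 : ((g ⟨_, hp⟩ : Cfsg.Sz F m)⁻¹ * x * g ⟨_, hp⟩) ^ 4 = 1 := by
        rw [show (g ⟨_, hp⟩ : Cfsg.Sz F m)⁻¹ * x * g ⟨_, hp⟩ = (g ⟨_, hp⟩ : Cfsg.Sz F m)⁻¹ * x * ((g ⟨_, hp⟩ : Cfsg.Sz F m)⁻¹)⁻¹ by
          rw [inv_inv], conj_pow, h4, mul_one, mul_inv_cancel]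
      have hu : (g ⟨_, hp⟩ : Cfsg.Sz F m)⁻¹ * x * g ⟨_, hp⟩ ∈ unip hF := by
        obtain ⟨a, b, t, hab⟩ := stab_inf hF hm hy
        refine ⟨a, b, ?_⟩
        rw [hab] at hy4 ⊢
        by_cases ht : t = 1
        · rw [ht, map_one, mul_one]
        exfalso
        obtain ⟨c, d, hcd⟩ := exists_conj_tS hF a b ht
        refine ((semi_iff hF hm).1 ⟨fun e => ?_, Or.inr ⟨uS hF c d, ?_⟩⟩) hy4
        · rw [← hcd, conj_eq_one_iff] at e
          exact ht (tS_injective hF (e.trans (map_one _).symm))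
        · rw [mem_cj, ← hcd]
          exact (mem_tSub hF).2 ⟨t, by group⟩
      refine ⟨(⟨_, hp⟩, ⟨⟨_, hyM, hu⟩, fun e => ?_⟩), Subtype.ext (by simp [f, mul_assoc])⟩
      have e' := congrArg Subtype.val e
      simp only [Subgroup.coe_one] at e'
      exact h1 (by rw [show x = (g ⟨_, hp⟩ : Cfsg.Sz F m) * ((g ⟨_, hp⟩ : Cfsg.Sz F m)⁻¹ * x * g ⟨_, hp⟩) *
        (g ⟨_, hp⟩ : Cfsg.Sz F m)⁻¹ by group, e', mul_one, mul_inv_cancel])
  rw [← Nat.card_eq_of_bijective f hf, Nat.card_prod]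
  haveI := Fintype.ofFinite ↥(M ⊓ unip hF)
  rw [Nat.card_eq_fintype_card (α := {u : ↥(M ⊓ unip hF) // u ≠ 1}), Fintype.card_subtype_compl,
    Fintype.card_subtype_eq, ← Nat.card_eq_fintype_card]
  have : 0 < Nat.card ↥(M ⊓ unip hF) := Nat.card_pos
  obtain ⟨j, hj⟩ : ∃ j, Nat.card ↥(M ⊓ unip hF) = j + 1 := ⟨_, (Nat.sub_add_cancel this).symm⟩
  rw [hj, Nat.add_sub_cancel]
  ring

include hF in
/-- Involutions by fixed point. -/
theorem exists_inv_equiv (hm : 1 ≤ m) (hM : NF hF M L) :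
    ∃ Φ : Dl M × {b : L // b ≠ 0} ≃ {z : Cfsg.Sz F m // z ∈ M ∧ z ^ 2 = 1 ∧ z ≠ 1},
      ∀ p, (Φ p : Cfsg.Sz F m) • p.1.1 = p.1.1 := by
  classical
  have hg : ∀ p : Dl M, ∃ g : M, (g : Cfsg.Sz F m) • pt F m none = p.1 := fun p => by
    obtain ⟨g, hg, e⟩ := p.2
    exact ⟨⟨g, hg⟩, e⟩
  choose g hgp using hg
  have hsq : ∀ b : F, uS hF 0 b ^ 2 = 1 := fun b => by rw [uS_sq]; simp [uS_one]
  let f : Dl M × {b : L // b ≠ 0} → {z : Cfsg.Sz F m // z ∈ M ∧ z ^ 2 = 1 ∧ z ≠ 1} := fun p =>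
    ⟨(g p.1 : Cfsg.Sz F m) * uS hF 0 (p.2.1 : F) * (g p.1 : Cfsg.Sz F m)⁻¹,
      (conj_mem_iff (g p.1).2).2 ((hM.center _).2 p.2.1.2),
      conj_sq_one _ _ (hsq _) fun e => p.2.2 (Subtype.ext (uS_inj hF (e.trans (uS_one hF).symm)).2)⟩
  have hfix : ∀ p, (f p : Cfsg.Sz F m) • p.1.1 = p.1.1 := fun p => by
    show ((g p.1 : Cfsg.Sz F m) * uS hF 0 _ * (g p.1 : Cfsg.Sz F m)⁻¹) • p.1.1 = p.1.1
    rw [← hgp p.1]
    exact conj_fix (uS_none hF _ _)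
  have hf : Function.Bijective f := by
    refine ⟨fun p p' h => ?_, fun z => ?_⟩
    · obtain ⟨w, -, hw⟩ := involution_fix hF hm (f p).2.2.1 (f p).2.2.2
      have hpp : p.1 = p'.1 := Subtype.ext ((hw _ (hfix p)).trans (hw _ (h ▸ hfix p')).symm)
      have h' := congrArg Subtype.val h
      simp only [f, hpp] at h'
      exact Prod.ext hpp (Subtype.ext (Subtype.ext (uS_inj hF (mul_left_cancel (mul_right_cancel h'))).2))
    · obtain ⟨z, hz, h2, h1⟩ := z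
      obtain ⟨k, hk, e⟩ := isConj_involution hF hm hM.ns ((hM.center 1).2 (one_mem L)) hz h2 h1
      have hzp : z • k • pt F m none = k • pt F m none := e ▸ conj_fix (uS_none hF 0 1)
      have hp : (k • pt F m none) ∈ Dl M := ⟨k, hk, rfl⟩
      obtain ⟨c2, c1⟩ := conj_sq_one ((g ⟨_, hp⟩ : Cfsg.Sz F m)⁻¹) z h2 h1
      obtain ⟨b, hb, eb⟩ := involution_eq_uS hF hm c2 c1 (by
        rw [inv_inv, mul_smul, mul_smul, hgp, hzp, inv_smul_eq_iff]
        exact (hgp ⟨_, hp⟩).symm)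
      have hbL : b ∈ L := (hM.center b).1 (eb ▸ (conj_mem_iff (inv_mem (g ⟨_, hp⟩).2)).2 hz)
      refine ⟨(⟨_, hp⟩, ⟨⟨b, hbL⟩, fun e => hb (congrArg Subtype.val e)⟩), Subtype.ext ?_⟩
      show (g ⟨_, hp⟩ : Cfsg.Sz F m) * uS hF 0 b * (g ⟨_, hp⟩ : Cfsg.Sz F m)⁻¹ = z
      rw [← eb]; group
  exact ⟨Equiv.ofBijective f hf, hfix⟩

include hF in
theorem semi_conj (hm : 1 ≤ m) {g x : Cfsg.Sz F m} (h : Semi hF x) : Semi hF (g * x * g⁻¹) := by
  rw [semi_iff hF hm, conj_pow] at *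
  exact fun e => h (conj_eq_one_iff.1 e)

theorem invCount_conj {g x : Cfsg.Sz F m} (hg : g ∈ M) : invCount M (g * x * g⁻¹) = invCount M x := by
  refine Nat.card_congr (Equiv.subtypeEquiv (MulAut.conj g⁻¹).toEquiv fun z => ?_)
  show _ ↔ g⁻¹ * z * g⁻¹⁻¹ ∈ M ∧ (g⁻¹ * z * g⁻¹⁻¹) ^ 2 = 1 ∧ g⁻¹ * z * g⁻¹⁻¹ ≠ 1 ∧
    g⁻¹ * z * g⁻¹⁻¹ * x * (g⁻¹ * z * g⁻¹⁻¹)⁻¹ = x⁻¹
  rw [conj_mem_iff (inv_mem hg), conj_pow, conj_eq_one_iff, ne_eq, ne_eq, conj_eq_one_iff]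
  refine and_congr_right fun _ => and_congr_right fun _ => and_congr_right fun _ => ⟨fun h => ?_, fun h => ?_⟩
  · calc g⁻¹ * z * g⁻¹⁻¹ * x * (g⁻¹ * z * g⁻¹⁻¹)⁻¹ = g⁻¹ * (z * (g * x * g⁻¹) * z⁻¹) * g := by group
      _ = x⁻¹ := by rw [h]; group
  · calc z * (g * x * g⁻¹) * z⁻¹ = g * (g⁻¹ * z * g⁻¹⁻¹ * x * (g⁻¹ * z * g⁻¹⁻¹)⁻¹) * g⁻¹ := by group
      _ = (g * x * g⁻¹)⁻¹ := by rw [h]; group

include hF in
/-- The involutions inverting an element of a torus. -/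
theorem invCount_eq (hm : 1 ≤ m) {x : Cfsg.Sz F m} (hx : Semi hF x) :
    (Odd (Nat.card ↥(N[x] ⊓ M)) → invCount M x = 0) ∧
      (Even (Nat.card ↥(N[x] ⊓ M)) → invCount M x = Nat.card ↥(Dt M x)) := by
  classical
  have hmem : ∀ z : {z : Cfsg.Sz F m // z ∈ M ∧ z ^ 2 = 1 ∧ z ≠ 1 ∧ z * x * z⁻¹ = x⁻¹}, z.1 ∈ N[x] ⊓ M := fun z =>
    ⟨mem_normalizer_of_conj hF hm hx (by rw [z.2.2.2.2]; exact inv_mem (self_mem_centralizer x)), z.2.1⟩
  constructor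
  · intro hodd
    haveI : IsEmpty {z : Cfsg.Sz F m // z ∈ M ∧ z ^ 2 = 1 ∧ z ≠ 1 ∧ z * x * z⁻¹ = x⁻¹} := ⟨fun z => by
      have h := Nat.eq_one_of_dvd_coprimes (Nat.coprime_two_left.2 hodd) (orderOf_dvd_of_pow_eq_one z.2.2.1)
        (Subgroup.orderOf_dvd_natCard (s := N[x] ⊓ M) (hmem z))
      exact z.2.2.2.1 (orderOf_eq_one_iff.1 h)⟩
    exact Nat.card_of_isEmpty
  · intro heven
    haveI := Fact.mk Nat.prime_two
    obtain ⟨⟨y, hyN, hyM⟩, hy⟩ := exists_prime_orderOf_dvd_card' 2 (even_iff_two_dvd.1 heven)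
    rw [← Subgroup.orderOf_coe] at hy
    have hy2 : y ^ 2 = 1 := hy ▸ pow_orderOf_eq_one y
    have hy1 : y ≠ 1 := fun e => by simp [e] at hy
    have hyi : y⁻¹ = y := inv_eq_of_mul_eq_one_right (by rw [← sq, hy2])
    have hyC : y ∉ C[x] := fun h => by
      have h2 : orderOf y ∣ Nat.card C[x] := Subgroup.orderOf_dvd_natCard _ h
      rw [hy] at h2
      exact Nat.not_even_iff_odd.2 (semi_odd_card hF hm hx) (even_iff_two_dvd.2 h2)
    have hall : ∀ d ∈ C[x], y * d * y⁻¹ = d⁻¹ := fun d hd => by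
      by_cases hd1 : d = 1
      · rw [hd1, mul_one, mul_inv_cancel, inv_one]
      obtain ⟨hs, e⟩ := semi_eq hF hm hx hd hd1
      exact involution_inverts hF hm hs hy2 hy1 (e ▸ hyN)
    symm
    refine Nat.card_eq_of_bijective (fun d : ↥(Dt M x) =>
      (⟨y * d.1, mul_mem hyM d.2.2, ?_, fun e => hyC (eq_inv_of_mul_eq_one_left e ▸ inv_mem d.2.1), ?_⟩ :
        {z : Cfsg.Sz F m // z ∈ M ∧ z ^ 2 = 1 ∧ z ≠ 1 ∧ z * x * z⁻¹ = x⁻¹})) ⟨?_, ?_⟩
    · calc (y * (d : Cfsg.Sz F m)) ^ 2 = (y * d * y⁻¹) * (y * y) * d := by rw [sq]; group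
        _ = 1 := by rw [hall _ d.2.1, ← sq, hy2, mul_one, inv_mul_cancel]
    · calc y * (d : Cfsg.Sz F m) * x * (y * d)⁻¹ = y * ((d : Cfsg.Sz F m) * x * (d : Cfsg.Sz F m)⁻¹) * y⁻¹ := by group
        _ = x⁻¹ := by
          rw [Subgroup.mem_centralizer_singleton_iff.1 d.2.1, mul_inv_cancel_right]
          exact hall x (self_mem_centralizer x)
    · exact fun d d' h => Subtype.ext (mul_left_cancel (congrArg Subtype.val h))
    · rintro ⟨z, hz, hz2, hz1, hzx⟩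
      refine ⟨⟨y * z, ?_, mul_mem hyM hz⟩, Subtype.ext (by show y * (y * z) = z; rw [← mul_assoc, ← sq, hy2, one_mul])⟩
      refine Subgroup.mem_centralizer_singleton_iff.2 (mul_inv_eq_iff_eq_mul.1 ?_)
      calc y * z * x * (y * z)⁻¹ = (y * (z * x * z⁻¹) * y⁻¹) := by group
        _ = x := by rw [hzx, hall _ (inv_mem (self_mem_centralizer x)), inv_inv]

include hF in
theorem semi_of_cl (hm : 1 ≤ m) {x y : Cfsg.Sz F m} (hx : Semi hF x) (hy : y ∈ cl M x) : Semi hF y := by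
  obtain ⟨-, h1, g, -, hg⟩ := hy
  have h := (semi_eq hF hm hx hg fun e => h1 (by
    rw [show y = g * (g⁻¹ * y * g) * g⁻¹ by group, e, mul_one, mul_inv_cancel])).1
  have := semi_conj hF hm (g := g) h
  rwa [show g * (g⁻¹ * y * g) * g⁻¹ = y by group] at this

include hF in
theorem cl_disjoint (hm : 1 ≤ m) {x y : Cfsg.Sz F m} (hx : Semi hF x) (hy : Semi hF y) (hyM : y ∈ M)
    (hn : y ∉ cl M x) : Disjoint (cl M x) (cl M y) := by
  rw [Set.disjoint_left]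
  rintro z ⟨hzM, hz1, g, hg, hgx⟩ ⟨-, -, g', hg', hgy⟩
  refine hn ⟨hyM, hy.1, g'⁻¹ * g, mul_mem (inv_mem hg') hg, ?_⟩
  have hne : g⁻¹ * z * g ≠ 1 := fun e => hz1 (by
    rw [show z = g * (g⁻¹ * z * g) * g⁻¹ by group, e, mul_one, mul_inv_cancel])
  have hne' : g'⁻¹ * z * g' ≠ 1 := fun e => hz1 (by
    rw [show z = g' * (g'⁻¹ * z * g') * g'⁻¹ by group, e, mul_one, mul_inv_cancel])
  rw [← (semi_eq hF hm hx hgx hne).2, Subgroup.mem_centralizer_singleton_iff]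
  have h := Subgroup.mem_centralizer_singleton_iff.1 hgy
  have hc : Commute y (g'⁻¹ * z * g') := h.symm
  calc (g'⁻¹ * g)⁻¹ * y * (g'⁻¹ * g) * (g⁻¹ * z * g) = g⁻¹ * (g' * (y * (g'⁻¹ * z * g')) * g'⁻¹) * g := by group
    _ = g⁻¹ * (g' * ((g'⁻¹ * z * g') * y) * g'⁻¹) * g := by rw [hc.eq]
    _ = g⁻¹ * z * g * ((g'⁻¹ * g)⁻¹ * y * (g'⁻¹ * g)) := by group

include hF in
/-- The number of conjugates. -/
theorem card_cl (hm : 1 ≤ m) {x : Cfsg.Sz F m} (hx : Semi hF x) :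
    Nat.card (cl M x) * Nat.card ↥(N[x] ⊓ M) + Nat.card M = Nat.card M * Nat.card ↥(Dt M x) := by
  classical
  have hg : ∀ y : cl M x, ∃ g : M, (g : Cfsg.Sz F m)⁻¹ * y.1 * g ∈ C[x] := fun y => by
    obtain ⟨g, hg, e⟩ := y.2.2.2
    exact ⟨⟨g, hg⟩, e⟩
  choose g hg using hg
  have key : ∀ n ∈ N[x], ∀ d ∈ C[x], n⁻¹ * d * n ∈ C[x] := fun n hn d hd => by
    have := (Subgroup.mem_normalizer_iff.1 (inv_mem hn) d).1 hd
    rwa [inv_inv] at this
  let f : cl M x × ↥(N[x] ⊓ M) → M × {d : ↥(Dt M x) // d ≠ 1} := fun p =>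
    (g p.1 * ⟨p.2.1, p.2.2.2⟩, ⟨⟨(p.2 : Cfsg.Sz F m)⁻¹ * ((g p.1 : Cfsg.Sz F m)⁻¹ * p.1.1 * g p.1) * p.2,
      key _ p.2.2.1 _ (hg p.1),
      M.mul_mem (M.mul_mem (M.inv_mem (Subgroup.mem_inf.1 p.2.2).2) (M.mul_mem (M.mul_mem (M.inv_mem (g p.1).2) p.1.2.1) (g p.1).2))
        (Subgroup.mem_inf.1 p.2.2).2⟩,
      fun e => p.1.2.2.1 (by
        have e' := congrArg Subtype.val e
        simp only [Subgroup.coe_one] at e'
        rw [show p.1.1 = (g p.1 : Cfsg.Sz F m) * (p.2 : Cfsg.Sz F m) * ((p.2 : Cfsg.Sz F m)⁻¹ *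
          ((g p.1 : Cfsg.Sz F m)⁻¹ * p.1.1 * g p.1) * p.2) * ((g p.1 : Cfsg.Sz F m) * (p.2 : Cfsg.Sz F m))⁻¹ by group,
          e', mul_one, mul_inv_cancel])⟩)
  have hf : Function.Bijective f := by
    refine ⟨?_, ?_⟩
    · rintro ⟨y, n⟩ ⟨y', n'⟩ h
      have h1 : (g y : Cfsg.Sz F m) * n = g y' * n' := congrArg (fun q : M × _ => ((q.1 : M) : Cfsg.Sz F m)) h
      have h2 : (n : Cfsg.Sz F m)⁻¹ * ((g y : Cfsg.Sz F m)⁻¹ * y.1 * g y) * n =
          (n' : Cfsg.Sz F m)⁻¹ * ((g y' : Cfsg.Sz F m)⁻¹ * y'.1 * g y') * n' :=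
        congrArg (fun q : M × {d : ↥(Dt M x) // d ≠ 1} => ((q.2.1 : ↥(Dt M x)) : Cfsg.Sz F m)) h
      have hy : y = y' := Subtype.ext (by
        calc y.1 = (g y : Cfsg.Sz F m) * n * ((n : Cfsg.Sz F m)⁻¹ * ((g y : Cfsg.Sz F m)⁻¹ * y.1 * g y) * n) *
            ((g y : Cfsg.Sz F m) * n)⁻¹ := by group
          _ = _ := by rw [h2, h1]; group)
      subst hy
      exact Prod.ext rfl (Subtype.ext (mul_left_cancel h1))
    · rintro ⟨γ, ⟨d, hd⟩, hd1⟩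
      have hd1' : d ≠ 1 := fun e => hd1 (Subtype.ext e)
      have hy : (γ : Cfsg.Sz F m) * d * (γ : Cfsg.Sz F m)⁻¹ ∈ cl M x :=
        ⟨(conj_mem_iff γ.2).2 hd.2, fun e => hd1' (conj_eq_one_iff.1 e), γ, γ.2, by
          rw [show (γ : Cfsg.Sz F m)⁻¹ * ((γ : Cfsg.Sz F m) * d * (γ : Cfsg.Sz F m)⁻¹) * γ = d by group]
          exact hd.1⟩
      have hn : (g ⟨_, hy⟩ : Cfsg.Sz F m)⁻¹ * γ ∈ N[x] := by
        obtain ⟨hsd, ed⟩ := semi_eq hF hm hx hd.1 hd1'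
        rw [← ed]
        refine mem_normalizer_of_conj hF hm hsd ?_
        rw [ed]
        have := hg ⟨_, hy⟩
        rwa [show (g ⟨_, hy⟩ : Cfsg.Sz F m)⁻¹ * γ * d * ((g ⟨_, hy⟩ : Cfsg.Sz F m)⁻¹ * γ)⁻¹ =
          (g ⟨_, hy⟩ : Cfsg.Sz F m)⁻¹ * ((γ : Cfsg.Sz F m) * d * (γ : Cfsg.Sz F m)⁻¹) * g ⟨_, hy⟩ by group]
      refine ⟨(⟨_, hy⟩, ⟨_, Subgroup.mem_inf.2 ⟨hn, mul_mem (inv_mem (g ⟨_, hy⟩).2) γ.2⟩⟩), Prod.ext ?_ (Subtype.ext (Subtype.ext ?_))⟩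
      · exact Subtype.ext (mul_inv_cancel_left _ _)
      · show ((g ⟨_, hy⟩ : Cfsg.Sz F m)⁻¹ * γ)⁻¹ * ((g ⟨_, hy⟩ : Cfsg.Sz F m)⁻¹ *
          ((γ : Cfsg.Sz F m) * d * (γ : Cfsg.Sz F m)⁻¹) * g ⟨_, hy⟩) * ((g ⟨_, hy⟩ : Cfsg.Sz F m)⁻¹ * γ) = d
        group
  have h := Nat.card_eq_of_bijective f hf
  rw [Nat.card_prod, Nat.card_prod] at h
  haveI := Fintype.ofFinite ↥(Dt M x)
  rw [Nat.card_eq_fintype_card (α := {d : ↥(Dt M x) // d ≠ 1}), Fintype.card_subtype_compl,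
    Fintype.card_subtype_eq, ← Nat.card_eq_fintype_card] at h
  have h0 : 0 < Nat.card ↥(Dt M x) := Nat.card_pos
  obtain ⟨j, hj⟩ : ∃ j, Nat.card ↥(Dt M x) = j + 1 := ⟨_, (Nat.sub_add_cancel h0).symm⟩
  rw [hj, Nat.add_sub_cancel] at h
  rw [h, hj]
  ring

include hF in
theorem invCount_cl (hm : 1 ≤ m) {x y : Cfsg.Sz F m} (hx : Semi hF x) (hy : y ∈ cl M x) :
    (Odd (Nat.card ↥(N[x] ⊓ M)) → invCount M y = 0) ∧
      (Even (Nat.card ↥(N[x] ⊓ M)) → invCount M y = Nat.card ↥(Dt M x)) := by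
  obtain ⟨hyM, hy1, g, hg, hgx⟩ := hy
  have hne : g⁻¹ * y * g ≠ 1 := fun e => hy1 (by
    rw [show y = g * (g⁻¹ * y * g) * g⁻¹ by group, e, mul_one, mul_inv_cancel])
  obtain ⟨hs, e⟩ := semi_eq hF hm hx hgx hne
  have h := invCount_eq hF hm (M := M) hs
  rw [← invCount_conj (M := M) (x := g⁻¹ * y * g) hg, show g * (g⁻¹ * y * g) * g⁻¹ = y by group] at h
  rw [Dt, e] at h
  exact h

open scoped Classical in
include hF in
/-- Pairs of involutions with distinct fixed points. -/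
theorem sum_invCount (hm : 1 ≤ m) (hM : NF hF M L) :
    (∑ x ∈ (Finset.univ : Finset (Cfsg.Sz F m)).filter (fun x => x ∈ M ∧ x ^ 4 ≠ 1), invCount M x) +
        Nat.card (Dl M) * (Nat.card L - 1) ^ 2 =
      Nat.card (Dl M) ^ 2 * (Nat.card L - 1) ^ 2 := by
  obtain ⟨Φ, hΦ⟩ := exists_inv_equiv hF hm hM
  let J := {z : Cfsg.Sz F m // z ∈ M ∧ z ^ 2 = 1 ∧ z ≠ 1}
  let Q := {p : J × J // (Φ.symm p.1).1 ≠ (Φ.symm p.2).1}
  let R := Σ x : ↥((Finset.univ : Finset (Cfsg.Sz F m)).filter fun x => x ∈ M ∧ x ^ 4 ≠ 1),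
    {z : Cfsg.Sz F m // z ∈ M ∧ z ^ 2 = 1 ∧ z ≠ 1 ∧ z * x.1 * z⁻¹ = x.1⁻¹}
  have hfp : ∀ (z : J) (r : Cfsg.suzukiOvoid F m), z.1 • r = r → r = (Φ.symm z).1.1 := fun z r hr => by
    obtain ⟨w, -, hw⟩ := involution_fix hF hm z.2.2.1 z.2.2.2
    have h := hΦ (Φ.symm z)
    rw [Equiv.apply_symm_apply] at h
    exact (hw r hr).trans (hw _ h).symm
  have hQ : Nat.card Q = Nat.card R := by
    have hne4 : ∀ z z' : J, (Φ.symm z).1 ≠ (Φ.symm z').1 → (z.1 * z'.1) ^ 4 ≠ 1 := by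
      intro z z' hne h4
      by_cases h1 : z.1 * z'.1 = 1
      · have : z = z' := Subtype.ext (by
          rw [eq_inv_of_mul_eq_one_left h1, inv_eq_of_mul_eq_one_right (by rw [← sq, z'.2.2.1])])
        exact hne (by rw [this])
      obtain ⟨w, -, hwfix, hw⟩ := two_elem_fix hF hm h4 h1
      -- the two involutions fix that point
      have hzi : z.1⁻¹ = z.1 := inv_eq_of_mul_eq_one_right (by rw [← sq, z.2.2.1])
      have hzi' : z'.1⁻¹ = z'.1 := inv_eq_of_mul_eq_one_right (by rw [← sq, z'.2.2.1])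
      have ha : z.1 • (w • pt F m none) = w • pt F m none := by
        refine hw _ ?_
        have hinv : (z.1 * z'.1)⁻¹ • (w • pt F m none) = w • pt F m none := by rw [inv_smul_eq_iff, hwfix]
        rw [← mul_smul, show z.1 * z'.1 * z.1 = z.1 * (z.1 * z'.1)⁻¹ by rw [mul_inv_rev, hzi, hzi', mul_assoc],
          mul_smul, hinv]
      have hb : z'.1 • (w • pt F m none) = w • pt F m none := by
        have h := hwfix
        rw [mul_smul] at h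
        exact MulAction.injective z.1 (h.trans ha.symm)
      exact hne (Subtype.ext ((hfp z _ ha).symm.trans (hfp z' _ hb)))
    refine Nat.card_eq_of_bijective (fun p : Q =>
      (⟨⟨p.1.1.1 * p.1.2.1, Finset.mem_filter.2 ⟨Finset.mem_univ _, mul_mem p.1.1.2.1 p.1.2.2.1, hne4 _ _ p.2⟩⟩,
        ⟨p.1.1.1, p.1.1.2.1, p.1.1.2.2.1, p.1.1.2.2.2, by
          rw [mul_inv_rev, ← mul_assoc, ← sq, p.1.1.2.2.1, one_mul,
            inv_eq_of_mul_eq_one_right (show p.1.2.1 * p.1.2.1 = 1 by rw [← sq, p.1.2.2.2.1])]⟩⟩ : R)) ⟨?_, ?_⟩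
    · intro p p' h
      have h1 : p.1.1.1 * p.1.2.1 = p'.1.1.1 * p'.1.2.1 := congrArg (fun r : R => r.1.1) h
      have h2 : p.1.1.1 = p'.1.1.1 := congrArg (fun r : R => r.2.1) h
      rw [h2] at h1
      exact Subtype.ext (Prod.ext (Subtype.ext h2) (Subtype.ext (mul_left_cancel h1)))
    · rintro ⟨⟨x, hx⟩, z, hzM, hz2, hz1, hzx⟩
      obtain ⟨hxM, hx4⟩ := (Finset.mem_filter.1 hx).2
      have hzi : z⁻¹ = z := inv_eq_of_mul_eq_one_right (by rw [← sq, hz2])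
      have hx1 : x ≠ 1 := fun e => hx4 (by rw [e, one_pow])
      have hz'2 : (z * x) ^ 2 = 1 := by
        calc (z * x) ^ 2 = (z * x * z⁻¹) * (z * z) * x := by rw [sq]; group
          _ = 1 := by rw [hzx, ← sq, hz2, mul_one, inv_mul_cancel]
      have hz'1 : z * x ≠ 1 := fun e => by
        have hxz : x = z := by rw [eq_inv_of_mul_eq_one_right e, hzi]
        exact hx4 (by rw [hxz, pow_mul z 2 2, hz2, one_pow])
      refine ⟨⟨(⟨z, hzM, hz2, hz1⟩, ⟨z * x, mul_mem hzM hxM, hz'2, hz'1⟩), fun e => ?_⟩, ?_⟩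
      · have ha := hΦ (Φ.symm ⟨z, hzM, hz2, hz1⟩)
        rw [Equiv.apply_symm_apply] at ha
        have hb := hΦ (Φ.symm ⟨z * x, mul_mem hzM hxM, hz'2, hz'1⟩)
        rw [Equiv.apply_symm_apply, ← e] at hb
        -- both involutions lie in one unipotent group
        obtain ⟨w, hwM, hwp⟩ := (Φ.symm ⟨z, hzM, hz2, hz1⟩).1.2
        rw [← hwp] at ha hb
        obtain ⟨c2, c1⟩ := conj_sq_one w⁻¹ z hz2 hz1
        obtain ⟨d2, d1⟩ := conj_sq_one w⁻¹ (z * x) hz'2 hz'1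
        obtain ⟨b₁, -, eb₁⟩ := involution_eq_uS hF hm c2 c1 (by rw [inv_inv, mul_smul, mul_smul, ha, inv_smul_smul])
        obtain ⟨b₂, -, eb₂⟩ := involution_eq_uS hF hm d2 d1 (by rw [inv_inv, mul_smul, mul_smul, hb, inv_smul_smul])
        refine hx4 ?_
        have he : w⁻¹ * x * w⁻¹⁻¹ = uS hF 0 b₁ * uS hF 0 b₂ := by
          rw [← eb₁, ← eb₂]
          calc w⁻¹ * x * w⁻¹⁻¹ = w⁻¹ * ((z * z) * x) * w⁻¹⁻¹ := by rw [← sq, hz2, one_mul]
            _ = _ := by group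
        have := congrArg (· ^ 4) he
        simp only [conj_pow] at this
        rw [uS_mul, uS_pow_four] at this
        exact conj_eq_one_iff.1 this
      · refine Sigma.subtype_ext (Subtype.ext ?_) rfl
        show z * (z * x) = x
        rw [← mul_assoc, ← sq, hz2, one_mul]
  have hR : Nat.card R = ∑ x ∈ (Finset.univ : Finset (Cfsg.Sz F m)).filter (fun x => x ∈ M ∧ x ^ 4 ≠ 1),
      invCount M x := by
    rw [Nat.card_sigma]
    exact Finset.sum_coe_sort _ (fun x => invCount M x)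
  rw [← hR, ← hQ]
  haveI := Fintype.ofFinite L
  let β := {b : L // b ≠ 0}
  have e : Q ≃ {pp : Dl M × Dl M // pp.1 ≠ pp.2} × (β × β) :=
    { toFun := fun p => (⟨((Φ.symm p.1.1).1, (Φ.symm p.1.2).1), p.2⟩, (Φ.symm p.1.1).2, (Φ.symm p.1.2).2)
      invFun := fun w => ⟨(Φ (w.1.1.1, w.2.1), Φ (w.1.1.2, w.2.2)), by simpa using w.1.2⟩
      left_inv := fun p => by simp
      right_inv := fun w => by simp }
  rw [Nat.card_congr e, Nat.card_prod, Nat.card_prod,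
    show Nat.card β = Nat.card L - 1 by
      rw [Nat.card_eq_fintype_card (α := β), Fintype.card_subtype_compl, Fintype.card_subtype_eq, Nat.card_eq_fintype_card]]
  haveI := Fintype.ofFinite (Dl M)
  have hpp : Nat.card {pp : Dl M × Dl M // pp.1 ≠ pp.2} + Nat.card (Dl M) = Nat.card (Dl M) ^ 2 := by
    have h : Nat.card {pp : Dl M × Dl M // pp.1 = pp.2} = Nat.card (Dl M) :=
      (Nat.card_congr
        { toFun := fun a : Dl M => (⟨(a, a), rfl⟩ : {pp : Dl M × Dl M // pp.1 = pp.2})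
          invFun := fun pp => pp.1.1
          left_inv := fun a => rfl
          right_inv := fun pp => Subtype.ext (Prod.ext rfl pp.2) }).symm
    conv_lhs => rw [← h]
    rw [sq, ← Nat.card_prod, ← Nat.card_sum]
    exact Nat.card_congr ((Equiv.sumComm _ _).trans (Equiv.sumCompl _))
  rw [← hpp]
  ring

end CfsgLib.Lie.Suzuki
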