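import Cfsg.Agent.Lib.Lie.Suzuki.MinDegree

/-!
# Traces, normal forms and the classes of the unipotent elements of a Suzuki group

* `mtr`, `mtr_nf`, `mtr_eq_zero_iff`: traces
* `exists_nf`, `exists_conj_tS`: normal forms
* `exists_add_th`: the kernel of the trace is the image of `w ↦ θ w + w`
* `conj_four`, `conj_two`: classes in the unipotent group
* `exists_two_z`, `exists_kappa`: the two counting lemmas
-/

set_option autoImplicit false

namespace CfsgLib.Lie.Suzuki

open CfsgLib.Lie.Suzuki.MinDegree CfsgLib.Recog.SuzukiFix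
open scoped Matrix

variable {F : Type*} [Field F] [CharP F 2] {m : ℕ}

/-- The trace of an element. -/
def mtr (g : Cfsg.Sz F m) : F :=
  ((g : Matrix.SpecialLinearGroup (Fin 4) F) : Matrix (Fin 4) (Fin 4) F).trace

theorem mtr_mul_comm (g h : Cfsg.Sz F m) : mtr (g * h) = mtr (h * g) := Matrix.trace_mul_comm _ _

theorem mtr_conj (g h : Cfsg.Sz F m) : mtr (h * g * h⁻¹) = mtr g := by
  rw [mtr_mul_comm, ← mul_assoc, inv_mul_cancel, one_mul]

variable [Fintype F] (hF : Fintype.card F = 2 ^ (2 * m + 1))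

include hF in
theorem mtr_inv (hm : 1 ≤ m) (g : Cfsg.Sz F m) : mtr g⁻¹ = mtr g := by
  have hs := (sz_star4 (th F m) (th_apply m) (lie_mem_of hF hm g)).1
  show (((g⁻¹ : Cfsg.Sz F m) : Matrix.SpecialLinearGroup (Fin 4) F) : Matrix (Fin 4) (Fin 4) F).trace = _
  rw [Subgroup.coe_inv, Matrix.SpecialLinearGroup.coe_inv]
  exact (congrArg Matrix.trace hs.adjugate_eq).trans (trace_flipT _)

theorem mtr_nf (s : Fˣ) (A B : F) :
    mtr (wS hF * tS hF s * uS hF A B) = (s : F) * fQ (th F m) A B + th F m s * th F m A / s := by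
  show (wM * tM (th F m) (s : F) * uM (th F m) A B).trace = _
  simp [Matrix.trace, wM, tM, uM, Matrix.mul_apply, Fin.sum_univ_four]
  ring

theorem mtr_nf_one (A B : F) :
    mtr (wS hF * uS hF A B) = fQ (th F m) A B + th F m A := by
  have h := mtr_nf hF 1 A B
  rwa [map_one, mul_one, Units.val_one, map_one, one_mul, one_mul, div_one] at h

include hF in
theorem mtr_eq_zero_iff (hm : 1 ≤ m) (g : Cfsg.Sz F m) : mtr g = 0 ↔ g ^ 4 = 1 := by
  obtain ⟨M, hM⟩ : ∃ M, M = ((g : Matrix.SpecialLinearGroup (Fin 4) F) : Matrix (Fin 4) (Fin 4) F) := ⟨_, rfl⟩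
  have h2 : (2 : F) = 0 := CharTwo.two_eq_zero
  constructor
  · intro h
    obtain ⟨hs, hst⟩ := sz_star4 (th F m) (th_apply m) (lie_mem_of hF hm g)
    rw [show ((Matrix.SpecialLinearGroup.toGL (g : Matrix.SpecialLinearGroup (Fin 4) F) : GL (Fin 4) F) :
      Matrix (Fin 4) (Fin 4) F) = M from hM ▸ rfl] at hs hst
    have htr : M.trace = 0 := hM ▸ h
    have hadj : M.adjugate.trace = 0 := by rw [hs.adjugate_eq, trace_flipT, htr]
    have he : e2 M = 0 := by
      rw [hs.e2_eq, hst, RingHom.mapMatrix_apply, show (M.map (th F m)).trace = th F m M.trace by simp [Matrix.trace], htr,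
        map_zero]
    have hdet : ((1 : F) • (1 : Matrix (Fin 4) (Fin 4) F) + M).det = 0 := by
      rw [det_smul_add, hadj, he, htr, hs.det_eq_one]
      linear_combination h2
    obtain ⟨v, hv, hfix⟩ := Matrix.exists_mulVec_eq_zero_iff.mpr hdet
    rw [one_smul, Matrix.add_mulVec, Matrix.one_mulVec] at hfix
    have hfix' : M *ᵥ v = v := funext fun i => by
      have := congrFun hfix i
      simp only [Pi.add_apply, Pi.zero_apply] at this
      exact (CharTwo.add_eq_zero.1 this).symm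
    have h4 := pow_four_of_fixed (th F m) (th_apply m) (lie_mem_of hF hm g) hv (show ((g : Matrix.SpecialLinearGroup (Fin 4) F) : Matrix (Fin 4) (Fin 4) F) *ᵥ v = v by rw [← hM]; exact hfix')
    rw [← map_pow] at h4
    exact Subtype.ext (Matrix.SpecialLinearGroup.toGL_injective (h4.trans (map_one _).symm))
  · intro h
    have h4 : M ^ 4 = 1 := by
      have := congrArg (fun k : Cfsg.Sz F m => ((k : Matrix.SpecialLinearGroup (Fin 4) F) : Matrix (Fin 4) (Fin 4) F)) h
      simpa [hM] using this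
    have hnil : IsNilpotent (M - 1) := by
      refine ⟨4, ?_⟩
      have h' := sub_pow_char_pow_of_commute (p := 2) 2 (Commute.one_right M)
      norm_num at h'
      rw [h', h4, sub_self]
    have h0 := (Matrix.isNilpotent_trace_of_isNilpotent hnil).eq_zero
    rw [Matrix.trace_sub, Matrix.trace_one, Fintype.card_fin] at h0
    show ((g : Matrix.SpecialLinearGroup (Fin 4) F) : Matrix (Fin 4) (Fin 4) F).trace = 0
    rw [← hM]
    push_cast at h0
    linear_combination h0 + 2 * h2

include hF in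
theorem ratio_ne_one {t : Fˣ} (ht : t ≠ 1) : (t : F) ^ 2 / th F m t ≠ 1 := fun h => by
  rw [div_eq_one_iff_eq (θ_ne_zero t.ne_zero)] at h
  have h2 := congrArg (th F m) h
  rw [map_pow, th_tits hF, ← h] at h2
  exact ht (Units.ext (frobenius_inj F 2 (by
    simp only [frobenius_def, Units.val_one, one_pow]
    exact mul_left_cancel₀ (pow_ne_zero 2 t.ne_zero) (by rw [mul_one, ← sq, h2]))))

/-- An element of the Borel subgroup outside the unipotent group is conjugate to a torus element. -/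
theorem exists_conj_tS (a b : F) {t : Fˣ} (ht : t ≠ 1) :
    ∃ c d, uS hF c d * tS hF t * (uS hF c d)⁻¹ = uS hF a b * tS hF t := by
  have h2 : (2 : F) = 0 := CharTwo.two_eq_zero
  have hκ := ratio_ne_one hF ht
  have hν : th F m (t : F) ≠ 1 := fun e =>
    ht (Units.ext ((th F m).injective (e.trans (map_one _).symm)))
  obtain ⟨k, hk⟩ : ∃ k, k = (t : F) ^ 2 / th F m t := ⟨_, rfl⟩
  rw [← hk] at hκ
  obtain ⟨c, hc⟩ : ∃ c, c * (1 + k) = a := ⟨a / (1 + k), div_mul_cancel₀ _ fun e => hκ (by grind)⟩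
  obtain ⟨d, hd⟩ : ∃ d, d * (1 + th F m t) = b + th F m t * (th F m c * c) + th F m c * (k * c) :=
    ⟨_, div_mul_cancel₀ _ fun e => hν (by grind)⟩
  refine ⟨c, d, ?_⟩
  rw [mul_assoc]
  have e : tS hF t * (uS hF c d)⁻¹ = uS hF (k * c) (th F m t * (d + th F m c * c)) * tS hF t := by
    rw [uS_inv, hk, ← conj_uS, inv_mul_cancel_right]
  rw [e, ← mul_assoc, uS_mul]
  congr 2 <;> grind

/-- The normal form of an element moving the point at infinity. -/
theorem exists_nf (hm : 1 ≤ m) {g : Cfsg.Sz F m} (hg : g • pt F m none ≠ pt F m none) :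
    ∃ a b, IsConj g (wS hF * uS hF a b) := by
  obtain ⟨_ | ⟨x, y⟩, ho⟩ := (pt F m).surjective (g • pt F m none)
  · exact absurd ho.symm hg
  obtain ⟨a, b, t, h⟩ := stab_inf hF hm (g := wS hF * ((uS hF x y)⁻¹ * g * uS hF x y)) (by
    rw [mul_smul, mul_smul, mul_smul, uS_none, ← ho, ← uS_zero hF x y, inv_smul_smul, wS_zero])
  have e : (uS hF x y)⁻¹ * g * uS hF x y = wS hF * (uS hF a b * tS hF t) := by
    rw [← h, ← mul_assoc (wS hF), wS_mul_self, one_mul]
  have hsq : Function.Surjective fun t : Fˣ => t ^ 2 := Finite.surjective_of_injective fun s t h =>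
    Units.ext (frobenius_inj F 2 (by simpa [frobenius_def] using congrArg Units.val h))
  obtain ⟨s, rfl⟩ := hsq t
  refine ⟨((s⁻¹ : Fˣ) : F) ^ 2 / th F m (s⁻¹ : Fˣ) * a, th F m (s⁻¹ : Fˣ) * b, isConj_iff.2 ⟨tS hF s * (uS hF x y)⁻¹, ?_⟩⟩
  rw [mul_inv_rev, inv_inv, show tS hF s * (uS hF x y)⁻¹ * g * (uS hF x y * (tS hF s)⁻¹) =
    tS hF s * ((uS hF x y)⁻¹ * g * uS hF x y) * (tS hF s)⁻¹ by group, e, ← conj_uS, map_inv, inv_inv]
  have hw : tS hF s * wS hF = wS hF * (tS hF s)⁻¹ := by
    rw [← wS_tS, ← mul_assoc, ← mul_assoc, wS_mul_self, one_mul]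
  calc tS hF s * (wS hF * (uS hF a b * tS hF (s ^ 2))) * (tS hF s)⁻¹
      = wS hF * ((tS hF s)⁻¹ * uS hF a b * (tS hF (s ^ 2) * (tS hF s)⁻¹)) := by
        rw [← mul_assoc (tS hF s), hw]; group
    _ = wS hF * ((tS hF s)⁻¹ * uS hF a b * tS hF s) := by
        rw [← map_inv, ← map_mul, sq, mul_inv_cancel_right]
    _ = _ := rfl

/-- The two classes of order four meet each fibre of the trace. -/
theorem tr2_th (x : F) : tr2 F (th F m x) = tr2 F x := by
  have : ∀ n, tr2 F (x ^ 2 ^ n) = tr2 F x := fun n => by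
    induction n with
    | zero => simp
    | succ n ih => rw [pow_succ, pow_mul, tr2_sq, ih]
  rw [th_apply]
  exact this (m + 1)

include hF in
theorem fix_th {x : F} (h : th F m x = x) : x = 0 ∨ x = 1 := by
  have h2 := congrArg (th F m) h
  rw [th_tits hF, h] at h2
  have : x * (x - 1) = 0 := by linear_combination h2
  rcases mul_eq_zero.1 this with h' | h'
  · exact Or.inl h'
  · exact Or.inr (sub_eq_zero.1 h')

/-- The map `w ↦ θ w + w`. -/
noncomputable def artin (F : Type*) [Field F] [CharP F 2] (m : ℕ) : F →+ F :=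
  (th F m).toAddMonoidHom + AddMonoidHom.id F

theorem artin_apply (w : F) : artin F m w = th F m w + w := rfl

include hF in
/-- The kernel of the absolute trace. -/
theorem exists_add_th {v : F} (h : tr2 F v = 0) : ∃ w, th F m w + w = v := by
  classical
  have hle : (artin F m).range ≤ (tr2 F).ker := by
    rintro _ ⟨w, rfl⟩
    rw [AddMonoidHom.mem_ker, artin_apply, map_add, tr2_th, CharTwo.add_self_eq_zero]
  have hk : Nat.card (artin F m).ker ≤ 2 := by
    let f : (artin F m).ker → Bool := fun w => decide ((w : F) = 0)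
    have hf : Function.Injective f := by
      intro w w' e
      have h1 := fix_th hF (CharTwo.add_eq_zero.1 (show th F m (w : F) + w = 0 from w.2))
      have h2 := fix_th hF (CharTwo.add_eq_zero.1 (show th F m (w' : F) + w' = 0 from w'.2))
      refine Subtype.ext ?_
      simp only [f, decide_eq_decide] at e
      rcases h1 with h1 | h1 <;> rcases h2 with h2 | h2
      · rw [h1, h2]
      · exact absurd (e.1 h1) (by rw [h2]; exact one_ne_zero)
      · exact absurd (e.2 h2) (by rw [h1]; exact one_ne_zero)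
      · rw [h1, h2]
    exact (Nat.card_le_card_of_injective f hf).trans (by simp)
  have hr : 2 ≤ Nat.card (tr2 F).range := by
    obtain ⟨b, hb⟩ := exists_tr2_ne (one_ne_zero (α := F))
    exact Finite.one_lt_card_iff_nontrivial.2
      ⟨⟨0, zero_mem _⟩, ⟨_, _, rfl⟩, fun e => hb (congrArg Subtype.val e).symm⟩
  have h1 := (artin F m).ker.index_mul_card
  have h2 := (tr2 F).ker.index_mul_card
  rw [AddSubgroup.index_ker] at h1 h2
  have hcard : Nat.card (tr2 F).ker ≤ Nat.card (artin F m).range := by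
    have e1 := Nat.mul_le_mul_left (Nat.card (artin F m).range) hk
    have e2 := Nat.mul_le_mul_right (Nat.card (tr2 F).ker) hr
    omega
  have heq : (artin F m).range = (tr2 F).ker := SetLike.coe_injective
    (Set.eq_of_subset_of_ncard_le hle (by
      rw [← Nat.card_coe_set_eq, ← Nat.card_coe_set_eq]; exact hcard) (Set.toFinite _))
  have hv : v ∈ (artin F m).range := heq ▸ h
  obtain ⟨w, hw⟩ := hv
  exact ⟨w, hw⟩

include hF in
theorem tr2_one : tr2 F (1 : F) = 1 := by
  rcases zmod_two_cases (tr2 F (1 : F)) with h | h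
  · obtain ⟨w, hw⟩ := exists_add_th hF h
    exact absurd hw (th_add_ne_one hF w)
  · exact h

/-- Classes of elements of order four with the same first parameter. -/
theorem conj_same {a b b' : F} (ha : a ≠ 0) (h : tr2 F ((b + b') / (th F m a * a)) = 0) :
    IsConj (uS hF a b) (uS hF a b') := by
  obtain ⟨w, hw⟩ := exists_add_th hF h
  have h2 : (2 : F) = 0 := CharTwo.two_eq_zero
  have h3 : th F m a * a ≠ 0 := mul_ne_zero (θ_ne_zero ha) ha
  refine isConj_iff.2 ⟨uS hF (a * w) 0, ?_⟩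
  rw [conj_uS_uS, map_mul]
  congr 1
  rw [eq_div_iff h3] at hw
  grind

/-- Any element of order four is conjugate to a given one or to its inverse. -/
theorem conj_four {a c : F} (ha : a ≠ 0) (hc : c ≠ 0) (b d : F) :
    IsConj (uS hF a b) (uS hF c d) ∨ IsConj (uS hF a b) (uS hF c d)⁻¹ := by
  obtain ⟨t, ht⟩ := torusRatio_surjective hF (c / a) (div_ne_zero hc ha)
  have h1 : IsConj (uS hF a b) (uS hF c (th F m t * b)) :=
    isConj_iff.2 ⟨tS hF t, by rw [conj_uS, ht, div_mul_cancel₀ _ ha]⟩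
  have h3 : th F m c * c ≠ 0 := mul_ne_zero (θ_ne_zero hc) hc
  rcases zmod_two_cases (tr2 F ((th F m t * b + d) / (th F m c * c))) with h | h
  · exact Or.inl (h1.trans (conj_same hF hc h))
  · refine Or.inr (h1.trans ?_)
    rw [uS_inv]
    refine conj_same hF hc ?_
    rw [← add_assoc, add_div, div_self h3, map_add, h, tr2_one hF, CharTwo.add_self_eq_zero]

/-- All involutions of the unipotent group are conjugate. -/
theorem conj_two {b d : F} (hb : b ≠ 0) (hd : d ≠ 0) : IsConj (uS hF (0 : F) b) (uS hF 0 d) := by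
  obtain ⟨t, ht⟩ := th_unit_surjective (m := m) (d / b) (div_ne_zero hd hb)
  exact isConj_iff.2 ⟨tS hF t, by rw [conj_uS, mul_zero, ht, div_mul_cancel₀ _ hb]⟩

include hF in
/-- Normal forms with given trace. -/
theorem exists_level {τ z : F} (hz : z ≠ 0) (h : tr2 F (τ * z ^ 2 * th F m z + z) = 1) :
    ∃ B, fQ (th F m) z⁻¹ B + th F m z⁻¹ = τ := by
  have hθz := θ_ne_zero (θ := th F m) hz
  obtain ⟨A, hA⟩ : ∃ A, A = z⁻¹ := ⟨_, rfl⟩
  rw [← hA]
  have hA0 : A ≠ 0 := hA ▸ inv_ne_zero hz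
  have hθA := θ_ne_zero (θ := th F m) hA0
  obtain ⟨β, hβ⟩ := exists_add_th hF (v := (τ + th F m A + th F m A * A ^ 2) / (th F m A * A ^ 2)) (by
    rw [hA, map_inv₀, show (τ + (th F m z)⁻¹ + (th F m z)⁻¹ * z⁻¹ ^ 2) / ((th F m z)⁻¹ * z⁻¹ ^ 2) =
      τ * z ^ 2 * th F m z + z ^ 2 + 1 by field_simp]
    rw [map_add, map_add] at *
    rw [tr2_sq, h, tr2_one hF, CharTwo.add_self_eq_zero])
  refine ⟨A * th F m A * β, ?_⟩
  rw [eq_div_iff (mul_ne_zero hθA (pow_ne_zero 2 hA0))] at hβ
  simp only [fQ, map_mul, th_tits hF A]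
  have h2 : (2 : F) = 0 := CharTwo.two_eq_zero
  grind

include hF in
theorem card_ge_eight (hm : 1 ≤ m) : 8 ≤ Fintype.card F := by
  rw [hF]
  calc 8 = 2 ^ 3 := rfl
    _ ≤ 2 ^ (2 * m + 1) := Nat.pow_le_pow_right (by norm_num) (by omega)

include hF in
theorem exists_notMem (hm : 1 ≤ m) (s : Finset F) (hs : s.card ≤ 7) : ∃ x, x ∉ s := by
  obtain ⟨x, -, hx⟩ := Finset.exists_mem_notMem_of_card_lt_card (s := s) (t := Finset.univ)
    (lt_of_le_of_lt hs (by rw [Finset.card_univ]; exact card_ge_eight hF hm))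
  exact ⟨x, hx⟩

include hF in
/-- There are at least two parameters for each trace. -/
theorem exists_two_z (hm : 1 ≤ m) {τ : F} (hτ : τ ≠ 0) (z₀ : F) :
    ∃ z, z ≠ 0 ∧ z ≠ z₀ ∧ tr2 F (τ * z ^ 2 * th F m z + z) = 1 := by
  classical
  by_contra hne
  push Not at hne
  have hθτ := θ_ne_zero (θ := th F m) hτ
  have hf : ∀ z, z ≠ z₀ → tr2 F (τ * z ^ 2 * th F m z + z) = 0 := fun z hz => by
    rcases eq_or_ne z 0 with rfl | hz0
    · simp
    · exact (zmod_two_cases _).resolve_right (hne z hz0 hz)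
  obtain ⟨w₁, hw₁⟩ := (th_bij (F := F) (m := m)).2 (τ / th F m τ)
  obtain ⟨w, hw⟩ := exists_notMem hF hm {0, z₀, w₁} (Finset.card_le_three.trans (by norm_num))
  simp only [Finset.mem_insert, Finset.mem_singleton, not_or] at hw
  obtain ⟨hw0, hwz, hw1⟩ := hw
  obtain ⟨K, hK⟩ : ∃ K, K = τ * th F m w + th F m τ * th F m w ^ 2 := ⟨_, rfl⟩
  have hK0 : K ≠ 0 := fun e => hw1 ((th F m).injective (by
    rw [hw₁, eq_div_iff hθτ]
    have h := CharTwo.add_eq_zero.1 (hK.symm.trans e)
    exact mul_left_cancel₀ (θ_ne_zero (θ := th F m) hw0) (by linear_combination -h)))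
  have hB : ∀ z, tr2 F (τ * (z + w) ^ 2 * th F m (z + w) + (z + w)) + tr2 F (τ * z ^ 2 * th F m z + z) +
      tr2 F (τ * w ^ 2 * th F m w + w) = tr2 F (z ^ 2 * K) := fun z => by
    have h2 : (2 : F) = 0 := CharTwo.two_eq_zero
    have e : tr2 F (τ * w ^ 2 * th F m z) = tr2 F (z ^ 2 * (th F m τ * th F m w ^ 2)) := by
      rw [← tr2_th (m := m) (τ * w ^ 2 * th F m z)]
      congr 1
      rw [map_mul, map_mul, map_pow, th_tits hF]
      ring
    rw [hK, mul_add, map_add (tr2 F) (z ^ 2 * (τ * th F m w)), ← e, ← map_add, ← map_add, ← map_add]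
    congr 1
    rw [map_add (th F m)]
    grind
  obtain ⟨b, hb⟩ := exists_tr2_ne hK0
  obtain ⟨z, rfl⟩ : ∃ z, z ^ 2 = b := Finite.surjective_of_injective (frobenius_inj F 2) b
  have hz : tr2 F (z ^ 2 * K) ≠ 0 := by rwa [mul_comm]
  obtain ⟨y, hy⟩ := exists_notMem hF hm {z₀, z₀ + w, z₀ + z, z₀ + w + z}
    (Finset.card_le_four.trans (by norm_num))
  simp only [Finset.mem_insert, Finset.mem_singleton, not_or] at hy
  obtain ⟨y1, y2, y3, y4⟩ := hy
  have h0 : ∀ u, u ≠ z₀ → u ≠ z₀ + w → tr2 F (u ^ 2 * K) = 0 := fun u hu1 hu2 => by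
    rw [← hB u, hf u hu1, hf w hwz, hf (u + w) (fun e => hu2 (by rw [← e, add_assoc, CharTwo.add_self_eq_zero, add_zero])),
      add_zero, add_zero]
  have e1 := h0 y y1 y2
  have e2 := h0 (y + z) (fun e => y3 (by rw [← e, add_assoc, CharTwo.add_self_eq_zero, add_zero]))
    (fun e => y4 (by rw [← e, add_assoc, CharTwo.add_self_eq_zero, add_zero]))
  rw [CharTwo.add_sq, add_mul, map_add, e1, zero_add] at e2
  exact hz e2

include hF in
/-- The parameters used for the elements of order four. -/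
theorem exists_kappa (hm : 1 ≤ m) {c₁ c₂ : F} (h1 : c₁ ≠ 0) (h2 : c₂ ≠ 0) (h12 : c₁ ≠ c₂) :
    ∃ κ, κ ≠ 0 ∧ κ ≠ 1 ∧ tr2 F (th F m κ * κ) = 0 ∧
      (tr2 F ((κ⁻¹ + 1) / c₁) = 1 ∨ tr2 F ((κ⁻¹ + 1) / c₂) = 1) := by
  classical
  have htwo : (2 : F) = 0 := CharTwo.two_eq_zero
  by_contra hne
  push Not at hne
  have hshift : ∀ x, tr2 F (th F m (x + 1) * (x + 1)) = tr2 F (th F m x * x) + 1 := fun x => by
    rw [map_add (th F m), map_one, show (th F m x + 1) * (x + 1) = th F m x * x + ((th F m x + x) + 1) by ring,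
      map_add, map_add, map_add, tr2_th, tr2_one hF, CharTwo.add_self_eq_zero, zero_add]
  -- half of the field
  have hhalf : Nat.card {x : F // tr2 F (th F m x * x) = 0} * 2 = Fintype.card F := by
    have e : {x : F // tr2 F (th F m x * x) = 0} ≃ {x : F // ¬ tr2 F (th F m x * x) = 0} :=
      { toFun := fun x => ⟨x.1 + 1, by rw [hshift, x.2]; decide⟩
        invFun := fun x => ⟨x.1 + 1, by
          rw [hshift, (zmod_two_cases _).resolve_left x.2]; decide⟩
        left_inv := fun x => Subtype.ext (by simp [add_assoc, CharTwo.add_self_eq_zero])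
        right_inv := fun x => Subtype.ext (by simp [add_assoc, CharTwo.add_self_eq_zero]) }
    rw [mul_two]
    nth_rw 2 [Nat.card_congr e]
    rw [← Nat.card_sum, Nat.card_congr (Equiv.sumCompl _), Nat.card_eq_fintype_card]
  let φ : F → F →+ ZMod 2 := fun c => (tr2 F).comp (AddMonoidHom.mulRight c⁻¹)
  have hφ : ∀ c x, φ c x = tr2 F (x / c) := fun c x => by simp [φ, div_eq_mul_inv]
  let W := (φ c₁).ker ⊓ (φ c₂).ker
  -- the inverses lie in `W`
  let g : {x : F // tr2 F (th F m x * x) = 0} → Option W := fun x =>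
    if hx : x.1 = 0 then none else some ⟨x.1⁻¹ + 1, by
      have hx1 : x.1 ≠ 1 := fun e => by
        have := x.2
        rw [e, map_one, one_mul, tr2_one hF] at this
        exact one_ne_zero this
      obtain ⟨e1, e2⟩ := hne x.1 hx hx1 x.2
      exact ⟨show φ c₁ _ = 0 by rw [hφ]; exact (zmod_two_cases _).resolve_right e1,
        show φ c₂ _ = 0 by rw [hφ]; exact (zmod_two_cases _).resolve_right e2⟩⟩
  have hg : Function.Injective g := by
    intro x y h
    simp only [g] at h
    split_ifs at h with hx hy hy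
    · exact Subtype.ext (hx.trans hy.symm)
    · have := congrArg Subtype.val (Option.some.inj h)
      exact Subtype.ext (inv_injective (add_right_cancel this))
  have hgc := Nat.card_le_card_of_injective g hg
  rw [Finite.card_option] at hgc
  -- `W` has index at least four
  have hi : ∀ c, c ≠ 0 → 2 ≤ (φ c).ker.index := fun c hc => by
    rw [AddSubgroup.index_ker]
    obtain ⟨b, hb⟩ := exists_tr2_ne (inv_ne_zero hc)
    exact Finite.one_lt_card_iff_nontrivial.2 ⟨⟨0, zero_mem _⟩, ⟨_, b, rfl⟩, fun e => hb (by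
      have : (0 : ZMod 2) = φ c b := congrArg Subtype.val e
      rw [hφ, div_eq_mul_inv, mul_comm] at this
      exact this.symm)⟩
  have hrel : 2 ≤ W.relIndex (φ c₁).ker := by
    refine Nat.two_le_iff _ |>.2 ⟨AddSubgroup.index_ne_zero_of_finite, fun e => ?_⟩
    rw [AddSubgroup.relIndex_eq_one] at e
    have hle : (φ c₁).ker ≤ (φ c₂).ker := e.trans inf_le_right
    obtain ⟨b, hb⟩ := exists_tr2_ne (a := c₁⁻¹ + c₂⁻¹)
      fun e => h12 (inv_injective (CharTwo.add_eq_zero.1 e))
    rw [add_mul, map_add, mul_comm c₁⁻¹, mul_comm c₂⁻¹, ← div_eq_mul_inv, ← div_eq_mul_inv] at hb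
    have heq : (φ c₁).ker = (φ c₂).ker := SetLike.coe_injective (Set.eq_of_subset_of_ncard_le hle (by
      have a1 := (φ c₁).ker.index_mul_card
      have a2 := (φ c₂).ker.index_mul_card
      have b1 := hi c₁ h1
      have b2 := hi c₂ h2
      have u1 : (φ c₁).ker.index ≤ 2 := by
        rw [AddSubgroup.index_ker]
        exact (Nat.card_le_card_of_injective _ Subtype.val_injective).trans (by simp)
      rw [← Nat.card_coe_set_eq, ← Nat.card_coe_set_eq]
      have e1 := Nat.mul_le_mul_right (Nat.card (φ c₂).ker) b2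
      have e2 := Nat.mul_le_mul_right (Nat.card (φ c₁).ker) u1
      show Nat.card (φ c₂).ker ≤ Nat.card (φ c₁).ker
      omega) (Set.toFinite _))
    rcases zmod_two_cases (tr2 F (b / c₁)) with h | h
    · have hm : b ∈ (φ c₂).ker := heq ▸ (show b ∈ (φ c₁).ker by rw [AddMonoidHom.mem_ker, hφ]; exact h)
      rw [AddMonoidHom.mem_ker, hφ] at hm
      exact hb (by rw [h, hm, add_zero])
    · rcases zmod_two_cases (tr2 F (b / c₂)) with h' | h'
      · have hm : b ∈ (φ c₁).ker := heq.symm ▸ (show b ∈ (φ c₂).ker by rw [AddMonoidHom.mem_ker, hφ]; exact h')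
        rw [AddMonoidHom.mem_ker, hφ, h] at hm
        exact one_ne_zero hm
      · exact hb (by rw [h, h', CharTwo.add_self_eq_zero])
  have hW : 4 ≤ W.index := by
    rw [← AddSubgroup.relIndex_mul_index (show W ≤ (φ c₁).ker from inf_le_left)]
    exact Nat.mul_le_mul hrel (hi c₁ h1)
  have h4 := W.index_mul_card
  rw [Nat.card_eq_fintype_card (α := F)] at h4
  have h8 := card_ge_eight hF hm
  have := Nat.mul_le_mul_right (Nat.card W) hW
  omega

end CfsgLib.Lie.Suzuki
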